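import Groth.Agent.MultT.PiChart
import Groth.Agent.MultT.FibreGlobal
import Groth.Agent.MultT.GaloisDiag
import Mathlib

/-!
# Multiplicative type from a jointly surjective flat family
-/

set_option autoImplicit false
set_option linter.style.haveILetI false
set_option synthInstance.maxHeartbeats 400000

universe u

open TensorProduct PrimeSpectrum

noncomputable section

namespace Groth.Agent.MTBridge

variable {R : Type u} [CommRing R] {A : Type u} [CommRing A] [HopfAlgebra R A]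

open Groth.Agent.MultT

/-- Two diagonalisations over algebras with points over the same prime have the same type. -/
theorem nonempty_mulEquiv_of_comap {R₁ R₂ : Type u} [CommRing R₁] [CommRing R₂] [Algebra R R₁] [Algebra R R₂]
    {M₁ M₂ : Type u} [CommGroup M₁] [CommGroup M₂] (e₁ : R₁ ⊗[R] A ≃ₐc[R₁] MonoidAlgebra R₁ M₁)
    (e₂ : R₂ ⊗[R] A ≃ₐc[R₂] MonoidAlgebra R₂ M₂) (q₁ : PrimeSpectrum R₁) (q₂ : PrimeSpectrum R₂)
    (h : q₁.comap (algebraMap R R₁) = q₂.comap (algebraMap R R₂)) : Nonempty (M₁ ≃* M₂) := by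
  let z := q₁.comap (algebraMap R R₁)
  haveI : q₁.asIdeal.LiesOver z.asIdeal := ⟨rfl⟩
  haveI : q₂.asIdeal.LiesOver z.asIdeal := ⟨congrArg PrimeSpectrum.asIdeal h⟩
  let K₁ := q₁.asIdeal.ResidueField
  let K₂ := q₂.asIdeal.ResidueField
  let a₁ : z.asIdeal.ResidueField →ₐ[R] K₁ :=
    Ideal.ResidueField.mapₐ z.asIdeal q₁.asIdeal (Algebra.ofId R R₁) (q₁.asIdeal.over_def z.asIdeal)
  let a₂ : z.asIdeal.ResidueField →ₐ[R] K₂ :=
    Ideal.ResidueField.mapₐ z.asIdeal q₂.asIdeal (Algebra.ofId R R₂) (q₂.asIdeal.over_def z.asIdeal)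
  letI : Algebra z.asIdeal.ResidueField K₁ := a₁.toRingHom.toAlgebra
  letI : Algebra z.asIdeal.ResidueField K₂ := a₂.toRingHom.toAlgebra
  obtain ⟨K, _, i₁, i₂, hi⟩ : ∃ (K : Type u) (_ : Field K) (i₁ : R₁ →+* K) (i₂ : R₂ →+* K),
      i₁.comp (algebraMap R R₁) = i₂.comp (algebraMap R R₂) := by
    obtain ⟨m, hm⟩ := Ideal.exists_maximal (K₁ ⊗[z.asIdeal.ResidueField] K₂)
    haveI := hm
    let K := (K₁ ⊗[z.asIdeal.ResidueField] K₂) ⧸ m
    letI : Field K := Ideal.Quotient.field m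
    let i₁ : R₁ →+* K := (Ideal.Quotient.mk m).comp
      (((Algebra.TensorProduct.includeLeftRingHom : K₁ →+* K₁ ⊗[z.asIdeal.ResidueField] K₂)).comp (algebraMap R₁ K₁))
    let i₂ : R₂ →+* K := (Ideal.Quotient.mk m).comp
      (((Algebra.TensorProduct.includeRight : K₂ →ₐ[z.asIdeal.ResidueField] K₁ ⊗[z.asIdeal.ResidueField] K₂)).toRingHom.comp
        (algebraMap R₂ K₂))
    have hi : i₁.comp (algebraMap R R₁) = i₂.comp (algebraMap R R₂) := by
      refine RingHom.ext fun r => congrArg (Ideal.Quotient.mk m) ?_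
      show algebraMap R₁ K₁ (algebraMap R R₁ r) ⊗ₜ[z.asIdeal.ResidueField] (1 : K₂) =
        (1 : K₁) ⊗ₜ[z.asIdeal.ResidueField] algebraMap R₂ K₂ (algebraMap R R₂ r)
      rw [← IsScalarTower.algebraMap_apply, ← IsScalarTower.algebraMap_apply, ← a₁.commutes, ← a₂.commutes,
        show a₁ (algebraMap R z.asIdeal.ResidueField r) = algebraMap R z.asIdeal.ResidueField r • (1 : K₁) by
          rw [Algebra.smul_def, mul_one]; rfl,
        show a₂ (algebraMap R z.asIdeal.ResidueField r) = algebraMap R z.asIdeal.ResidueField r • (1 : K₂) by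
          rw [Algebra.smul_def, mul_one]; rfl,
        TensorProduct.smul_tmul]
    exact ⟨K, inferInstance, i₁, i₂, hi⟩
  letI : Algebra R K := (i₁.comp (algebraMap R R₁)).toAlgebra
  letI : Algebra R₁ K := i₁.toAlgebra
  letI : Algebra R₂ K := i₂.toAlgebra
  haveI : IsScalarTower R R₁ K := .of_algebraMap_eq fun r => rfl
  haveI : IsScalarTower R R₂ K := .of_algebraMap_eq fun r => RingHom.congr_fun hi r
  obtain ⟨f₁, -, -⟩ := exists_bialgEquiv_stage e₁ (IsScalarTower.toAlgHom R R₁ K)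
  obtain ⟨f₂, -, -⟩ := exists_bialgEquiv_stage e₂ (IsScalarTower.toAlgHom R R₂ K)
  exact nonempty_mulEquiv (f₁.symm.trans f₂)

/-- **A group diagonalised by a finite jointly surjective flat family is of multiplicative type.** -/
theorem isMultType_of_flat_cover {ι : Type u} [Finite ι] (Ri : ι → Type u) [∀ i, CommRing (Ri i)]
    [∀ i, Algebra R (Ri i)] [∀ i, Module.Flat R (Ri i)]
    (hcov : ∀ p : PrimeSpectrum R, ∃ i q, PrimeSpectrum.comap (algebraMap R (Ri i)) q = p)
    (M : ι → Type u) [∀ i, CommGroup (M i)]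
    (e : ∀ i, Ri i ⊗[R] A ≃ₐc[Ri i] MonoidAlgebra (Ri i) (M i)) : SGA3b.IsMultType R A := by
  classical
  haveI := Fintype.ofFinite ι
  have key : ∀ p : PrimeSpectrum R, ∃ f : R, f ∉ p.asIdeal ∧
      SGA3b.IsMultTypeConst (Localization.Away f) (Localization.Away f ⊗[R] A) := by
    intro p
    obtain ⟨i₀, q₀, hq₀⟩ := hcov p
    let bad := {i : ι // ¬ Nonempty (M i ≃* M i₀)}
    let B := ∀ i : bad, Ri i.1
    let g : PrimeSpectrum B → PrimeSpectrum R := PrimeSpectrum.comap (algebraMap R B)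
    have hmem : ∀ z, z ∈ Set.range g ↔ ∃ (i : bad) (q : PrimeSpectrum (Ri i.1)),
        PrimeSpectrum.comap (algebraMap R (Ri i.1)) q = z := by
      intro z
      constructor
      · rintro ⟨P, rfl⟩
        obtain ⟨i, q, rfl⟩ := PrimeSpectrum.exists_comap_evalRingHom_eq P
        exact ⟨i, q, rfl⟩
      · rintro ⟨i, q, rfl⟩
        exact ⟨PrimeSpectrum.comap (Pi.evalRingHom (fun i : bad => Ri i.1) i) q, rfl⟩
    have hclosed : IsClosed (Set.range g) := by
      refine PrimeSpectrum.isClosed_range_of_stableUnderSpecialization _ fun x y hxy hx => ?_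
      obtain ⟨i, qi, hqi⟩ := (hmem x).1 hx
      obtain ⟨j, qj, hqj⟩ := hcov y
      have hle : x.asIdeal ≤ y.asIdeal := (PrimeSpectrum.le_iff_specializes x y).2 hxy
      haveI : qj.asIdeal.LiesOver y.asIdeal := ⟨by rw [← hqj]; rfl⟩
      obtain ⟨Q, -, hQp, hQ⟩ := Ideal.exists_ideal_le_liesOver_of_le (q := y.asIdeal) qj.asIdeal hle
      haveI := hQp
      obtain ⟨σ⟩ := nonempty_mulEquiv_of_comap (e i.1) (e j) qi ⟨Q, hQp⟩
        (by rw [hqi]; exact PrimeSpectrum.ext hQ.over)
      exact (hmem y).2 ⟨⟨j, fun ⟨τ⟩ => i.2 ⟨σ.trans τ⟩⟩, qj, hqj⟩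
    have hp : p ∉ Set.range g := by
      intro hp
      obtain ⟨i, q, hq⟩ := (hmem p).1 hp
      exact i.2 (nonempty_mulEquiv_of_comap (e i.1) (e i₀) q q₀ (hq.trans hq₀.symm))
    obtain ⟨_, ⟨f, rfl⟩, hfp, hfsub⟩ :=
      PrimeSpectrum.isTopologicalBasis_basic_opens.exists_subset_of_mem_open
        (show p ∈ (Set.range g)ᶜ from hp) hclosed.isOpen_compl
    refine ⟨f, hfp, ?_⟩
    let L := Localization.Away f
    let good := {i : ι // Nonempty (M i ≃* M i₀)}
    let Si : good → Type u := fun i => L ⊗[R] Ri i.1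
    have hSi : ∀ i : good, Module.Flat L (Si i) := fun i => inferInstanceAs (Module.Flat L (L ⊗[R] Ri i.1))
    let T := ∀ i, Si i
    haveI : Module.Flat L T := by
      haveI := hSi
      exact Module.Flat.of_linearEquiv (DirectSum.linearEquivFunOnFintype L good Si).symm
    have hff : Module.FaithfullyFlat L T := by
      refine Module.FaithfullyFlat.of_comap_surjective fun P => ?_
      let z := PrimeSpectrum.comap (algebraMap R L) P
      obtain ⟨j, qj, hqj⟩ := hcov z
      have hzf : f ∉ z.asIdeal := fun h => by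
        have : IsUnit (algebraMap R L f) := IsLocalization.Away.algebraMap_isUnit f
        exact P.isPrime.ne_top (Ideal.eq_top_of_isUnit_mem _ h this)
      have hgood : Nonempty (M j ≃* M i₀) := by
        by_contra hne
        exact hfsub hzf ((hmem z).2 ⟨⟨j, hne⟩, qj, hqj⟩)
      have hu : ∀ y : Submonoid.powers f, IsUnit (algebraMap R qj.asIdeal.ResidueField y) := by
        rintro ⟨_, n, rfl⟩
        refine (isUnit_iff_ne_zero.2 fun h0 => ?_)
        rw [map_pow, pow_eq_zero_iff', IsScalarTower.algebraMap_apply R (Ri j),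
          Ideal.algebraMap_residueField_eq_zero] at h0
        exact hzf (hqj ▸ h0.1)
      let l : L →ₐ[R] qj.asIdeal.ResidueField :=
        IsLocalization.liftAlgHom (M := Submonoid.powers f) (f := Algebra.ofId R qj.asIdeal.ResidueField) hu
      let φ : Si ⟨j, hgood⟩ →ₐ[R] qj.asIdeal.ResidueField :=
        Algebra.TensorProduct.lift l (IsScalarTower.toAlgHom R (Ri j) qj.asIdeal.ResidueField)
          fun _ _ => Commute.all _ _
      let Q : PrimeSpectrum (Si ⟨j, hgood⟩) := ⟨RingHom.ker φ.toRingHom, RingHom.ker_isPrime _⟩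
      refine ⟨PrimeSpectrum.comap (Pi.evalRingHom Si ⟨j, hgood⟩) Q, ?_⟩
      refine PrimeSpectrum.localization_comap_injective L (Submonoid.powers f) ?_
      show _ = z
      rw [← hqj]
      refine PrimeSpectrum.ext (Ideal.ext fun r => ?_)
      show φ (algebraMap L (Si ⟨j, hgood⟩) (algebraMap R L r)) = 0 ↔ algebraMap R (Ri j) r ∈ qj.asIdeal
      rw [← IsScalarTower.algebraMap_apply, φ.commutes, IsScalarTower.algebraMap_apply R (Ri j),
        Ideal.algebraMap_residueField_eq_zero]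
    have he : ∀ i : good, ∃ M' : Type u, ∃ _ : CommGroup M', Nonempty (M' ≃* M i₀) ∧
        Nonempty (Si i ⊗[R] A ≃ₐc[Si i] MonoidAlgebra (Si i) M') := fun i => by
      obtain ⟨f', -, -⟩ := exists_bialgEquiv_stage (e i.1)
        (Algebra.TensorProduct.includeRight : Ri i.1 →ₐ[R] L ⊗[R] Ri i.1)
      exact ⟨M i.1, inferInstance, i.2, ⟨f'⟩⟩
    have hdiag : SGA3b.IsDiag T (T ⊗[R] A) := by
      refine isDiag_pi (R := R) (A := A) Si (M i₀) fun i => Classical.choice ?_
      obtain ⟨M', _, ⟨σ⟩, ⟨f'⟩⟩ := he i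
      exact ⟨f'.trans (MonoidAlgebra.domCongrBialgEquiv (Si i) (Si i) σ)⟩
    exact ⟨T, inferInstance, inferInstance, hff, isDiag_of_equiv (bcTrans R L T A) hdiag⟩
  refine ⟨{f | SGA3b.IsMultTypeConst (Localization.Away f) (Localization.Away f ⊗[R] A)}, ?_, fun f hf => hf⟩
  by_contra hne
  obtain ⟨m, hm, hle⟩ := Ideal.exists_le_maximal _ hne
  obtain ⟨f, hf, h⟩ := key ⟨m, hm.isPrime⟩
  exact hf (hle (Ideal.subset_span h))

end Groth.Agent.MTBridge
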