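import Groth.Agent.MTBridge.BaseChange
import Mathlib

/-!
# Homomorphisms of affine groups as bialgebra maps; local equality of morphisms
-/

set_option autoImplicit false
set_option linter.style.haveILetI false
set_option backward.isDefEq.respectTransparency.types false
set_option maxHeartbeats 800000

universe u

open CategoryTheory Limits MonoidalCategory CartesianMonoidalCategory AlgebraicGeometry TensorProduct Opposite
open TopologicalSpace WithConv
open scoped CategoryTheory.Obj MonObj

noncomputable section

namespace Groth.Agent.MTBridge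

/-- A homomorphism of spectra of Hopf algebras comes from a bialgebra map. -/
theorem exists_bialgHom {R A B : Type u} [CommRing R] [CommRing A] [HopfAlgebra R A] [CommRing B]
    [HopfAlgebra R B] (u : (specGrp R A).X ⟶ (specGrp R B).X) [IsMonHom u] :
    ∃ f : B →ₐc[R] A, u.left = Spec.map (CommRingCat.ofHom (f : B →ₐ[R] A).toRingHom) := by
  let q : specGrp R A ⟶ specGrp R B := Grp.homMk u
  let g := ((hopfSpec.fullyFaithful (R := CommRingCat.of R)).preimage
      (X := op (CommHopfAlgCat.of R A)) (Y := op (CommHopfAlgCat.of R B)) q)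
  refine ⟨g.unop.hom, ?_⟩
  have h := (hopfSpec.fullyFaithful (R := CommRingCat.of R)).map_preimage
      (X := op (CommHopfAlgCat.of R A)) (Y := op (CommHopfAlgCat.of R B)) q
  have h' := congrArg (fun q : specGrp R A ⟶ specGrp R B => q.hom.hom.left) h
  exact h'.symm

/-- Morphisms over `S` agree if they agree over every affine open. -/
theorem hom_ext_affine {S : Scheme.{u}} {H G : Over S} (u v : H ⟶ G)
    (h : ∀ (V : S.Opens) (hV : IsAffineOpen V),
      (Over.pullback hV.fromSpec).map u = (Over.pullback hV.fromSpec).map v) : u = v := by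
  apply Over.OverMorphism.ext
  let 𝒰 := Scheme.openCoverOfIsOpenCover S (fun V : S.affineOpens => V.1)
    ((iSup_affineOpens_eq_top S))
  refine Scheme.Cover.hom_ext (𝒰.pullback₁ H.hom) _ _ fun V => ?_
  show pullback.fst H.hom V.1.ι ≫ u.left = pullback.fst H.hom V.1.ι ≫ v.left
  haveI : IsAffine (V.1 : Scheme.{u}) := V.2
  have key : ∀ w : H ⟶ G, pullback.fst H.hom V.1.ι ≫ w.left =
      pullback.map H.hom V.1.ι H.hom V.2.fromSpec (𝟙 _) V.2.isoSpec.hom (𝟙 _) (by simp)
        ((Category.comp_id _).trans V.2.isoSpec_hom_fromSpec.symm) ≫ ((Over.pullback V.2.fromSpec).map w).left ≫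
        pullback.fst G.hom V.2.fromSpec := by
    intro w
    erw [pullback.lift_fst]
    rw [← Category.assoc, pullback.lift_fst, Category.comp_id]
  rw [key, key, h V.1 V.2]

end Groth.Agent.MTBridge
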