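import Groth.Agent.MTBridge.TwoHom
import Groth.Agent.MTBridge.Charts
import Groth.Agent.MTBridge.Hom
import Mathlib

/-!
# A homomorphism which is central on all fibres is central
-/

set_option autoImplicit false
set_option linter.style.haveILetI false
set_option linter.unusedSectionVars false
set_option backward.isDefEq.respectTransparency false
set_option maxHeartbeats 1000000
set_option synthInstance.maxHeartbeats 400000

universe u

open CategoryTheory Limits MonoidalCategory CartesianMonoidalCategory AlgebraicGeometry TensorProduct Opposite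
open TopologicalSpace WithConv
open scoped CategoryTheory.Obj MonObj

noncomputable section

namespace Groth.Agent.MTBridge

/-- Morphisms of schemes are determined by their restrictions to the spectra of the local rings. -/
theorem hom_ext_fromSpecStalk {X Y : Scheme.{u}} (f g : X ⟶ Y)
    (h : ∀ x : X, X.fromSpecStalk x ≫ f = X.fromSpecStalk x ≫ g) : f = g := by
  have hpt : ∀ x : X, f x = g x := fun x => by
    have := congrArg (fun m => m (IsLocalRing.closedPoint (X.presheaf.stalk x))) (h x)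
    simpa [Scheme.fromSpecStalk_closedPoint] using this
  refine Scheme.hom_ext_of_forall f g fun x => ?_
  obtain ⟨V, hV, hxV, -⟩ := exists_isAffineOpen_mem_and_subset (x := f x) (U := ⊤) trivial
  obtain ⟨U, hU, hxU, hUle⟩ := exists_isAffineOpen_mem_and_subset (x := x) (U := f ⁻¹ᵁ V ⊓ g ⁻¹ᵁ V)
    ⟨hxV, show g x ∈ V from hpt x ▸ hxV⟩
  refine ⟨U, hxU, ?_⟩
  have hUf : U ≤ f ⁻¹ᵁ V := hUle.trans inf_le_left
  have hUg : U ≤ g ⁻¹ᵁ V := hUle.trans inf_le_right
  suffices h1 : f.appLE V U hUf = g.appLE V U hUg by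
    rw [← IsAffineOpen.isoSpec_hom_fromSpec hU, Category.assoc, Category.assoc]
    congr 1
    rw [← hV.SpecMap_appLE_fromSpec f hU hUf, ← hV.SpecMap_appLE_fromSpec g hU hUg, h1]
  ext a
  refine TopCat.Presheaf.section_ext X.sheaf U _ _ fun y hy => ?_
  have h2 := h y
  rw [← hU.fromSpecStalk_eq_fromSpecStalk hy, IsAffineOpen.fromSpecStalk, Category.assoc, Category.assoc,
    ← hV.SpecMap_appLE_fromSpec f hU hUf, ← hV.SpecMap_appLE_fromSpec g hU hUg] at h2
  simp only [← Category.assoc, ← Spec.map_comp] at h2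
  have h3 := Spec.map_injective ((cancel_mono hV.fromSpec).1 h2)
  exact congrArg (fun m => m.hom a) h3

section BC

variable {S T : Scheme.{u}} (j : T ⟶ S)

/-- A point of `G` as a point of the base change. -/
def toBC {X : Over T} {G : Over S} (a : (Over.map j).obj X ⟶ G) : X ⟶ Red.bc j G :=
  (Over.mapPullbackAdj j).homEquiv X G a

theorem toBC_mul {X : Over T} {G : Over S} [GrpObj G] (a b : (Over.map j).obj X ⟶ G) :
    toBC j (a * b) = toBC j a * toBC j b := by
  simp only [toBC, Adjunction.homEquiv_unit, Functor.map_mul, MonObj.comp_mul]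

theorem toBC_comp {X : Over T} {G H : Over S} (u : H ⟶ G) (a : (Over.map j).obj X ⟶ H) :
    toBC j (a ≫ u) = toBC j a ≫ (Over.pullback j).map u :=
  (Over.mapPullbackAdj j).homEquiv_naturality_right a u

theorem comm_adj {G H : Over S} [GrpObj G] (u : H ⟶ G) (X : Over T)
    (hc : ∀ (g : X ⟶ Red.bc j G) (h : X ⟶ Red.bc j H),
      g * (h ≫ (Over.pullback j).map u) = (h ≫ (Over.pullback j).map u) * g)
    (g : (Over.map j).obj X ⟶ G) (h : (Over.map j).obj X ⟶ H) : g * (h ≫ u) = (h ≫ u) * g := by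
  apply ((Over.mapPullbackAdj j).homEquiv X G).injective
  show toBC j _ = toBC j _
  rw [toBC_mul j g (h ≫ u), toBC_mul j (h ≫ u) g, toBC_comp j u h]
  exact hc (toBC j g) (toBC j h)

/-- Commutation on a base change gives commutation for points over it. -/
theorem comm_of_factor {G H : Over S} [GrpObj G] (u : H ⟶ G)
    (hc : ∀ (X : Over T) (g : X ⟶ Red.bc j G) (h : X ⟶ Red.bc j H),
      g * (h ≫ (Over.pullback j).map u) = (h ≫ (Over.pullback j).map u) * g)
    (Y : Over S) (a : Y.left ⟶ T) (ha : a ≫ j = Y.hom) (g : Y ⟶ G) (h : Y ⟶ H) :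
    g * (h ≫ u) = (h ≫ u) * g := by
  obtain ⟨ε⟩ : Nonempty ((Over.map j).obj (Over.mk a) ≅ Y) := ⟨Over.isoMk (Iso.refl _) (by simpa using ha.symm)⟩
  have key := comm_adj j u (Over.mk a) (hc _) (ε.hom ≫ g) (ε.hom ≫ h)
  rw [Category.assoc, ← MonObj.comp_mul, ← MonObj.comp_mul] at key
  exact (cancel_epi ε.hom).1 key

end BC

variable {R A : Type u} [CommRing R] [CommRing A] [HopfAlgebra R A]
  {G : Over (Spec (CommRingCat.of R))} [GrpObj G]

theorem isChar_universal (u : (specGrp R A).X ⟶ G) [IsMonHom u] (B : Type u) [CommRing B] [Algebra R B] :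
    IsChar (pt (toConv (Algebra.TensorProduct.includeRight : A →ₐ[R] B ⊗[R] A)) ≫ u) := by
  unfold IsChar
  rw [← Category.assoc, ← Category.assoc, ← Category.assoc, spMap_pt, spMap_pt, spMap_pt, ← MonObj.mul_comp]
  refine congrArg (fun p => p ≫ u) ?_
  rw [← map_mul]
  refine congrArg _ (ofConv_injective (AlgHom.ext fun a => ?_))
  rw [AlgHom.convMul_apply]
  simp only [ofConv_toConv, AlgHom.comp_apply, eD, eI1, eI2, Algebra.TensorProduct.includeRight_apply,
    Algebra.TensorProduct.map_tmul, map_one, Bialgebra.comulAlgHom_apply]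
  induction (CoalgebraStruct.comul (R := R) a) using TensorProduct.induction_on with
  | zero => simp
  | add p q hp hq => simp only [TensorProduct.tmul_add, map_add, hp, hq]
  | tmul p q =>
    simp [Algebra.TensorProduct.tmul_mul_tmul]

theorem IsChar.conj {B : Type u} [CommRing B] [Algebra R B] {x : Pt G (B ⊗[R] A)} (hx : IsChar x) (g : Pt G B) :
    IsChar ((spMap (inB R A B) ≫ g) * x * (spMap (inB R A B) ≫ g)⁻¹) := by
  unfold IsChar at *
  simp only [MonObj.comp_mul, GrpObj.comp_inv, spMap_assoc, eD_inB, eI1_inB, eI2_inB, hx]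
  group

/-- The affine case. -/
theorem central_affine [LocallyOfFiniteType G.hom] (hA : SGA3b.IsMultType R A) [Algebra.FiniteType R A]
    (u : (specGrp R A).X ⟶ G) [IsMonHom u]
    (hfib : ∀ (K : Type u) [Field K] [Algebra R K] (T : Type u) [CommRing T] [Algebra R T] [Algebra K T]
      [IsScalarTower R K T] (p : Pt G T) (q : Pt (specGrp R A).X T), p * (q ≫ u) = (q ≫ u) * p)
    {T : Type u} [CommRing T] [Algebra R T] [IsLocalRing T] (g : Pt G T) (h : Pt (specGrp R A).X T) :
    g * (h ≫ u) = (h ≫ u) * g := by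
  let q : Pt (specGrp R A).X (T ⊗[R] A) := pt (toConv Algebra.TensorProduct.includeRight)
  let x : Pt G (T ⊗[R] A) := q ≫ u
  let gB : Pt G (T ⊗[R] A) := spMap (inB R A T) ≫ g
  have hx : IsChar x := isChar_universal u T
  have hy : IsChar (gB * x * gB⁻¹) := hx.conj g
  set m := IsLocalRing.maximalIdeal T
  letI : Field (T ⧸ m) := Ideal.Quotient.field m
  have hcomm : ∀ (L : Type u) [CommRing L] [Algebra R L] (f : T ⊗[R] A →ₐ[R] L),
      (∀ b ∈ m, f (b ⊗ₜ 1) = 0) → ∀ p : Pt G L, (spMap f ≫ x) * p = p * (spMap f ≫ x) := by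
    intro L _ _ f hf p
    let φ : (T ⧸ m) →ₐ[R] L := Ideal.Quotient.liftₐ m (f.comp (inB R A T)) hf
    letI : Algebra (T ⧸ m) L := φ.toRingHom.toAlgebra
    haveI : IsScalarTower R (T ⧸ m) L := IsScalarTower.of_algebraMap_eq fun r => (φ.commutes r).symm
    have := hfib (T ⧸ m) L p (spMap f ≫ q)
    rw [Category.assoc] at this
    exact this.symm
  have heq : ∀ (L : Type u) [CommRing L] [Algebra R L] (f : T ⊗[R] A →ₐ[R] L),
      (∀ p : Pt G L, (spMap f ≫ x) * p = p * (spMap f ≫ x)) → spMap f ≫ x = spMap f ≫ (gB * x * gB⁻¹) := by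
    intro L _ _ f hf
    rw [MonObj.comp_mul, MonObj.comp_mul, GrpObj.comp_inv, ← hf (spMap f ≫ gB), mul_inv_cancel_right]
  have key : x = gB * x * gB⁻¹ := by
    refine char_eq hA x _ hx hy hcomm (heq _ _ (hcomm _ _ fun b hb => ?_)) fun L _ _ f => heq L f fun p => ?_
    · simp [bA]
      rw [show Ideal.Quotient.mk (IsLocalRing.maximalIdeal T) b = 0 from Ideal.Quotient.eq_zero_iff_mem.2 hb,
        TensorProduct.zero_tmul]
    · have := hfib L L p (spMap f ≫ q)
      rw [Category.assoc] at this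
      exact this.symm
  obtain ⟨φ, rfl⟩ : ∃ φ : WithConv (A →ₐ[R] T), pt φ = h := (Spec.mapMulEquiv (R := R) (S := A) (T := T)).surjective h
  let em : T ⊗[R] A →ₐ[R] T := Algebra.TensorProduct.productMap (AlgHom.id R T) φ.ofConv
  have h1 : spMap em ≫ gB = g := by
    rw [spMap_assoc, show em.comp (inB R A T) = AlgHom.id R T from AlgHom.ext fun t => by simp [em, inB],
      spMap_id, Category.id_comp]
  have h2 : spMap em ≫ x = pt φ ≫ u := by
    show spMap em ≫ q ≫ u = _
    rw [← Category.assoc, spMap_pt,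
      show em.comp (Algebra.TensorProduct.includeRight : A →ₐ[R] T ⊗[R] A) = φ.ofConv from
        AlgHom.ext fun a => by simp [em]]
  have h3 := congrArg (fun m => spMap em ≫ m) key
  simp only [MonObj.comp_mul, GrpObj.comp_inv, h1, h2] at h3
  rw [eq_mul_inv_iff_mul_eq] at h3
  exact h3.symm

end Groth.Agent.MTBridge
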