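import Groth.Prelude.Def_TwC
import Groth.Agent.MTBridge.Charts
import Groth.Agent.MTBridge.FlatCover
import Groth.Agent.MTFT.Basic
import Groth.Agent.FpqcDescent.Affine
import Mathlib

/-!
# Groups of multiplicative type, not nec. of finite type, are affine, with Hopf algebras of multiplicative type
-/

set_option autoImplicit false
set_option linter.style.haveILetI false
set_option backward.isDefEq.respectTransparency.types false
set_option maxHeartbeats 1000000

universe u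

open CategoryTheory Limits MonoidalCategory CartesianMonoidalCategory AlgebraicGeometry TensorProduct Opposite
open TopologicalSpace
open scoped CategoryTheory.Obj

noncomputable section

namespace Groth.Agent.MTBridge

/-- Groups of multiplicative type are affine over the base. -/
theorem isAffineHom_of_locally {S : Scheme.{u}} (H : Over S) [GrpObj H] (hH : TwC.Locally S TwC.Topology.fpqc (fun S' f => ∃ (M : Type) (_ : AddCommGroup M), Nonempty (Grp.mk (Red.bc f H) ≅ Grp.mk (Red.DS S' M)))) :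
    IsAffineHom H.hom := by
  obtain ⟨S', f, hf, hfs, hlift, hloc⟩ := hH
  have h1 : IsAffineHom (pullback.snd H.hom f) := by
    choose U hU M hM e using hloc
    rw [IsZariskiLocalAtTarget.iff_of_iSup_eq_top (P := @IsAffineHom.{u}) U
      (eq_top_iff.2 fun x _ => Opens.mem_iSup.2 ⟨x, hU x⟩)]
    intro x
    obtain ⟨e⟩ := e x
    haveI := isAffineHom_DS (U x : Scheme.{u}) (M x)
    have h2 : IsAffineHom (pullback.snd H.hom ((U x).ι ≫ f)) := by
      rw [show pullback.snd H.hom ((U x).ι ≫ f) =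
        e.hom.hom.hom.left ≫ (Red.DS (U x : Scheme.{u}) (M x)).hom from (Over.w e.hom.hom.hom).symm]
      haveI : IsIso e.hom.hom.hom.left :=
        inferInstanceAs (IsIso ((Over.forget _).map ((Grp.forget _).map e.hom)))
      infer_instance
    have h3 := (isPullback_morphismRestrict (pullback.snd H.hom f) (U x)).flip.paste_horiz
      (IsPullback.of_hasPullback H.hom f)
    rw [← h3.isoPullback_hom_snd]
    infer_instance
  rw [IsZariskiLocalAtTarget.iff_of_iSup_eq_top (P := @IsAffineHom.{u}) _ (iSup_affineOpens_eq_top S)]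
  intro V
  obtain ⟨W, hW, hWV⟩ := hlift V.1 V.2
  have hle : W ≤ f ⁻¹ᵁ V.1 := fun w hw => hWV.subset ⟨w, hw, rfl⟩
  let g : (W : Scheme.{u}) ⟶ (V.1 : Scheme.{u}) := f.resLE V.1 W hle
  haveI : CompactSpace W := isCompact_iff_compactSpace.1 hW
  haveI : IsAffine (V.1 : Scheme.{u}) := V.2
  haveI : Surjective g := ⟨fun v => by
    obtain ⟨w, hw, hwv⟩ := hWV.ge v.2
    refine ⟨⟨w, hw⟩, Subtype.ext ?_⟩
    rw [← hwv]
    show (g ≫ V.1.ι) ⟨w, hw⟩ = _
    rw [Scheme.Hom.resLE_comp_ι]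
    rfl⟩
  haveI : Flat g := by
    haveI : Flat (g ≫ V.1.ι) := by rw [Scheme.Hom.resLE_comp_ι]; infer_instance
    exact MorphismProperty.of_postcomp (W' := @IsOpenImmersion) _ g V.1.ι inferInstance ‹_›
  haveI : QuasiCompact g := quasiCompact_of_compactSpace g
  refine MorphismProperty.of_pullback_snd_of_descendsAlong (P := @IsAffineHom)
    (Q := @Surjective ⊓ @Flat ⊓ @QuasiCompact) (g := g) ⟨⟨‹_›, ‹_›⟩, ‹_›⟩ ?_
  haveI := h1
  have hsq : IsPullback ((H.hom ⁻¹ᵁ V.1).ι) (H.hom ∣_ V.1) H.hom V.1.ι :=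
    (isPullback_morphismRestrict H.hom V.1).flip
  have h3 := (IsPullback.of_hasPullback (H.hom ∣_ V.1) g).paste_horiz hsq
  rw [Scheme.Hom.resLE_comp_ι] at h3
  haveI : IsAffineHom (pullback.snd H.hom (W.ι ≫ f)) := by
    have h4 := (IsPullback.of_hasPullback (pullback.snd H.hom f) W.ι).paste_horiz (IsPullback.of_hasPullback H.hom f)
    rw [← h4.isoPullback_inv_snd]
    haveI : IsAffineHom (pullback.snd (pullback.snd H.hom f) W.ι) := MorphismProperty.pullback_snd _ _ h1
    infer_instance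
  rw [← h3.isoPullback_hom_snd]
  infer_instance

/-- **The Hopf algebra of a group of multiplicative type over an affine base.** -/
theorem isMultType_of_specGrp_locally {R A : Type u} [CommRing R] [CommRing A] [HopfAlgebra R A]
    (hH : TwC.Locally (Spec (CommRingCat.of R)) TwC.Topology.fpqc (fun S' f => ∃ (M : Type) (_ : AddCommGroup M), Nonempty (Grp.mk (Red.bc f ((Spec (CommRingCat.of A)).asOver (Spec (CommRingCat.of R)))) ≅ Grp.mk (Red.DS S' M)))) :
    SGA3b.IsMultType R A := by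
  classical
  obtain ⟨S', f, hf, hfs, hlift, hloc⟩ := hH
  obtain ⟨W, hW, hWim⟩ := hlift ⊤ (isAffineOpen_top _)
  choose U hU M hM e using hloc
  have hex : ∀ x : S', x ∈ W → ∃ V : S'.Opens, IsAffineOpen V ∧ x ∈ V ∧ V ≤ U x ⊓ W := by
    intro x hx
    obtain ⟨_, ⟨V, hV, rfl⟩, hxV, hVU⟩ :=
      S'.isBasis_affineOpens.exists_subset_of_mem_open (show x ∈ ((U x ⊓ W : S'.Opens) : Set S') from ⟨hU x, hx⟩)
        (U x ⊓ W).isOpen
    exact ⟨V, hV, hxV, hVU⟩
  choose V hV hxV hVle using hex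
  obtain ⟨t, ht⟩ := hW.elim_finite_subcover (fun x : W => ((V x.1 x.2 : S'.Opens) : Set S'))
    (fun x => (V x.1 x.2).isOpen) fun x hx => Set.mem_iUnion.2 ⟨⟨x, hx⟩, hxV x hx⟩
  let ι : Type u := {x : W // x ∈ t}
  let Ri : ι → Type u := fun i => Γ(S', V i.1.1 i.1.2)
  let φ : ∀ i : ι, (Spec (CommRingCat.of (Ri i)) ⟶ Spec (CommRingCat.of R)) :=
    fun i => (hV i.1.1 i.1.2).fromSpec ≫ f
  letI : ∀ i : ι, Algebra R (Ri i) := fun i => (Spec.preimage (φ i)).hom.toAlgebra
  have hφ : ∀ i, Spec.map (CommRingCat.ofHom (algebraMap R (Ri i))) = φ i := fun i => Spec.map_preimage (φ i)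
  haveI : ∀ i, Module.Flat R (Ri i) := fun i => by
    haveI : Flat (φ i) := inferInstance
    have h : Flat (Spec.map (CommRingCat.ofHom (algebraMap R (Ri i)))) := by rw [hφ]; infer_instance
    rw [Flat.SpecMap_iff] at h
    exact RingHom.flat_algebraMap_iff.1 h
  have hcov : ∀ p : PrimeSpectrum R, ∃ (i : ι) (q : PrimeSpectrum (Ri i)),
      PrimeSpectrum.comap (algebraMap R (Ri i)) q = p := by
    intro p
    let p' : ↥(Spec (CommRingCat.of R)) := p
    obtain ⟨w, hw, hwp⟩ : p' ∈ f.base '' (W : Set S') := by rw [hWim]; trivial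
    obtain ⟨x, hxt, hwx⟩ := Set.mem_iUnion₂.1 (ht hw)
    obtain ⟨q, hq⟩ := ((hV x.1 x.2).range_fromSpec).ge hwx
    refine ⟨⟨x, hxt⟩, q, ?_⟩
    show (Spec.map (CommRingCat.ofHom (algebraMap R (Ri ⟨x, hxt⟩)))).base q = p'
    rw [hφ, ← hwp, ← hq]
    rfl
  let MU : ι → Type u := fun i => ULift.{u} (Multiplicative (M i.1.1))
  refine isMultType_of_flat_cover Ri hcov MU fun i => Classical.choice ?_
  have hle : V i.1.1 i.1.2 ≤ U i.1.1 := (hVle i.1.1 i.1.2).trans inf_le_left
  let g : Spec (CommRingCat.of (Ri i)) ⟶ (U i.1.1 : Scheme.{u}) :=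
    IsOpenImmersion.lift (U i.1.1).ι (hV i.1.1 i.1.2).fromSpec (by
      rw [(hV i.1.1 i.1.2).range_fromSpec, Scheme.Opens.range_ι]
      exact hle)
  obtain ⟨e₁⟩ := nonempty_bc_split (H := (Spec (CommRingCat.of A)).asOver (Spec (CommRingCat.of R))) (e i.1.1) g
  have hg : g ≫ (U i.1.1).ι ≫ f = Spec.map (CommRingCat.ofHom (algebraMap R (Ri i))) := by
    rw [hφ, ← Category.assoc, IsOpenImmersion.lift_fac]
  obtain ⟨e₂⟩ := nonempty_bc_specGrp R (Ri i) A
  obtain ⟨e₃⟩ := nonempty_DS_iso (Ri i) (M i.1.1)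
  obtain ⟨e₄⟩ := nonempty_bialgEquiv (e₂.symm ≪≫ bcCongr hg.symm _ ≪≫ e₁ ≪≫ e₃)
  exact ⟨e₄.symm.trans
    (MonoidAlgebra.domCongrBialgEquiv (Ri i) (Ri i) (MulEquiv.ulift (α := Multiplicative (M i.1.1))).symm)⟩

/-- Over an affine base a group of multiplicative type is the spectrum of such a Hopf algebra. -/
theorem exists_hopf_of_locally {R : Type u} [CommRing R] (H : Over (Spec (CommRingCat.of R))) [GrpObj H]
    (hH : TwC.Locally (Spec (CommRingCat.of R)) TwC.Topology.fpqc (fun S' f => ∃ (M : Type) (_ : AddCommGroup M), Nonempty (Grp.mk (Red.bc f H) ≅ Grp.mk (Red.DS S' M)))) :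
    ∃ (A : Type u) (_ : CommRing A) (_ : HopfAlgebra R A), SGA3b.IsMultType R A ∧
      Nonempty (Grp.mk H ≅ specGrp R A) := by
  haveI := isAffineHom_of_locally H hH
  haveI : IsAffine H.left := isAffine_of_isAffineHom H.hom
  obtain ⟨A, _, e, he⟩ := Groth.Agent.FinHopf.exists_hopf H
  haveI := he
  let i : specGrp R A ≅ Grp.mk H := Grp.mkIso' e
  have h1 := isMultType_of_specGrp_locally (R := R) (A := A) (by
    obtain ⟨S', f, hf, hs, hl, hloc⟩ := hH
    refine ⟨S', f, hf, hs, hl, fun s' => ?_⟩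
    obtain ⟨U, hU, M, hM, ⟨d⟩⟩ := hloc s'
    exact ⟨U, hU, M, hM, ⟨bcMapIso _ i ≪≫ d⟩⟩)
  exact ⟨A, inferInstance, inferInstance, h1, ⟨i.symm⟩⟩

end Groth.Agent.MTBridge
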