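import Groth.Agent.MTBridge.Charts
import Mathlib

/-!
# Base change of groups of multiplicative type of finite type
-/

set_option autoImplicit false
set_option linter.style.haveILetI false
set_option backward.isDefEq.respectTransparency.types false
set_option maxHeartbeats 800000

universe u

open CategoryTheory Limits MonoidalCategory CartesianMonoidalCategory AlgebraicGeometry Opposite
open TopologicalSpace
open scoped CategoryTheory.Obj

noncomputable section

namespace Groth.Agent.MTBridge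

/-- Base change keeps the fpqc covering condition. -/
theorem lift_bc {S S' T : Scheme.{u}} (f : S' ⟶ S) (g : T ⟶ S)
    (hlift : ∀ V : S.Opens, IsAffineOpen V → ∃ W : S'.Opens, IsCompact (W : Set S') ∧ f.base '' (W : Set S') = (V : Set S))
    (V : T.Opens) (hV : IsAffineOpen V) :
    ∃ W : (pullback f g).Opens, IsCompact (W : Set ↥(pullback f g)) ∧
      (pullback.snd f g).base '' (W : Set ↥(pullback f g)) = (V : Set T) := by
  classical
  have hloc : ∀ v : V, ∃ (V' : T.Opens) (U : S.Opens), IsAffineOpen V' ∧ IsAffineOpen U ∧ v.1 ∈ V' ∧ V' ≤ V ∧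
      V' ≤ g ⁻¹ᵁ U := by
    intro v
    obtain ⟨_, ⟨U, hU, rfl⟩, hvU, -⟩ :=
      S.isBasis_affineOpens.exists_subset_of_mem_open (Set.mem_univ (g v.1)) isOpen_univ
    obtain ⟨_, ⟨V', hV', rfl⟩, hvV', hle⟩ := T.isBasis_affineOpens.exists_subset_of_mem_open
      (show v.1 ∈ ((V ⊓ g ⁻¹ᵁ U : T.Opens) : Set T) from ⟨v.2, hvU⟩) (V ⊓ g ⁻¹ᵁ U).isOpen
    exact ⟨V', U, hV', hU, hvV', fun x hx => (hle hx).1, fun x hx => (hle hx).2⟩
  choose V' U hV' hU hvV' hV'V hV'U using hloc
  obtain ⟨t, ht⟩ := hV.isCompact.elim_finite_subcover (fun v : V => ((V' v : T.Opens) : Set T))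
    (fun v => (V' v).isOpen) fun v hv => Set.mem_iUnion.2 ⟨⟨v, hv⟩, hvV' ⟨v, hv⟩⟩
  choose W hW hWim using fun v => hlift (U v) (hU v)
  let X : V → (pullback f g).Opens := fun v =>
    (pullback.fst f g) ⁻¹ᵁ (W v) ⊓ (pullback.snd f g) ⁻¹ᵁ (V' v)
  have hX : ∀ v, IsCompact (X v : Set ↥(pullback f g)) := by
    intro v
    haveI : CompactSpace (W v : Scheme.{u}) := isCompact_iff_compactSpace.1 (hW v)
    have hle : W v ≤ f ⁻¹ᵁ U v := fun w hw => (hWim v).subset ⟨w, hw, rfl⟩
    let a : (W v : Scheme.{u}) ⟶ U v := f.resLE (U v) (W v) hle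
    let b : (V' v : Scheme.{u}) ⟶ U v := g.resLE (U v) (V' v) (hV'U v)
    haveI : IsAffine (V' v : Scheme.{u}) := hV' v
    haveI : IsAffine (U v : Scheme.{u}) := hU v
    haveI : QuasiCompact (pullback.fst a b) := MorphismProperty.pullback_fst _ _ inferInstance
    haveI : CompactSpace ↥(pullback a b) := QuasiCompact.compactSpace_of_compactSpace (pullback.fst a b)
    let m := pullback.map a b f g (W v).ι (V' v).ι (U v).ι (by simp [a]) (by simp [b])
    have hr : (X v : Set ↥(pullback f g)) = Set.range m := by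
      rw [Scheme.Pullback.range_map, Scheme.Opens.range_ι, Scheme.Opens.range_ι]
      rfl
    rw [hr]
    exact isCompact_range m.continuous
  refine ⟨⨆ v : t, X v.1, ?_, ?_⟩
  · rw [Opens.coe_iSup]
    exact isCompact_iUnion fun v => hX v.1
  · apply Set.Subset.antisymm
    · rintro _ ⟨z, hz, rfl⟩
      obtain ⟨v, hv⟩ := Opens.mem_iSup.1 hz
      exact hV'V v.1 hv.2
    · intro y hy
      obtain ⟨v, hvt, hyv⟩ := Set.mem_iUnion₂.1 (ht hy)
      obtain ⟨w, hw, hwy⟩ := (hWim v).ge (hV'U v hyv)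
      obtain ⟨z, hz1, hz2⟩ := Scheme.Pullback.exists_preimage_pullback w y hwy
      refine ⟨z, Opens.mem_iSup.2 ⟨⟨v, hvt⟩, ?_, ?_⟩, hz2⟩
      · show pullback.fst f g z ∈ W v
        rw [hz1]
        exact hw
      · show pullback.snd f g z ∈ V' v
        rw [hz2]
        exact hyv

/-- Being of multiplicative type and of finite type is stable under base change. -/
theorem isMultTypeFT_bc {S T : Scheme.{u}} (H : Over S) [GrpObj H] (g : T ⟶ S) (hH : SGA3x.IsMultTypeFT H) :
    SGA3x.IsMultTypeFT (Red.bc g H) := by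
  obtain ⟨S', f, hf, hs, hlift, hloc⟩ := hH
  refine ⟨pullback f g, pullback.snd f g, MorphismProperty.pullback_snd _ _ hf,
    MorphismProperty.pullback_snd _ _ hs, lift_bc f g hlift, fun z => ?_⟩
  obtain ⟨U, hU, M, hM, hMfg, e⟩ := hloc (pullback.fst f g z)
  refine ⟨pullback.fst f g ⁻¹ᵁ U, hU, M, hM, hMfg, ?_⟩
  let U' := pullback.fst f g ⁻¹ᵁ U
  obtain ⟨e'⟩ := nonempty_bc_split (H := H) e (pullback.fst f g ∣_ U)
  have h : (pullback.fst f g ∣_ U) ≫ U.ι ≫ f = (U'.ι ≫ pullback.snd f g) ≫ g := by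
    rw [← Category.assoc, morphismRestrict_ι, Category.assoc, pullback.condition, Category.assoc]
  exact ⟨(bcComp g (U'.ι ≫ pullback.snd f g) H).symm ≪≫ bcCongr h.symm H ≪≫ e'⟩

end Groth.Agent.MTBridge
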