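import Groth.Agent.S5272
import Groth.Agent.MTBridge.BaseChange
import Groth.Agent.InfLift.SchemeSmallExt
import Mathlib

/-!
# Conjugators lift along nilpotent thickenings into smooth groups
-/

set_option autoImplicit false
set_option linter.style.haveILetI false
set_option backward.isDefEq.respectTransparency false
set_option maxHeartbeats 1000000
set_option synthInstance.maxHeartbeats 400000

universe u

open CategoryTheory Limits MonoidalCategory CartesianMonoidalCategory AlgebraicGeometry Opposite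
open TopologicalSpace
open scoped CategoryTheory.Obj MonObj

noncomputable section

namespace Groth.Agent.MTBridge

/-- Being of multiplicative type is stable under base change. -/
theorem locally_bc {S T : Scheme.{u}} (H : Over S) [GrpObj H] (g : T ⟶ S)
    (hH : TwC.Locally S TwC.Topology.fpqc (fun S' f => ∃ (M : Type) (_ : AddCommGroup M), Nonempty (Grp.mk (Red.bc f H) ≅ Grp.mk (Red.DS S' M)))) :
    TwC.Locally T TwC.Topology.fpqc (fun S' f => ∃ (M : Type) (_ : AddCommGroup M), Nonempty (Grp.mk (Red.bc f (Red.bc g H)) ≅ Grp.mk (Red.DS S' M))) := by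
  obtain ⟨S', f, hf, hs, hlift, hloc⟩ := hH
  refine ⟨pullback f g, pullback.snd f g, MorphismProperty.pullback_snd _ _ hf,
    MorphismProperty.pullback_snd _ _ hs, lift_bc f g hlift, fun z => ?_⟩
  obtain ⟨U, hU, M, hM, e⟩ := hloc (pullback.fst f g z)
  refine ⟨pullback.fst f g ⁻¹ᵁ U, hU, M, hM, ?_⟩
  let U' := pullback.fst f g ⁻¹ᵁ U
  obtain ⟨e'⟩ := nonempty_bc_split (H := H) e (pullback.fst f g ∣_ U)
  have h : (pullback.fst f g ∣_ U) ≫ U.ι ≫ f = (U'.ι ≫ pullback.snd f g) ≫ g := by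
    rw [← Category.assoc, morphismRestrict_ι, Category.assoc, pullback.condition, Category.assoc]
  exact ⟨(bcComp g (U'.ι ≫ pullback.snd f g) H).symm ≪≫ bcCongr h.symm H ≪≫ e'⟩

/-- The conjugate of a homomorphism by a point of the base. -/
theorem isMonHom_conj {S : Scheme.{u}} {H G : Over S} [GrpObj H] [GrpObj G] (u : H ⟶ G) [IsMonHom u]
    (g : 𝟙_ (Over S) ⟶ G) : IsMonHom ((toUnit H ≫ g) * u * (toUnit H ≫ g)⁻¹) where
  one_hom := by
    simp only [MonObj.comp_mul, GrpObj.comp_inv, IsMonHom.one_hom, ← Category.assoc, comp_toUnit]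
    rw [show η[G] = (1 : 𝟙_ (Over S) ⟶ G) by
      rw [Hom.one_def, toUnit_unique (toUnit (𝟙_ (Over S))) (𝟙 _), Category.id_comp]]
    rw [_root_.mul_one, mul_inv_cancel]
  mul_hom := by
    rw [MonObj.comp_mul, MonObj.comp_mul, GrpObj.comp_inv, ← Category.assoc (μ[H]) (toUnit H) g, comp_toUnit,
      IsMonHom.mul_hom, ← lift_fst_comp_snd_comp, ← Hom.mul_def, ← lift_fst_comp_snd_comp, ← Hom.mul_def]
    simp only [MonObj.comp_mul, GrpObj.comp_inv, ← Category.assoc, comp_toUnit]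
    group

variable {R : Type u} [CommRing R] {H G : Over (Spec (CommRingCat.of R))}

theorem qJ_ext {K : Ideal R} {X : Over (Spec (CommRingCat.of R))} (p q : X ⟶ Over.mk (qJ K)) : p = q := by
  haveI : IsClosedImmersion (qJ K) := IsClosedImmersion.spec_of_surjective _ Ideal.Quotient.mk_surjective
  exact Over.OverMorphism.ext ((cancel_mono (qJ K)).1 ((Over.w p).trans (Over.w q).symm))

theorem exists_factor_qJ {K K' : Ideal R} (h : K' ≤ K) :
    Nonempty (Over.mk (qJ K) ⟶ (Over.mk (qJ K') : Over (Spec (CommRingCat.of R)))) := by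
  refine ⟨Over.homMk (Spec.map (CommRingCat.ofHom (Ideal.Quotient.factor h))) ?_⟩
  show Spec.map _ ≫ Spec.map _ = Spec.map _
  rw [← Spec.map_comp, ← CommRingCat.ofHom_comp, Ideal.Quotient.factor_comp_mk]

/-- The morphism to the base of a transported object. -/
def mapToMk {S T : Scheme.{u}} (j : T ⟶ S) (X : Over T) : (Over.map j).obj X ⟶ Over.mk j :=
  Over.homMk X.hom

theorem fromBC_comp_map {S : Scheme.{u}} (j : Spec (CommRingCat.of R) ⟶ S) {H G : Over S} (u : H ⟶ G)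
    {X : Over (Spec (CommRingCat.of R))} (p : X ⟶ Red.bc j H) :
    fromBC j (p ≫ (Over.pullback j).map u) = fromBC j p ≫ u :=
  (Over.mapPullbackAdj j).homEquiv_naturality_right_symm p u

theorem fromBC_inv {S : Scheme.{u}} (j : Spec (CommRingCat.of R) ⟶ S) {G : Over S} [GrpObj G]
    {X : Over (Spec (CommRingCat.of R))} (p : X ⟶ Red.bc j G) :
    fromBC j p⁻¹ = (fromBC j p)⁻¹ :=
  eq_inv_of_mul_eq_one_left (by rw [← fromBC_mul, inv_mul_cancel, fromBC_one])

/-- A conjugator lifts over a square-zero step. -/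
theorem exists_conj_step [GrpObj H] [GrpObj G]
    (hH : TwC.Locally (Spec (CommRingCat.of R)) TwC.Topology.fpqc (fun S' f => ∃ (M : Type) (_ : AddCommGroup M), Nonempty (Grp.mk (Red.bc f H) ≅ Grp.mk (Red.DS S' M))))
    (hG : Smooth G.hom) (u v : H ⟶ G) [IsMonHom u] [IsMonHom v] {K K' : Ideal R} (hle : K' ≤ K) (hsq : K ^ 2 ≤ K')
    (g : Over.mk (qJ K) ⟶ G)
    (hg : ∀ (X : Over (Spec (CommRingCat.of R))) (p : X ⟶ Over.mk (qJ K)) (h : X ⟶ H),
      h ≫ v = (p ≫ g) * (h ≫ u) * (p ≫ g)⁻¹) :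
    ∃ g' : Over.mk (qJ K') ⟶ G, (∀ ρ : Over.mk (qJ K) ⟶ Over.mk (qJ K'), ρ ≫ g' = g) ∧
      ∀ (X : Over (Spec (CommRingCat.of R))) (p : X ⟶ Over.mk (qJ K')) (h : X ⟶ H),
        h ≫ v = (p ≫ g') * (h ≫ u) * (p ≫ g')⁻¹ := by
  obtain ⟨ρ⟩ := exists_factor_qJ hle
  -- a lift of the point
  obtain ⟨g₁, hg₁⟩ : ∃ g₁ : Over.mk (qJ K') ⟶ G, ρ ≫ g₁ = g := by
    haveI := hG
    have hker : RingHom.ker (Ideal.Quotient.factor hle) ^ 2 = ⊥ := by
      rw [Ideal.Quotient.factor_ker, ← Ideal.map_pow, Ideal.map_eq_bot_iff_le_ker, Ideal.mk_ker]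
      exact hsq
    obtain ⟨c, hc1, hc2⟩ := Groth.Agent.InfLift.exists_lift_of_smooth G.hom (Ideal.Quotient.factor hle)
      (Ideal.Quotient.factor_surjective hle) hker g.left (qJ K') (by
        refine Eq.trans ?_ (Over.w g).symm
        show Spec.map _ ≫ Spec.map _ = Spec.map _
        rw [← Spec.map_comp, ← CommRingCat.ofHom_comp, Ideal.Quotient.factor_comp_mk])
    refine ⟨Over.homMk c hc2, Over.OverMorphism.ext ?_⟩
    rw [Over.comp_left]
    refine Eq.trans (congrArg (· ≫ c) ?_) hc1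
    haveI : IsClosedImmersion (qJ K') := IsClosedImmersion.spec_of_surjective _ Ideal.Quotient.mk_surjective
    refine (cancel_mono (qJ K')).1 ((Over.w ρ).trans ?_)
    show Spec.map _ = Spec.map _ ≫ Spec.map _
    rw [← Spec.map_comp, ← CommRingCat.ofHom_comp, Ideal.Quotient.factor_comp_mk]
  let T := Spec (CommRingCat.of (R ⧸ K'))
  let J' : Ideal (R ⧸ K') := K.map (Ideal.Quotient.mk K')
  have hJ' : J' ^ 2 = ⊥ := by
    rw [← Ideal.map_pow, Ideal.map_eq_bot_iff_le_ker, Ideal.mk_ker]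
    exact hsq
  let k₁ : 𝟙_ (Over T) ⟶ Red.bc (qJ K') G := toBC (qJ K') (mapToMk (qJ K') _ ≫ g₁)
  haveI : IsMonHom ((Over.pullback (qJ K')).map u) := inferInstance
  haveI : IsMonHom ((Over.pullback (qJ K')).map v) := inferInstance
  let u₁ : Red.bc (qJ K') H ⟶ Red.bc (qJ K') G :=
    (toUnit _ ≫ k₁) * (Over.pullback (qJ K')).map u * (toUnit _ ≫ k₁)⁻¹
  haveI : IsMonHom u₁ := isMonHom_conj _ k₁
  have hk : ∀ (Y : Over T) (p : (Over.map (qJ K')).obj Y ⟶ Over.mk (qJ K')), fromBC (qJ K') (toUnit Y ≫ k₁) = p ≫ g₁ := by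
    intro Y p
    rw [fromBC_comp]
    show (Over.map (qJ K')).map (toUnit Y) ≫ fromBC (qJ K') (toBC (qJ K') (mapToMk (qJ K') _ ≫ g₁)) = _
    rw [fromBC_toBC, ← Category.assoc, qJ_ext ((Over.map (qJ K')).map (toUnit Y) ≫ mapToMk (qJ K') _) p]
  have hu₁ : ∀ (Y : Over T) (y : Y ⟶ Red.bc (qJ K') H) (p : (Over.map (qJ K')).obj Y ⟶ Over.mk (qJ K')),
      fromBC (qJ K') (y ≫ u₁) = (p ≫ g₁) * (fromBC (qJ K') y ≫ u) * (p ≫ g₁)⁻¹ := by
    intro Y y p
    rw [MonObj.comp_mul, MonObj.comp_mul, GrpObj.comp_inv, ← Category.assoc, comp_toUnit, fromBC_mul, fromBC_mul,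
      fromBC_inv, hk Y p, fromBC_comp_map]
  -- the homomorphisms agree modulo J'
  obtain ⟨k₂, hk₂, hconj⟩ := Groth.Agent.S5272.result J' hJ' (Red.bc (qJ K') H) (Red.bc (qJ K') G)
    (locally_bc H (qJ K') hH) u₁ ((Over.pullback (qJ K')).map v) (fun Y p y => by
      apply ((Over.mapPullbackAdj (qJ K')).homEquiv Y G).symm.injective
      show fromBC (qJ K') _ = fromBC (qJ K') _
      obtain ⟨r⟩ : Nonempty ((Over.map (qJ K')).obj Y ⟶ Over.mk (qJ K)) := by
        refine ⟨Over.homMk (p.left ≫ Spec.map (CommRingCat.ofHom (Ideal.Quotient.lift K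
          ((Ideal.Quotient.mk J').comp (Ideal.Quotient.mk K')) (fun x hx => ?_)))) ?_⟩
        · exact Ideal.Quotient.eq_zero_iff_mem.2 (Ideal.mem_map_of_mem _ hx)
        · show (_ ≫ Spec.map _) ≫ Spec.map _ = Y.hom ≫ qJ K'
          rw [← Over.w p, Category.assoc, Category.assoc]
          congr 1
          show _ = Spec.map _ ≫ Spec.map _
          rw [← Spec.map_comp, ← Spec.map_comp, ← CommRingCat.ofHom_comp, ← CommRingCat.ofHom_comp,
            Ideal.Quotient.lift_comp_mk]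
      rw [hu₁ Y y (r ≫ ρ), fromBC_comp_map, Category.assoc, hg₁, hg _ r (fromBC (qJ K') y)])
  obtain ⟨e⟩ : Nonempty (Over.mk (qJ K') ⟶ (Over.map (qJ K')).obj (𝟙_ (Over T))) :=
    ⟨Over.homMk (𝟙 _) (by simp [T])⟩
  refine ⟨(e ≫ fromBC (qJ K') k₂) * g₁, fun ρ' => ?_, fun X p h => ?_⟩
  · rw [qJ_ext ρ' ρ, MonObj.comp_mul, hg₁]
    obtain ⟨w⟩ : Nonempty (Over.mk (qJ K) ⟶ (Over.map (qJ K')).obj (Over.mk (qJ J'))) := by
      refine ⟨Over.homMk (Spec.map (CommRingCat.ofHom (Ideal.Quotient.lift J' (Ideal.Quotient.factor hle)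
        (fun x hx => ?_)))) ?_⟩
      · rw [← RingHom.mem_ker, Ideal.Quotient.factor_ker]; exact hx
      · show Spec.map _ ≫ Spec.map _ ≫ Spec.map _ = Spec.map _
        rw [← Spec.map_comp, ← Spec.map_comp, ← CommRingCat.ofHom_comp, ← CommRingCat.ofHom_comp,
          ← RingHom.comp_assoc, Ideal.Quotient.lift_comp_mk, Ideal.Quotient.factor_comp_mk]
    have h1 := congrArg (fun k => w ≫ fromBC (qJ K') k) hk₂
    simp only [fromBC_one, MonObj.comp_one, fromBC_comp] at h1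
    have h2 : ρ ≫ e = w ≫ (Over.map (qJ K')).map (toUnit _) := by
      apply Over.OverMorphism.ext
      haveI : IsClosedImmersion (qJ K') := IsClosedImmersion.spec_of_surjective _ Ideal.Quotient.mk_surjective
      refine (cancel_mono (qJ K')).1 ?_
      exact Eq.trans (by simpa [T] using Over.w (ρ ≫ e))
        (by simpa [T] using (Over.w (w ≫ (Over.map (qJ K')).map (toUnit (Over.mk (qJ J'))))).symm)
    rw [← Category.assoc, h2, Category.assoc, h1, one_mul]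
  · obtain ⟨ε⟩ : Nonempty ((Over.map (qJ K')).obj (Over.mk p.left) ≅ X) :=
      ⟨Over.isoMk (Iso.refl _) (by simpa using (Over.w p).symm)⟩
    have h1 := congrArg (fromBC (qJ K')) (hconj (Over.mk p.left) (toBC (qJ K') (ε.hom ≫ h)))
    rw [fromBC_comp_map, fromBC_toBC, fromBC_mul, fromBC_mul, fromBC_inv, hu₁ _ _ (ε.hom ≫ p), fromBC_toBC,
      fromBC_comp] at h1
    have h2 : (Over.map (qJ K')).map (toUnit (Over.mk p.left)) = ε.hom ≫ p ≫ e := by
      apply Over.OverMorphism.ext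
      haveI : IsClosedImmersion (qJ K') := IsClosedImmersion.spec_of_surjective _ Ideal.Quotient.mk_surjective
      refine (cancel_mono (qJ K')).1 ?_
      exact (Over.w ((Over.map (qJ K')).map (toUnit (Over.mk p.left)))).trans (Over.w (ε.hom ≫ p ≫ e)).symm
    rw [h2] at h1
    refine (cancel_epi ε.hom).1 ?_
    simp only [MonObj.comp_mul, GrpObj.comp_inv, Category.assoc] at h1 ⊢
    rw [h1]
    group

/-- A conjugator lifts along a nilpotent thickening into a smooth group. -/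
theorem exists_conj_nil [GrpObj H] [GrpObj G] {J : Ideal R} (hJ : IsNilpotent J)
    (hH : TwC.Locally (Spec (CommRingCat.of R)) TwC.Topology.fpqc (fun S' f => ∃ (M : Type) (_ : AddCommGroup M), Nonempty (Grp.mk (Red.bc f H) ≅ Grp.mk (Red.DS S' M))))
    (hG : Smooth G.hom) (u v : H ⟶ G) [IsMonHom u] [IsMonHom v] (g₀ : Over.mk (qJ J) ⟶ G)
    (h0 : ∀ (X : Over (Spec (CommRingCat.of R))) (p : X ⟶ Over.mk (qJ J)) (h : X ⟶ H),
      h ≫ v = (p ≫ g₀) * (h ≫ u) * (p ≫ g₀)⁻¹) :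
    ∃ g : 𝟙_ (Over (Spec (CommRingCat.of R))) ⟶ G, toUnit (Over.mk (qJ J)) ≫ g = g₀ ∧
      ∀ (X : Over (Spec (CommRingCat.of R))) (h : X ⟶ H), h ≫ v = (toUnit X ≫ g) * (h ≫ u) * (toUnit X ≫ g)⁻¹ := by
  have key : ∀ k : ℕ, ∃ g' : Over.mk (qJ (J ^ 2 ^ k)) ⟶ G,
      (∀ ρ : Over.mk (qJ J) ⟶ Over.mk (qJ (J ^ 2 ^ k)), ρ ≫ g' = g₀) ∧
      ∀ (X : Over (Spec (CommRingCat.of R))) (p : X ⟶ Over.mk (qJ (J ^ 2 ^ k))) (h : X ⟶ H),
        h ≫ v = (p ≫ g') * (h ≫ u) * (p ≫ g')⁻¹ := by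
    intro k
    induction k with
    | zero =>
      obtain ⟨σ⟩ := exists_factor_qJ (le_of_eq (pow_one J).symm : J ≤ J ^ 2 ^ 0)
      refine ⟨σ ≫ g₀, fun ρ => by rw [← Category.assoc, qJ_ext (ρ ≫ σ) (𝟙 _), Category.id_comp], fun X p h => ?_⟩
      rw [← Category.assoc]
      exact h0 X (p ≫ σ) h
    | succ k ih =>
      obtain ⟨g, hg, hgc⟩ := ih
      have hle : J ^ 2 ^ (k + 1) ≤ J ^ 2 ^ k :=
        Ideal.pow_le_pow_right (Nat.pow_le_pow_right (by norm_num) (Nat.le_succ k))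
      obtain ⟨g', hg', hgc'⟩ := exists_conj_step hH hG u v hle (le_of_eq (by rw [← pow_mul, ← pow_succ])) g hgc
      refine ⟨g', fun ρ => ?_, hgc'⟩
      obtain ⟨σ⟩ := exists_factor_qJ hle
      obtain ⟨τ⟩ := exists_factor_qJ (Ideal.pow_le_self (by positivity : (2 : ℕ) ^ k ≠ 0) : J ^ 2 ^ k ≤ J)
      rw [qJ_ext ρ (τ ≫ σ), Category.assoc, hg', hg]
  obtain ⟨n, hn⟩ := hJ
  obtain ⟨g, hg, hgc⟩ := key n
  have hbot : J ^ 2 ^ n = ⊥ :=
    le_bot_iff.1 ((Ideal.pow_le_pow_right (Nat.lt_two_pow_self).le).trans (le_of_eq hn))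
  obtain ⟨r⟩ : Nonempty (𝟙_ (Over (Spec (CommRingCat.of R))) ⟶ Over.mk (qJ (J ^ 2 ^ n))) := by
    refine ⟨Over.homMk (Spec.map (CommRingCat.ofHom (Ideal.Quotient.lift (J ^ 2 ^ n) (RingHom.id R)
      (fun x hx => ?_)))) ?_⟩
    · rw [hbot] at hx; simpa using hx
    · show Spec.map _ ≫ Spec.map _ = 𝟙 _
      rw [← Spec.map_comp, ← CommRingCat.ofHom_comp, Ideal.Quotient.lift_comp_mk]
      simp
  refine ⟨r ≫ g, ?_, fun X h => ?_⟩
  · rw [← Category.assoc]; exact hg _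
  · rw [← Category.assoc]; exact hgc X (toUnit X ≫ r) h

end Groth.Agent.MTBridge
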