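import Groth.Agent.MTBridge.ChartsAll
import Groth.Agent.MTBridge.NilConj
import Groth.Agent.ClosedRep.EssFreeAffine
import Mathlib

/-!
# Groups of multiplicative type are essentially free over the base
-/

set_option autoImplicit false
set_option linter.style.haveILetI false
set_option backward.isDefEq.respectTransparency false
set_option maxHeartbeats 800000
set_option synthInstance.maxHeartbeats 400000

universe u

open CategoryTheory Limits MonoidalCategory CartesianMonoidalCategory AlgebraicGeometry Opposite TensorProduct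
open scoped CategoryTheory.Obj

noncomputable section

namespace Groth.Agent.MTBridge

/-- A group of multiplicative type and finite type is of multiplicative type. -/
theorem locally_of_isMultTypeFT' {S : Scheme.{u}} (H : Over S) [GrpObj H] (hH : SGA3x.IsMultTypeFT H) :
    TwC.Locally S TwC.Topology.fpqc (fun S' f => ∃ (M : Type) (_ : AddCommGroup M), Nonempty (Grp.mk (Red.bc f H) ≅ Grp.mk (Red.DS S' M))) := by
  obtain ⟨S', f, hf, hs, hlift, hloc⟩ := hH
  refine ⟨S', f, hf, hs, hlift, fun s' => ?_⟩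
  obtain ⟨U, hU, M, hM, -, e⟩ := hloc s'
  exact ⟨U, hU, M, hM, e⟩

/-- Base change of an affine chart to an algebra. -/
theorem exists_iso_pullback_tensor {R : Type u} [CommRing R] {X S : Scheme.{u}} (p : X ⟶ S)
    (j₀ : Spec (CommRingCat.of R) ⟶ S) (A : Type u) [CommRing A] [Algebra R A]
    (E₁ : pullback p j₀ ≅ Spec (CommRingCat.of A))
    (hE₁ : E₁.hom ≫ Spec.map (CommRingCat.ofHom (algebraMap R A)) = pullback.snd p j₀)
    (R' : Type u) [CommRing R'] [Algebra R R'] (k : Spec (CommRingCat.of R') ⟶ S)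
    (hk : k = Spec.map (CommRingCat.ofHom (algebraMap R R')) ≫ j₀) :
    ∃ E : pullback p k ≅ Spec (CommRingCat.of (R' ⊗[R] A)),
      E.hom ≫ Spec.map (CommRingCat.ofHom (algebraMap R' (R' ⊗[R] A))) = pullback.snd p k := by
  subst hk
  let j := Spec.map (CommRingCat.ofHom (algebraMap R R'))
  let m := pullback.map (pullback.snd p j₀) j
    (Spec.map (CommRingCat.ofHom (algebraMap R A))) j E₁.hom (𝟙 _) (𝟙 _)
    (by rw [Category.comp_id, hE₁]) (by rw [Category.comp_id, Category.id_comp])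
  haveI : IsIso m := pullback.map_isIso ..
  refine ⟨(pullbackLeftPullbackSndIso p j₀ j).symm ≪≫ asIso m ≪≫ pullbackSymmetry _ _ ≪≫ pullbackSpecIso R R' A, ?_⟩
  simp only [Iso.trans_hom, asIso_hom, Category.assoc, Iso.symm_hom]
  have h1 : (pullbackSpecIso R R' A).hom ≫ Spec.map (CommRingCat.ofHom (algebraMap R' (R' ⊗[R] A))) = pullback.fst _ _ :=
    pullbackSpecIso_hom_fst R R' A
  rw [h1, pullbackSymmetry_hom_comp_fst]
  have h2 : m ≫ pullback.snd _ _ = pullback.snd (pullback.snd p j₀) j := by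
    simp only [m, pullback.lift_snd, Category.comp_id]
  rw [h2]
  exact pullbackLeftPullbackSndIso_inv_snd_snd p j₀ j

/-- A group of multiplicative type is essentially free over its base. -/
theorem isEssentiallyFree {S : Scheme.{u}} (H : Over S) [GrpObj H]
    (hH : TwC.Locally S TwC.Topology.fpqc (fun S' f => ∃ (M : Type) (_ : AddCommGroup M), Nonempty (Grp.mk (Red.bc f H) ≅ Grp.mk (Red.DS S' M)))) :
    SGA3x.IsEssentiallyFree H.hom := by
  intro s
  obtain ⟨U₀, hU₀, hsU₀, -⟩ := exists_isAffineOpen_mem_and_subset (U := ⊤) (x := s) trivial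
  obtain ⟨A, _, _, hA, ⟨e⟩⟩ := exists_hopf_of_locally (Red.bc hU₀.fromSpec H) (locally_bc H hU₀.fromSpec hH)
  obtain ⟨F, hF, hconst⟩ := hA
  obtain ⟨q, hq⟩ := hU₀.range_fromSpec.ge hsU₀
  obtain ⟨f, hfF, hqf⟩ : ∃ f ∈ F, f ∉ (q : PrimeSpectrum Γ(S, U₀)).asIdeal := by
    by_contra h
    push Not at h
    refine (q : PrimeSpectrum Γ(S, U₀)).isPrime.ne_top (top_le_iff.1 ?_)
    rw [← hF]
    exact Ideal.span_le.2 h
  obtain ⟨R', _, _, hff, M, _, ⟨d⟩⟩ := hconst f hfF
  haveI := hff
  letI : Algebra Γ(S, U₀) R' :=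
    ((algebraMap (Localization.Away f) R').comp (algebraMap Γ(S, U₀) (Localization.Away f))).toAlgebra
  haveI : IsScalarTower Γ(S, U₀) (Localization.Away f) R' := IsScalarTower.of_algebraMap_eq fun _ => rfl
  haveI hproj : Module.Projective R' (R' ⊗[Γ(S, U₀)] A) := by
    haveI : Module.Free R' (MonoidAlgebra R' M) := inferInstance
    haveI : Module.Projective R' (R' ⊗[Localization.Away f] (Localization.Away f ⊗[Γ(S, U₀)] A)) :=
      Module.Projective.of_equiv (d.toAlgEquiv.toLinearEquiv.symm)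
    exact Module.Projective.of_equiv
      (TensorProduct.AlgebraTensorModule.cancelBaseChange Γ(S, U₀) (Localization.Away f) R' R' A)
  let j : Spec (CommRingCat.of R') ⟶ Spec Γ(S, U₀) := Spec.map (CommRingCat.ofHom (algebraMap Γ(S, U₀) R'))
  have hrj : Set.range j = (PrimeSpectrum.basicOpen f : Set (PrimeSpectrum Γ(S, U₀))) := by
    rw [← PrimeSpectrum.localization_away_comap_range (Localization.Away f) f]
    show Set.range (PrimeSpectrum.comap (algebraMap Γ(S, U₀) R')) = _
    rw [IsScalarTower.algebraMap_eq Γ(S, U₀) (Localization.Away f) R', PrimeSpectrum.comap_comp]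
    exact Function.Surjective.range_comp PrimeSpectrum.comap_surjective_of_faithfullyFlat _
  let U : S.Opens := hU₀.fromSpec ''ᵁ PrimeSpectrum.basicOpen f
  have hU : IsAffineOpen U := by
    show IsAffineOpen (hU₀.fromSpec ''ᵁ PrimeSpectrum.basicOpen f)
    rw [hU₀.fromSpec_image_basicOpen]
    exact hU₀.basicOpen f
  have hsU : s ∈ U := ⟨q, hqf, hq⟩
  have hr : Set.range (j ≫ hU₀.fromSpec) = (U : Set S) := by
    rw [show Set.range (j ≫ hU₀.fromSpec) = hU₀.fromSpec '' Set.range j from by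
      rw [← Set.range_comp]; rfl, hrj]
    rfl
  let g : Spec (CommRingCat.of R') ⟶ (U : Scheme.{u}) :=
    IsOpenImmersion.lift U.ι (j ≫ hU₀.fromSpec) (by rw [hr, Scheme.Opens.range_ι])
  have hgι : g ≫ U.ι = j ≫ hU₀.fromSpec := IsOpenImmersion.lift_fac _ _ _
  have hjfl : Flat j := Flat.SpecMap_iff.2 (RingHom.flat_algebraMap_iff.2 (Module.Flat.trans Γ(S, U₀) (Localization.Away f) R'))
  have hg : Flat g := by
    haveI : Flat (g ≫ U.ι) := by rw [hgι]; infer_instance
    exact MorphismProperty.of_postcomp (W' := @IsOpenImmersion) _ g U.ι inferInstance ‹_›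
  have hgs : Surjective g := ⟨fun v => by
    obtain ⟨w, hw⟩ := hr.ge v.2
    refine ⟨w, Subtype.ext ?_⟩
    rw [← hw]
    show (g ≫ U.ι) w = _
    rw [hgι]⟩
  refine ⟨U, hsU, hU, Spec (CommRingCat.of R'), inferInstance, g, hg, hgs, fun x => ?_⟩
  obtain ⟨E, hE⟩ : ∃ E : pullback H.hom (g ≫ U.ι) ≅ Spec (CommRingCat.of (R' ⊗[Γ(S, U₀)] A)),
      E.hom ≫ Spec.map (CommRingCat.ofHom (algebraMap R' (R' ⊗[Γ(S, U₀)] A))) = pullback.snd H.hom (g ≫ U.ι) := by
    haveI : IsIso e.hom.hom.hom.left :=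
      inferInstanceAs (IsIso ((Over.forget _).map ((Grp.forget _).map e.hom)))
    exact exists_iso_pullback_tensor (R := Γ(S, U₀)) H.hom hU₀.fromSpec A (asIso e.hom.hom.hom.left) (Over.w e.hom.hom.hom) R'
      (g ≫ U.ι) hgι
  haveI : IsAffine (pullback H.hom (g ≫ U.ι)) := IsAffine.of_isIso E.hom
  refine ⟨⊤, trivial, isAffineOpen_top _, ?_⟩
  exact ClosedRep.projective_appTop ((⊤ : (pullback H.hom (g ≫ U.ι)).Opens).ι ≫ pullback.snd H.hom (g ≫ U.ι))
    ((Scheme.topIso _) ≪≫ E) (by rw [Iso.trans_hom, Category.assoc, hE]; rfl)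

end Groth.Agent.MTBridge
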