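import Groth.Agent.MultT.FibreGlobal
import Groth.Agent.MultT.TorsionDiag
import Groth.Agent.MultT.Kernel
import Groth.Agent.MultT.QFKilled
import Groth.Agent.HopfSmDim.Versch
import Mathlib

/-!
# Closed subgroups of groups of multiplicative type with trivial fibre are trivial nearby
-/

set_option autoImplicit false
set_option linter.style.haveILetI false
set_option synthInstance.maxHeartbeats 400000
set_option maxHeartbeats 1000000

universe u

open TensorProduct WithConv Coalgebra

noncomputable section

namespace Groth.Agent.MTBridge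

open Groth.Agent.MultT

theorem powConv_groupLike {R A : Type u} [CommRing R] [CommRing A] [HopfAlgebra R A] {g : A}
    (hg : IsGroupLikeElem R g) (n : ℕ) : SGA3b.powConv R A n g = g ^ n := by
  show (((toConv (AlgHom.id R A)) ^ n : WithConv (A →ₐ[R] A))).ofConv g = g ^ n
  induction n with
  | zero => simp [AlgHom.convOne_apply, hg.counit_eq_one]
  | succ n ih =>
    rw [pow_succ, pow_succ]
    show (((toConv (AlgHom.id R A)) ^ n * toConv (AlgHom.id R A) : WithConv (A →ₐ[R] A))).ofConv g = _
    simp only [AlgHom.convMul_def, ofConv_toConv, AlgHom.comp_apply, Bialgebra.comulAlgHom_apply,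
      hg.comul_eq_tmul_self, Algebra.TensorProduct.map_tmul, ih, AlgHom.id_apply,
      Algebra.TensorProduct.lmul'_apply_tmul]

theorem eq_one_of_divisible {P : Type u} [CommGroup P] [Group.FG P]
    (h : ∀ n : ℕ, 0 < n → ∀ m : P, ∃ y, y ^ n = m) (m : P) : m = 1 := by
  haveI : Module.Finite ℤ (Additive P) := Module.Finite.iff_addGroup_fg.2 inferInstance
  haveI : Subsingleton (Additive P) := by
    by_contra hne
    rw [not_subsingleton_iff_nontrivial] at hne
    obtain ⟨M, hM⟩ := Ideal.exists_maximal ℤ
    have hdvd : ∀ (n : ℕ), 0 < n → ∀ x : Additive P, ∃ y, (n : ℤ) • y = x := fun n hn x => by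
      obtain ⟨y, hy⟩ := h n hn x.toMul
      exact ⟨Additive.ofMul y, by rw [natCast_zsmul, ← ofMul_pow, hy]; rfl⟩
    let T := Submodule.torsion ℤ (Additive P)
    haveI : Finite T := Module.finite_of_fg_torsion T (Submodule.torsion_isTorsion)
    haveI : Module.Free ℤ (Additive P ⧸ T) := Module.free_of_finite_type_torsion_free'
    let b := Module.Free.chooseBasis ℤ (Additive P ⧸ T)
    have hT : ∀ x, x ∈ T := by
      intro x
      rw [← Submodule.Quotient.mk_eq_zero T]
      refine b.repr.injective (Finsupp.ext fun i => ?_)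
      rw [map_zero, Finsupp.zero_apply]
      by_contra hne'
      obtain ⟨y, hy⟩ := hdvd (2 * (b.repr (Submodule.Quotient.mk x) i).natAbs) (by
        have := Int.natAbs_pos.2 hne'; omega) x
      have hd : ((2 * (b.repr (Submodule.Quotient.mk x) i).natAbs : ℕ) : ℤ) ∣ b.repr (Submodule.Quotient.mk x) i := by
        refine ⟨b.repr (Submodule.Quotient.mk y) i, ?_⟩
        conv_lhs => rw [← hy, Submodule.Quotient.mk_smul, map_smul]
        simp
      have := Nat.le_of_dvd (Int.natAbs_pos.2 hne') (Int.natAbs_natCast _ ▸ Int.natAbs_dvd_natAbs.2 hd)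
      have h0 := Int.natAbs_pos.2 hne'
      omega
    obtain ⟨x, hx⟩ := exists_ne (0 : Additive P)
    obtain ⟨y, hy⟩ := hdvd (Nat.card T) Nat.card_pos x
    have h1 : Nat.card T • (⟨y, hT y⟩ : T) = 0 := card_nsmul_eq_zero'
    exact hx (hy.symm.trans ((natCast_zsmul _ _).trans (congrArg Subtype.val h1)))
  exact congrArg Additive.toMul (Subsingleton.elim (Additive.ofMul m) 0)

variable {R A C : Type u} [CommRing R] [CommRing A] [HopfAlgebra R A] [CommRing C] [HopfAlgebra R C]

theorem counitKer_fg [Algebra.FiniteType R A] : (RingHom.ker (Bialgebra.counitAlgHom R A)).FG := by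
  classical
  obtain ⟨G, hG⟩ := Algebra.FiniteType.out (R := R) (A := A)
  let θ : A → A := fun y => y - algebraMap R A (counit y)
  refine ⟨G.image θ, le_antisymm ?_ ?_⟩
  · refine Ideal.span_le.2 ?_
    intro z hz
    obtain ⟨g, -, rfl⟩ := Finset.mem_image.1 (Finset.mem_coe.1 hz)
    show counit (R := R) (θ g) = 0
    simp only [θ, map_sub, Bialgebra.counit_algebraMap, sub_self]
  · intro z hz
    suffices hall : ∀ y, θ y ∈ Ideal.span ((G.image θ : Finset A) : Set A) by
      have := hall z
      simp only [θ] at this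
      rwa [show counit (R := R) z = 0 from hz, map_zero, sub_zero] at this
    intro y
    have hy : y ∈ Algebra.adjoin R (G : Set A) := hG ▸ Algebra.mem_top
    induction hy using Algebra.adjoin_induction with
    | mem g hg => exact Ideal.subset_span (Finset.mem_coe.2 (Finset.mem_image_of_mem _ hg))
    | algebraMap r => simp [θ]
    | add a b _ _ ha hb =>
      rw [show θ (a + b) = θ a + θ b by simp only [θ, map_add]; ring]
      exact add_mem ha hb
    | mul a b _ _ ha hb =>
      rw [show θ (a * b) = a * θ b + algebraMap R A (counit b) * θ a by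
        simp only [θ, Bialgebra.counit_mul, map_mul]; ring]
      exact add_mem (Ideal.mul_mem_left _ _ hb) (Ideal.mul_mem_left _ _ ha)

theorem map_torsion_le (f : A →ₐc[R] C) (n : ℕ) :
    (SGA3b.torsionIdeal R A n).map (f : A →ₐ[R] C) ≤ SGA3b.torsionIdeal R C n := by
  rw [Ideal.map_le_iff_le_comap]
  refine Ideal.map_le_iff_le_comap.2 fun x hx => ?_
  simp only [Ideal.mem_comap]
  show f (SGA3b.powConv R A n x) ∈ SGA3b.torsionIdeal R C n
  rw [powConv_comp]
  refine Ideal.mem_map_of_mem _ ?_
  rw [RingHom.mem_ker, Bialgebra.counitAlgHom_apply] at hx ⊢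
  rw [CoalgHomClass.counit_comp_apply, hx]

/-- Over a separably closed field: a subgroup containing only trivial torsion is trivial. -/
theorem counit_eq_of_torsion {K : Type u} [Field K] [IsSepClosed K] {X Y : Type u} [CommRing X]
    [HopfAlgebra K X] [CommRing Y] [HopfAlgebra K Y] (hX : SGA3b.IsMultType K X) [Algebra.FiniteType K X]
    (f : X →ₐc[K] Y) (hf : Function.Surjective f)
    (h : ∀ n : ℕ, 0 < n → ∀ y : Y, counit (R := K) y = 0 → y ∈ SGA3b.torsionIdeal K Y n) (y : Y) :
    y = algebraMap K Y (counit y) := by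
  classical
  obtain ⟨P, _, ⟨e⟩⟩ := isDiag_of_surjective (isDiag_of_isSepClosed hX) f hf
  haveI : Algebra.FiniteType K (MonoidAlgebra K P) := Algebra.FiniteType.of_surjective
    ((e : Y →ₐ[K] MonoidAlgebra K P).comp (f : X →ₐ[K] Y)) ((EquivLike.surjective e).comp hf)
  haveI : Monoid.FG P := MonoidAlgebra.finiteType_iff_fg.1 ‹Algebra.FiniteType K (MonoidAlgebra K P)›
  haveI : Group.FG P := Group.fg_iff_monoid_fg.2 inferInstance
  have hP : ∀ m : P, m = 1 := by
    refine eq_one_of_divisible fun n hn m => ?_
    let Q := (powMonoidHom n : P →* P).range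
    let q : Y →ₐ[K] MonoidAlgebra K (P ⧸ Q) :=
      (MonoidAlgebra.mapDomainAlgHom K K (QuotientGroup.mk' Q)).comp (e : Y →ₐ[K] MonoidAlgebra K P)
    have hqn : q.comp (SGA3b.powConv K Y n) = (Algebra.ofId K _).comp (Bialgebra.counitAlgHom K Y) := by
      refine AlgHom.ext fun z => ?_
      obtain ⟨w, rfl⟩ : ∃ w, e.symm w = z := ⟨e z, e.symm_apply_apply z⟩
      induction w using MonoidAlgebra.induction_linear with
      | zero => simp
      | add a b ha hb => rw [map_add, map_add, map_add, ha, hb]
      | single l r =>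
        rw [show MonoidAlgebra.single l r = r • MonoidAlgebra.single l (1 : K) by
          rw [MonoidAlgebra.smul_single, smul_eq_mul, mul_one], map_smul, map_smul, map_smul]
        congr 1
        have hg : IsGroupLikeElem K (e.symm (MonoidAlgebra.single l (1 : K))) :=
          (MonoidAlgebra.isGroupLikeElem_single_one l).map e.symm
        show q (SGA3b.powConv K Y n (e.symm (MonoidAlgebra.single l 1))) =
          algebraMap K _ (counit (R := K) (e.symm (MonoidAlgebra.single l (1 : K))))
        rw [powConv_groupLike hg, hg.counit_eq_one, map_one, map_pow]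
        show (MonoidAlgebra.mapDomainAlgHom K K (QuotientGroup.mk' Q) (e (e.symm _))) ^ n = 1
        rw [e.apply_symm_apply, ← map_pow, MonoidAlgebra.single_pow, one_pow]
        simp only [MonoidAlgebra.mapDomainAlgHom_apply, MonoidAlgebra.mapDomain_single, MonoidAlgebra.one_def]
        congr 1
        exact (QuotientGroup.eq_one_iff _).2 ⟨l, rfl⟩
    have hker : SGA3b.torsionIdeal K Y n ≤ RingHom.ker q := by
      refine Ideal.map_le_iff_le_comap.2 fun z hz => ?_
      show q (SGA3b.powConv K Y n z) = 0
      rw [← AlgHom.comp_apply, hqn, AlgHom.comp_apply, RingHom.mem_ker.1 hz, map_zero]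
    have hg : IsGroupLikeElem K (e.symm (MonoidAlgebra.single m (1 : K))) :=
      (MonoidAlgebra.isGroupLikeElem_single_one m).map e.symm
    have h1 := hker (h n hn (e.symm (MonoidAlgebra.single m 1) - 1) (by
      rw [map_sub, hg.counit_eq_one, Bialgebra.counit_one, sub_self]))
    rw [RingHom.mem_ker, map_sub, map_one, sub_eq_zero] at h1
    change MonoidAlgebra.mapDomainAlgHom K K (QuotientGroup.mk' Q) (e (e.symm _)) = 1 at h1
    simp only [e.apply_symm_apply, MonoidAlgebra.mapDomainAlgHom_apply, MonoidAlgebra.mapDomain_single,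
      MonoidAlgebra.one_def] at h1
    exact (QuotientGroup.eq_one_iff _).1 (MonoidAlgebra.single_left_injective one_ne_zero h1)
  obtain ⟨w, rfl⟩ : ∃ w, e.symm w = y := ⟨e y, e.symm_apply_apply y⟩
  induction w using MonoidAlgebra.induction_linear with
  | zero => simp
  | add a b ha hb => rw [map_add, map_add, map_add, ← ha, ← hb]
  | single l r =>
    have hg : IsGroupLikeElem K (e.symm (MonoidAlgebra.single l (1 : K))) :=
      (MonoidAlgebra.isGroupLikeElem_single_one l).map e.symm
    rw [show MonoidAlgebra.single l r = r • MonoidAlgebra.single l (1 : K) by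
      rw [MonoidAlgebra.smul_single, smul_eq_mul, mul_one], map_smul, map_smul, hg.counit_eq_one]
    rw [smul_eq_mul, mul_one, hP l, ← MonoidAlgebra.one_def, map_one, Algebra.algebraMap_eq_smul_one]

/-- Local version. -/
theorem sub_counit_eq_zero_of_local [IsLocalRing R] (hA : SGA3b.IsMultType R A) [Algebra.FiniteType R A]
    (f : A →ₐc[R] C) (hf : Function.Surjective f)
    (h : ∀ c : C, c - algebraMap R C (counit c) ∈ (IsLocalRing.maximalIdeal R).map (algebraMap R C)) (c : C) :
    c = algebraMap R C (counit c) := by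
  classical
  haveI := isCocomm hA
  haveI : Algebra.FiniteType R C := Algebra.FiniteType.of_surjective (f : A →ₐ[R] C) hf
  let θ : C →ₗ[R] C := LinearMap.id - (Algebra.linearMap R C) ∘ₗ (counit (R := R) (A := C))
  have hθ : ∀ x, θ x = x - algebraMap R C (counit x) := fun _ => rfl
  have htor : ∀ n : ℕ, 0 < n → ∀ x : C, θ x ∈ (SGA3b.torsionIdeal R A n).map (f : A →ₐ[R] C) := by
    intro n hn x
    let J := SGA3b.torsionIdeal R A n
    haveI : J.IsHopfIdeal R := isHopfIdeal_torsion (R := R) (A := A) n
    haveI : Module.Finite R (A ⧸ J) :=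
      finite_of_torsion (isMultType_torsion hA n J rfl) hn (torsionIdeal_quotient n J rfl)
    let T := J.map (f : A →ₐ[R] C)
    haveI : Module.Finite R (C ⧸ T) :=
      Module.Finite.of_surjective (Ideal.quotientMapₐ T (f : A →ₐ[R] C) Ideal.le_comap_map).toLinearMap
        (by
          intro y
          obtain ⟨y, rfl⟩ := Ideal.Quotient.mk_surjective y
          obtain ⟨a, rfl⟩ := hf y
          exact ⟨Ideal.Quotient.mk _ a, rfl⟩)
    let m : C →ₗ[R] C ⧸ T := (Ideal.Quotient.mkₐ R T).toLinearMap ∘ₗ θ
    have hT : T.restrictScalars R ≤ LinearMap.ker m := by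
      intro z hz
      have hε : counit (R := R) z = 0 := by
        have h1 : T ≤ RingHom.ker (Bialgebra.counitAlgHom R C) := by
          refine Ideal.map_le_iff_le_comap.2 (Ideal.map_le_iff_le_comap.2 fun a ha => ?_)
          show counit (R := R) (f (SGA3b.powConv R A n a)) = 0
          rw [CoalgHomClass.counit_comp_apply, counit_powConv]
          exact ha
        exact h1 hz
      show Ideal.Quotient.mk T (θ z) = 0
      rw [hθ, hε, map_zero, sub_zero, Ideal.Quotient.eq_zero_iff_mem]
      exact hz
    let N : Submodule R (C ⧸ T) := LinearMap.range m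
    have hN : N.FG := by
      rw [show N = LinearMap.range ((T.restrictScalars R).liftQ m hT) from (Submodule.range_liftQ _ _ _).symm]
      rw [LinearMap.range_eq_map]
      refine Submodule.FG.map _ ?_
      haveI : Module.Finite R (C ⧸ T.restrictScalars R) :=
        Module.Finite.equiv (Submodule.Quotient.restrictScalarsEquiv R T).symm
      exact Module.Finite.fg_top
    have hle : N ≤ IsLocalRing.maximalIdeal R • N := by
      rintro _ ⟨z, rfl⟩
      have hz := h z
      rw [← hθ] at hz
      have hz' : θ z ∈ IsLocalRing.maximalIdeal R • (⊤ : Submodule R C) := by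
        rw [Ideal.smul_top_eq_map]
        exact hz
      have hidem : θ (θ z) = θ z := by
        rw [hθ (θ z), hθ z, map_sub, Bialgebra.counit_algebraMap, sub_self, map_zero, sub_zero]
      have := Submodule.mem_map_of_mem (f := m) hz'
      rw [Submodule.map_smul''] at this
      refine Submodule.smul_mono le_rfl (le_of_eq (LinearMap.range_eq_map m).symm) ?_
      convert this using 1
      show Ideal.Quotient.mk T (θ z) = Ideal.Quotient.mk T (θ (θ z))
      rw [hidem]
    have h0 : N = ⊥ := Submodule.eq_bot_of_le_smul_of_le_jacobson_bot _ _ hN hle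
      (IsLocalRing.jacobson_eq_maximalIdeal ⊥ bot_ne_top).ge
    have : m x = 0 := (Submodule.mem_bot R).1 (h0 ▸ LinearMap.mem_range_self m x)
    exact Ideal.Quotient.eq_zero_iff_mem.1 this
  -- the fibres
  have hfib : ∀ (p : Ideal R) [p.IsPrime] (x : C), ∃ r : R, r ∉ p ∧ r • θ x ∈ p.map (algebraMap R C) := by
    intro p _ x
    refine Groth.Agent.MultT.QFKilled.exists_smul_mem_of_fibre_eq_zero p (θ x) ?_
    let K := AlgebraicClosure p.ResidueField
    let fK : K ⊗[R] A →ₐc[K] K ⊗[R] C := Bialgebra.TensorProduct.map (BialgHom.id K K) f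
    have hfK : ∀ (k : K) (a : A), fK (k ⊗ₜ a) = k ⊗ₜ f a := fun k a =>
      Bialgebra.TensorProduct.map_tmul _ _ k a
    have hfKs : Function.Surjective fK := fun z => by
      induction z using TensorProduct.induction_on with
      | zero => exact ⟨0, map_zero _⟩
      | tmul k y => obtain ⟨a, rfl⟩ := hf y; exact ⟨k ⊗ₜ a, hfK k a⟩
      | add u v hu hv =>
        obtain ⟨a, rfl⟩ := hu
        obtain ⟨b, rfl⟩ := hv
        exact ⟨a + b, map_add _ a b⟩
    have hcnt : ∀ c : C, counit (R := K) ((1 : K) ⊗ₜ[R] c) = algebraMap R K (counit c) := fun c => by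
      simp [TensorProduct.counit_tmul, Algebra.smul_def]
    have hone : ∀ c : C, (1 : K) ⊗ₜ[R] c - algebraMap K (K ⊗[R] C) (counit ((1 : K) ⊗ₜ[R] c)) =
        (1 : K) ⊗ₜ[R] θ c := by
      intro c
      rw [hθ, hcnt, TensorProduct.tmul_sub, ← IsScalarTower.algebraMap_apply,
        Algebra.algebraMap_eq_smul_one, Algebra.algebraMap_eq_smul_one, TensorProduct.tmul_smul]
      rfl
    have hY := counit_eq_of_torsion (isMultType_baseChange hA K) fK hfKs (fun n hn y hy => ?_) ((1 : K) ⊗ₜ x)
    · have h2 : (1 : K) ⊗ₜ[R] θ x = 0 := by rw [← hone, sub_eq_zero]; exact hY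
      let j : p.ResidueField →ₐ[R] K := IsScalarTower.toAlgHom R p.ResidueField K
      have h3 : Function.Injective (j.toLinearMap.rTensor C) := by
        let i : p.ResidueField →ₗ[p.ResidueField] K := Algebra.linearMap p.ResidueField K
        obtain ⟨l, hl⟩ := LinearMap.exists_leftInverse_of_injective i
          (LinearMap.ker_eq_bot.2 (algebraMap p.ResidueField K).injective)
        intro a b hab
        have := congrArg ((l.restrictScalars R).rTensor C) hab
        rwa [← LinearMap.rTensor_comp_apply, ← LinearMap.rTensor_comp_apply,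
          show (l.restrictScalars R) ∘ₗ j.toLinearMap = LinearMap.id from
            LinearMap.ext fun z => LinearMap.congr_fun hl z, LinearMap.rTensor_id_apply,
          LinearMap.rTensor_id_apply] at this
      apply h3
      rw [LinearMap.rTensor_tmul, map_zero]
      simpa [j] using h2
    · have hy' : y - algebraMap K _ (counit y) ∈ SGA3b.torsionIdeal K (K ⊗[R] C) n := by
        clear hy
        induction y using TensorProduct.induction_on with
        | zero => simp
        | add u v hu hv => rw [map_add, map_add, add_sub_add_comm]; exact add_mem hu hv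
        | tmul k c =>
          have h1 : (1 : K) ⊗ₜ[R] θ c ∈ SGA3b.torsionIdeal K (K ⊗[R] C) n := by
            have hle : ((SGA3b.torsionIdeal R A n).map (f : A →ₐ[R] C)).map
                (Algebra.TensorProduct.includeRight : C →ₐ[R] K ⊗[R] C) ≤ SGA3b.torsionIdeal K (K ⊗[R] C) n := by
              refine (Ideal.map_mono (map_torsion_le f n)).trans (Ideal.map_le_iff_le_comap.2 ?_)
              refine Ideal.map_le_iff_le_comap.2 fun z hz => ?_
              simp only [Ideal.mem_comap]
              show (1 : K) ⊗ₜ[R] SGA3b.powConv R C n z ∈ SGA3b.torsionIdeal K (K ⊗[R] C) n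
              rw [← Groth.Agent.VerschComp.powConv_one_tmul]
              refine Ideal.mem_map_of_mem _ ?_
              rw [RingHom.mem_ker, Bialgebra.counitAlgHom_apply, hcnt, show counit (R := R) z = 0 from hz, map_zero]
            exact hle (Ideal.mem_map_of_mem _ (htor n hn c))
          rw [show k ⊗ₜ[R] c = k • ((1 : K) ⊗ₜ[R] c) by rw [TensorProduct.smul_tmul', smul_eq_mul, mul_one],
            map_smul, smul_eq_mul, map_mul, ← Algebra.smul_def, ← smul_sub, hone]
          exact Submodule.smul_of_tower_mem _ k h1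
      rwa [hy, map_zero, sub_zero] at hy'
  -- conclusion
  let I : Ideal C := RingHom.ker (Bialgebra.counitAlgHom R C)
  have hθI : ∀ x, θ x ∈ I := fun x => by
    show counit (R := R) (θ x) = 0
    rw [hθ, map_sub, Bialgebra.counit_algebraMap, sub_self]
  have hIfg : I.FG := counitKer_fg
  have hI : I = ⊥ := by
    rw [eq_bot_iff]
    intro z hz
    rw [Ideal.mem_bot]
    refine eq_zero_of_localization z fun P hP => ?_
    haveI := hP.isPrime
    let L := Localization.AtPrime P
    haveI : (P.comap (algebraMap R C)).IsPrime := Ideal.IsPrime.comap _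
    have hle : I.map (algebraMap C L) ≤ IsLocalRing.maximalIdeal L • I.map (algebraMap C L) := by
      refine Ideal.map_le_iff_le_comap.2 fun y hy => ?_
      obtain ⟨r, hr, hry⟩ := hfib (P.comap (algebraMap R C)) y
      have hθy : θ y = y := by rw [hθ, show counit (R := R) y = 0 from hy, map_zero, sub_zero]
      rw [hθy] at hry
      have hmem : r • y ∈ P * I := by
        rw [← Submodule.restrictScalars_mem R, ← Ideal.smul_top_eq_map] at hry
        have key : ∀ w ∈ (P.comap (algebraMap R C)) • (⊤ : Submodule R C), θ w ∈ P * I := by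
          intro w hw
          induction hw using Submodule.smul_induction_on' with
          | smul a ha b _ =>
            rw [map_smul, Algebra.smul_def]
            exact Ideal.mul_mem_mul (Ideal.mem_comap.1 ha) (hθI b)
          | add a _ b _ ha hb => rw [map_add]; exact add_mem ha hb
        have := key _ hry
        rwa [map_smul, hθy] at this
      rw [Ideal.mem_comap]
      have hu : IsUnit (algebraMap C L (algebraMap R C r)) := IsLocalization.map_units L (⟨_, hr⟩ : P.primeCompl)
      rw [← Ideal.unit_mul_mem_iff_mem _ hu, ← map_mul, ← Algebra.smul_def]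
      have := Ideal.mem_map_of_mem (algebraMap C L) hmem
      rw [Ideal.map_mul, Localization.AtPrime.map_eq_maximalIdeal] at this
      exact this
    have h0 := Submodule.eq_bot_of_le_smul_of_le_jacobson_bot _ _ (Ideal.FG.map hIfg (algebraMap C L)) hle
      (IsLocalRing.jacobson_eq_maximalIdeal ⊥ bot_ne_top).ge
    exact (Ideal.mem_bot).1 (h0 ▸ Ideal.mem_map_of_mem _ hz)
  have := hθI c
  rw [hI, Ideal.mem_bot, hθ, sub_eq_zero] at this
  exact this

/-- **A closed subgroup of a group of multiplicative type with trivial fibre at `p` is trivial near `p`.** -/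
theorem exists_trivial_nhd (hA : SGA3b.IsMultType R A) [Algebra.FiniteType R A] (J : Ideal A) [J.IsHopfIdeal R]
    (p : Ideal R) [p.IsPrime]
    (h : ∀ x : A, counit (R := R) x = 0 → (1 : p.ResidueField) ⊗ₜ[R] Ideal.Quotient.mk J x = 0) :
    ∃ g : R, g ∉ p ∧ ∀ x : A, counit (R := R) x = 0 → g • x ∈ J := by
  classical
  let L := Localization.AtPrime p
  let f : L ⊗[R] A →ₐc[L] L ⊗[R] (A ⧸ J) :=
    Bialgebra.TensorProduct.map (BialgHom.id L L) (Bialgebra.Quotient.mkBialgHom (R := R) J)
  have hfa : ∀ (l : L) (a : A), f (l ⊗ₜ a) = l ⊗ₜ Ideal.Quotient.mk J a := fun l a =>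
    Bialgebra.TensorProduct.map_tmul _ _ l a
  have hfs : Function.Surjective f := fun z => by
    induction z using TensorProduct.induction_on with
    | zero => exact ⟨0, map_zero _⟩
    | tmul k y => obtain ⟨a, rfl⟩ := Ideal.Quotient.mk_surjective y; exact ⟨k ⊗ₜ a, hfa k a⟩
    | add u v hu hv =>
      obtain ⟨a, rfl⟩ := hu
      obtain ⟨b, rfl⟩ := hv
      exact ⟨a + b, map_add _ a b⟩
  have hred : ∀ a : A, ∃ r : R, r ∉ p ∧ r • (Ideal.Quotient.mk J (a - algebraMap R A (counit a))) ∈
      p.map (algebraMap R (A ⧸ J)) := fun a =>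
    Groth.Agent.MultT.QFKilled.exists_smul_mem_of_fibre_eq_zero p _ (h _ (by rw [map_sub, Bialgebra.counit_algebraMap, sub_self]))
  have hloc := sub_counit_eq_zero_of_local (R := L) (isMultType_baseChange hA L) f hfs (fun c => by
    induction c using TensorProduct.induction_on with
    | zero => simp
    | add u v hu hv => rw [map_add, map_add, add_sub_add_comm]; exact add_mem hu hv
    | tmul l y =>
      obtain ⟨a, rfl⟩ := Ideal.Quotient.mk_surjective y
      obtain ⟨r, hr, hra⟩ := hred a
      have h1 : ∀ w ∈ p.map (algebraMap R (A ⧸ J)),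
          (1 : L) ⊗ₜ[R] w ∈ (IsLocalRing.maximalIdeal L).map (algebraMap L (L ⊗[R] (A ⧸ J))) := by
        intro w hw
        suffices hle : p.map (algebraMap R (A ⧸ J)) ≤ ((IsLocalRing.maximalIdeal L).map
            (algebraMap L (L ⊗[R] (A ⧸ J)))).comap
            (Algebra.TensorProduct.includeRight : (A ⧸ J) →ₐ[R] L ⊗[R] (A ⧸ J)).toRingHom by
          exact hle hw
        refine Ideal.map_le_iff_le_comap.2 fun x hx => ?_
        simp only [Ideal.mem_comap]
        show (Algebra.TensorProduct.includeRight : (A ⧸ J) →ₐ[R] L ⊗[R] (A ⧸ J)) (algebraMap R _ x) ∈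
          (IsLocalRing.maximalIdeal L).map (algebraMap L (L ⊗[R] (A ⧸ J)))
        rw [AlgHom.commutes, IsScalarTower.algebraMap_apply R L]
        refine Ideal.mem_map_of_mem _ ?_
        rw [← Localization.AtPrime.map_eq_maximalIdeal]
        exact Ideal.mem_map_of_mem _ hx
      have h2 := h1 _ hra
      rw [show (1 : L) ⊗ₜ[R] (r • Ideal.Quotient.mk J (a - algebraMap R A (counit a))) =
        algebraMap L (L ⊗[R] (A ⧸ J)) (algebraMap R L r) * ((1 : L) ⊗ₜ[R] Ideal.Quotient.mk J (a - algebraMap R A (counit a))) by
          rw [Algebra.TensorProduct.algebraMap_apply, Algebra.algebraMap_self, RingHom.id_apply,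
            Algebra.TensorProduct.tmul_mul_tmul, mul_one, one_mul, Algebra.algebraMap_eq_smul_one,
            ← TensorProduct.smul_tmul, Algebra.algebraMap_eq_smul_one],
        Ideal.unit_mul_mem_iff_mem _ ((IsLocalization.map_units L (⟨r, hr⟩ : p.primeCompl)).map _)] at h2
      have h3 : l ⊗ₜ[R] Ideal.Quotient.mk J a - algebraMap L _ (counit (l ⊗ₜ[R] Ideal.Quotient.mk J a)) =
          l • ((1 : L) ⊗ₜ[R] Ideal.Quotient.mk J (a - algebraMap R A (counit a))) := by
        rw [TensorProduct.counit_tmul, show Ideal.Quotient.mk J a = Bialgebra.Quotient.mkBialgHom (R := R) J a from rfl,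
          CoalgHomClass.counit_comp_apply, CommSemiring.counit_apply, map_sub,
          TensorProduct.tmul_sub, smul_sub, TensorProduct.smul_tmul', smul_eq_mul, mul_one,
          Algebra.algebraMap_eq_smul_one (A := A), Algebra.algebraMap_eq_smul_one (A := L ⊗[R] (A ⧸ J))]
        congr 1
        rw [show Ideal.Quotient.mk J (counit (R := R) a • (1 : A)) = counit (R := R) a • (1 : A ⧸ J) from rfl,
          TensorProduct.tmul_smul, Algebra.TensorProduct.one_def, TensorProduct.smul_tmul', TensorProduct.smul_tmul',
          TensorProduct.smul_tmul', smul_eq_mul, mul_one]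
        congr 1
        simp
      rw [h3]
      exact Submodule.smul_of_tower_mem _ l h2)
  obtain ⟨G, hG⟩ : (RingHom.ker (Bialgebra.counitAlgHom R A)).FG := counitKer_fg
  have hkill : ∀ x : A, counit (R := R) x = 0 → ∃ r : R, r ∉ p ∧ r • x ∈ J := by
    intro x hx
    have h4 := hloc ((1 : L) ⊗ₜ Ideal.Quotient.mk J x)
    rw [TensorProduct.counit_tmul, show Ideal.Quotient.mk J x = Bialgebra.Quotient.mkBialgHom (R := R) J x from rfl,
      CoalgHomClass.counit_comp_apply, hx, zero_smul, map_zero] at h4
    obtain ⟨⟨r, hr⟩, hr0⟩ := (IsLocalizedModule.eq_zero_iff p.primeCompl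
      (TensorProduct.mk R L (A ⧸ J) 1)).1 h4
    refine ⟨r, hr, ?_⟩
    rw [← Ideal.Quotient.eq_zero_iff_mem]
    exact hr0
  have hGx : ∀ x ∈ G, ∃ r : R, r ∉ p ∧ r • x ∈ J := fun x hx => hkill x (by
    have : x ∈ RingHom.ker (Bialgebra.counitAlgHom R A) := hG ▸ Submodule.subset_span hx
    exact this)
  choose! r hr hrJ using hGx
  refine ⟨∏ x ∈ G, r x, fun hmem => ?_, fun x hx => ?_⟩
  · obtain ⟨y, hy, hy'⟩ := (Ideal.IsPrime.prod_mem_iff.1 hmem)
    exact hr y hy hy'
  · have hxI : x ∈ RingHom.ker (Bialgebra.counitAlgHom R A) := hx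
    rw [← hG] at hxI
    have key : ∀ y ∈ Ideal.span (G : Set A), (∏ x ∈ G, r x) • y ∈ J := by
      intro y hy
      induction hy using Submodule.span_induction with
      | mem y hy =>
        rw [← Finset.prod_erase_mul G r (Finset.mem_coe.1 hy), mul_smul]
        exact Submodule.smul_of_tower_mem _ _ (hrJ y hy)
      | zero => simp
      | add u v _ _ hu hv => rw [smul_add]; exact add_mem hu hv
      | smul a u _ hu => rw [← smul_comm]; exact Ideal.mul_mem_left _ a hu
    exact key x hxI

end Groth.Agent.MTBridge
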