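import Groth.Agent.MTBridge.BaseChange
import Groth.Agent.MTBridge.TrivialSub
import Groth.Agent.LimDesc.FPCancel
import Mathlib

/-!
# A homomorphism out of a group of multiplicative type which is mono on a fibre is mono nearby
-/

set_option autoImplicit false
set_option linter.style.haveILetI false
set_option backward.isDefEq.respectTransparency false
set_option maxHeartbeats 1000000
set_option synthInstance.maxHeartbeats 400000

universe u

open CategoryTheory Limits MonoidalCategory CartesianMonoidalCategory AlgebraicGeometry TensorProduct Opposite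
open TopologicalSpace WithConv
open scoped CategoryTheory.Obj MonObj

noncomputable section

namespace Groth.Agent.MTBridge

/-- An ideal cutting out a subgroup functor is a Hopf ideal. -/
theorem isHopfIdeal_of_points {R A : Type u} [CommRing R] [CommRing A] [HopfAlgebra R A] (J : Ideal A)
    (hone : J ≤ RingHom.ker (1 : WithConv (A →ₐ[R] R)).ofConv)
    (hmul : ∀ (T : Type u) [CommRing T] [Algebra R T] (φ ψ : WithConv (A →ₐ[R] T)),
      J ≤ RingHom.ker φ.ofConv → J ≤ RingHom.ker ψ.ofConv → J ≤ RingHom.ker (φ * ψ).ofConv)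
    (hinv : ∀ (T : Type u) [CommRing T] [Algebra R T] (φ : A →ₐ[R] T),
      J ≤ RingHom.ker φ → J ≤ RingHom.ker (φ.comp (HopfAlgebra.antipodeAlgHom R A))) : J.IsHopfIdeal R := by
  have hcounit : ∀ x ∈ J, Coalgebra.counit (R := R) x = 0 := fun x hx => by
    have h1 := hone hx
    rw [RingHom.mem_ker, AlgHom.convOne_apply] at h1
    simpa using h1
  refine { toIsCoideal := ⟨fun x hx => hcounit x hx, fun x hx => ?_⟩, antipode_mem := fun x hx => ?_ }
  · let m : A →ₐ[R] A ⧸ J := Ideal.Quotient.mkₐ R J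
    have hm : ∀ i : (A ⧸ J) →ₐ[R] (A ⧸ J) ⊗[R] (A ⧸ J),
        J ≤ RingHom.ker (toConv (i.comp m)).ofConv := fun i y hy => by
        rw [RingHom.mem_ker]
        show i (Ideal.Quotient.mk J y) = 0
        rw [Ideal.Quotient.eq_zero_iff_mem.2 hy, map_zero]
    have h1 := hmul _ _ _ (hm Algebra.TensorProduct.includeLeft)
      (hm Algebra.TensorProduct.includeRight) hx
    rw [RingHom.mem_ker, AlgHom.convMul_def] at h1
    let e := Submodule.Quotient.restrictScalarsEquiv R J
    have key : ∀ z : A ⊗[R] A,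
        Algebra.TensorProduct.lmul' R (S := (A ⧸ J) ⊗[R] (A ⧸ J))
          (Algebra.TensorProduct.map ((Algebra.TensorProduct.includeLeft : (A ⧸ J) →ₐ[R] _).comp m)
            ((Algebra.TensorProduct.includeRight : (A ⧸ J) →ₐ[R] _).comp m) z) =
        TensorProduct.congr e e
          (TensorProduct.map (J.restrictScalars R).mkQ (J.restrictScalars R).mkQ z) := by
      intro z
      induction z using TensorProduct.induction_on with
      | zero => simp
      | add a b ha hb => simp only [map_add, ha, hb]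
      | tmul a b =>
        simp only [Algebra.TensorProduct.map_tmul, Algebra.TensorProduct.lmul'_apply_tmul,
          AlgHom.comp_apply, Algebra.TensorProduct.includeLeft_apply,
          Algebra.TensorProduct.includeRight_apply, Algebra.TensorProduct.tmul_mul_tmul, mul_one, one_mul,
          TensorProduct.map_tmul, TensorProduct.congr_tmul]
        rfl
    have h2 : TensorProduct.congr e e (TensorProduct.map (J.restrictScalars R).mkQ (J.restrictScalars R).mkQ
        (Coalgebra.comul x)) = 0 := by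
      rw [← key]
      exact h1
    exact (TensorProduct.congr e e).map_eq_zero_iff.1 h2
  · have h1 := hinv (A ⧸ J) (Ideal.Quotient.mkₐ R J) (fun y hy => by
      rw [RingHom.mem_ker]
      exact Ideal.Quotient.eq_zero_iff_mem.2 hy) hx
    rw [RingHom.mem_ker] at h1
    exact Ideal.Quotient.eq_zero_iff_mem.1 h1

/-- The point of an affine group attached to an algebra map. -/
abbrev pt {R A T : Type u} [CommRing R] [CommRing A] [HopfAlgebra R A] [CommRing T] [Algebra R T]
    (φ : WithConv (A →ₐ[R] T)) :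
    (Spec (CommRingCat.of T)).asOver (Spec (CommRingCat.of R)) ⟶ (specGrp R A).X :=
  Spec.mapMulEquiv φ

theorem pt_left {R A T : Type u} [CommRing R] [CommRing A] [HopfAlgebra R A] [CommRing T] [Algebra R T]
    (φ : WithConv (A →ₐ[R] T)) : (pt φ).left = Spec.map (CommRingCat.ofHom φ.ofConv.toRingHom) := rfl

variable {R A : Type u} [CommRing R] [CommRing A] [HopfAlgebra R A]
  {G : Over (Spec (CommRingCat.of R))} [GrpObj G]

/-- The kernel ideal of a homomorphism into a separated group. -/
theorem exists_ker_ideal (u : (specGrp R A).X ⟶ G) [IsMonHom u] [IsSeparated G.hom] :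
    ∃ J : Ideal A, J.IsHopfIdeal R ∧ (∀ (T : Type u) [CommRing T] [Algebra R T] (φ : WithConv (A →ₐ[R] T)),
      pt φ ≫ u = 1 ↔ J ≤ RingHom.ker φ.ofConv) ∧ (LocallyOfFiniteType G.hom → J.FG) := by
  have hη : (η[G] : 𝟙_ _ ⟶ G).left ≫ G.hom = 𝟙 _ := Over.w (η[G])
  haveI : IsClosedImmersion ((η[G] : 𝟙_ _ ⟶ G).left ≫ G.hom) := by rw [hη]; infer_instance
  haveI : IsClosedImmersion (η[G] : 𝟙_ _ ⟶ G).left := IsClosedImmersion.of_comp _ G.hom
  let i : pullback u.left (η[G] : 𝟙_ _ ⟶ G).left ⟶ Spec (CommRingCat.of A) := pullback.fst _ _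
  haveI : IsClosedImmersion i :=
    (inferInstanceAs (IsClosedImmersion (pullback.fst u.left (η[G] : 𝟙_ _ ⟶ G).left)) : _)
  obtain ⟨J, e, he⟩ := IsClosedImmersion.Spec_iff.1 ‹IsClosedImmersion i›
  have key : ∀ (T : Type u) [CommRing T] [Algebra R T] (φ : WithConv (A →ₐ[R] T)),
      pt φ ≫ u = 1 ↔ J ≤ RingHom.ker φ.ofConv := by
    intro T _ _ φ
    have hone : ((1 : (Spec (CommRingCat.of T)).asOver (Spec (CommRingCat.of R)) ⟶ G)).left =
        Spec.map (CommRingCat.ofHom (algebraMap R T)) ≫ (η[G] : 𝟙_ _ ⟶ G).left := by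
      rw [Hom.one_def, Over.comp_left]
      rfl
    constructor
    · intro h
      have h1 : Spec.map (CommRingCat.ofHom φ.ofConv.toRingHom) ≫ u.left =
          Spec.map (CommRingCat.ofHom (algebraMap R T)) ≫ (η[G] : 𝟙_ _ ⟶ G).left := by
        rw [← hone, ← h]
        rfl
      let l : Spec (CommRingCat.of T) ⟶ pullback u.left (η[G] : 𝟙_ _ ⟶ G).left := pullback.lift _ _ h1
      have h2 : (l ≫ e.hom) ≫ Spec.map (CommRingCat.ofHom (Ideal.Quotient.mk J)) =
          Spec.map (CommRingCat.ofHom φ.ofConv.toRingHom) := by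
        rw [Category.assoc, ← he]
        exact pullback.lift_fst _ _ _
      rw [← Spec.map_preimage (l ≫ e.hom), ← Spec.map_comp] at h2
      have h3 := Spec.map_injective h2
      intro x hx
      rw [RingHom.mem_ker]
      have h4 := congrArg (fun f => f.hom x) h3
      simp only [CommRingCat.hom_comp, RingHom.comp_apply, CommRingCat.hom_ofHom] at h4
      rw [Ideal.Quotient.eq_zero_iff_mem.2 hx, map_zero] at h4
      exact h4.symm
    · intro h
      let l : Spec (CommRingCat.of T) ⟶ pullback u.left (η[G] : 𝟙_ _ ⟶ G).left :=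
        Spec.map (CommRingCat.ofHom (Ideal.Quotient.lift J φ.ofConv.toRingHom fun x hx => RingHom.mem_ker.1 (h hx))) ≫ e.inv
      have hl : l ≫ i = (pt φ).left := by
        rw [he, pt_left]
        simp only [l, Category.assoc, e.inv_hom_id_assoc, ← Spec.map_comp, ← CommRingCat.ofHom_comp,
          Ideal.Quotient.lift_comp_mk]
      apply Over.OverMorphism.ext
      rw [Over.comp_left, hone, ← hl, Category.assoc]
      show l ≫ pullback.fst _ _ ≫ u.left = _
      rw [pullback.condition, ← Category.assoc]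
      congr 1
      have h5 : l ≫ pullback.snd u.left (η[G] : 𝟙_ _ ⟶ G).left ≫ (η[G] : 𝟙_ _ ⟶ G).left ≫ G.hom =
          (pt φ).left ≫ (specGrp R A).X.hom := by
        rw [← hl, Category.assoc, ← Category.assoc (pullback.snd _ _), ← pullback.condition]
        show l ≫ (i ≫ u.left) ≫ G.hom = (l ≫ i) ≫ (specGrp R A).X.hom
        rw [Category.assoc i u.left, Over.w u, ← Category.assoc]
      rw [hη, Category.comp_id, Over.w (pt φ)] at h5
      exact h5
  refine ⟨J, isHopfIdeal_of_points J ?_ ?_ ?_, key, fun hft => ?_⟩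
  rotate_right
  · haveI := hft
    haveI : LocallyOfFinitePresentation ((η[G] : 𝟙_ _ ⟶ G).left ≫ G.hom) := by rw [hη]; infer_instance
    haveI : LocallyOfFinitePresentation (η[G] : 𝟙_ _ ⟶ G).left := Groth.Agent.LimDesc.lfp_of_comp _ G.hom
    haveI : LocallyOfFinitePresentation i := MorphismProperty.pullback_fst _ _ inferInstance
    have h1 : LocallyOfFinitePresentation (Spec.map (CommRingCat.ofHom (Ideal.Quotient.mk J))) := by
      have h2 : Spec.map (CommRingCat.ofHom (Ideal.Quotient.mk J)) = e.inv ≫ i := by rw [he, e.inv_hom_id_assoc]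
      rw [h2]
      infer_instance
    rw [HasRingHomProperty.Spec_iff (P := @LocallyOfFinitePresentation)] at h1
    haveI : Algebra.FinitePresentation A (A ⧸ J) := RingHom.finitePresentation_algebraMap.1 h1
    have h3 := Algebra.FinitePresentation.ker_fG_of_surjective (Ideal.Quotient.mkₐ A J) Ideal.Quotient.mk_surjective
    rwa [show RingHom.ker (Ideal.Quotient.mkₐ A J).toRingHom = J from Ideal.mk_ker] at h3
  · refine (key R 1).1 ?_
    rw [show pt (1 : WithConv (A →ₐ[R] R)) = 1 from map_one Spec.mapMulEquiv, MonObj.one_comp]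
  · intro T _ _ φ ψ hφ hψ
    refine (key T _).1 ?_
    rw [show pt (φ * ψ) = pt φ * pt ψ from map_mul Spec.mapMulEquiv φ ψ, MonObj.mul_comp,
      (key T φ).2 hφ, (key T ψ).2 hψ, one_mul]
  · intro T _ _ φ hφ
    refine (key T (toConv (φ.comp (HopfAlgebra.antipodeAlgHom R A)))).1 ?_
    have h0 : toConv (φ.comp (HopfAlgebra.antipodeAlgHom R A)) * toConv φ = (1 : WithConv (A →ₐ[R] T)) := by
      apply WithConv.ofConv_injective
      have h1 := AlgHom.comp_convMul_distrib φ (toConv (HopfAlgebra.antipodeAlgHom R A)) (toConv (AlgHom.id R A))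
      rw [AlgHom.antipode_id_cancel] at h1
      simp only [ofConv_toConv, AlgHom.comp_id] at h1
      rw [← h1]
      exact AlgHom.ext fun x => by simp [AlgHom.convOne_apply]
    have h2 := congrArg (fun x => pt x ≫ u) h0
    simp only [show pt (toConv (φ.comp (HopfAlgebra.antipodeAlgHom R A)) * toConv φ) = _ from map_mul Spec.mapMulEquiv _ _,
      show pt (1 : WithConv (A →ₐ[R] T)) = 1 from map_one Spec.mapMulEquiv, MonObj.mul_comp,
      MonObj.one_comp, (key T (toConv φ)).2 hφ, mul_one] at h2
    exact h2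

/-- **Affine form**: mono on the fibre at `p` implies mono over a basic open containing `p`. -/
theorem exists_mono_nhd (hA : SGA3b.IsMultType R A) [Algebra.FiniteType R A] (u : (specGrp R A).X ⟶ G)
    [IsMonHom u] [IsSeparated G.hom] (p : Ideal R) [p.IsPrime]
    (hfib : ∀ (T : Type u) [CommRing T] [Algebra p.ResidueField T] [Algebra R T]
      [IsScalarTower R p.ResidueField T] (φ ψ : WithConv (A →ₐ[R] T)), pt φ ≫ u = pt ψ ≫ u → φ = ψ) :
    ∃ g : R, g ∉ p ∧ ∀ (W : Over (Spec (CommRingCat.of R))) (a b : W ⟶ (specGrp R A).X),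
      Set.range W.hom ⊆ (PrimeSpectrum.basicOpen g : Set (PrimeSpectrum R)) → a ≫ u = b ≫ u → a = b := by
  obtain ⟨J, hJ, hker, -⟩ := exists_ker_ideal u
  haveI := hJ
  obtain ⟨g, hg, hgJ⟩ := exists_trivial_nhd hA J p fun x hx => by
    let φ : WithConv (A →ₐ[R] p.ResidueField ⊗[R] (A ⧸ J)) :=
      toConv ((Algebra.TensorProduct.includeRight).comp (Ideal.Quotient.mkₐ R J))
    have hφ : φ = 1 := by
      refine hfib _ φ 1 ?_
      rw [show pt (1 : WithConv (A →ₐ[R] p.ResidueField ⊗[R] (A ⧸ J))) = 1 from map_one Spec.mapMulEquiv,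
        MonObj.one_comp]
      refine (hker _ φ).2 fun y hy => ?_
      rw [RingHom.mem_ker]
      show (1 : p.ResidueField) ⊗ₜ[R] Ideal.Quotient.mk J y = 0
      rw [Ideal.Quotient.eq_zero_iff_mem.2 hy, tmul_zero]
    have h1 := congrArg (fun f => f.ofConv x) hφ
    simp only [AlgHom.convOne_apply, hx, map_zero] at h1
    exact h1
  refine ⟨g, hg, fun W a b hW hab => ?_⟩
  have hc : (a * b⁻¹) ≫ u = 1 := by
    rw [MonObj.mul_comp, hab, ← MonObj.mul_comp, mul_inv_cancel, MonObj.one_comp]
  suffices h : a * b⁻¹ = 1 by rwa [mul_inv_eq_one] at h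
  generalize a * b⁻¹ = c at hc
  apply Over.OverMorphism.ext
  refine W.left.affineCover.hom_ext _ _ fun j => ?_
  let T : Type u := Γ(W.left.affineCover.X j, ⊤)
  let k : Spec (CommRingCat.of T) ⟶ W.left := (W.left.affineCover.X j).isoSpec.inv ≫ W.left.affineCover.f j
  letI : Algebra R T := (Spec.preimage (k ≫ W.hom)).hom.toAlgebra
  have hk : Spec.map (CommRingCat.ofHom (algebraMap R T)) = k ≫ W.hom := Spec.map_preimage _
  let q : (Spec (CommRingCat.of T)).asOver (Spec (CommRingCat.of R)) ⟶ W := Over.homMk k hk.symm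
  obtain ⟨φ, hφ⟩ : ∃ φ : WithConv (A →ₐ[R] T), pt φ = q ≫ c :=
    ⟨Spec.mapMulEquiv.symm (q ≫ c), Spec.mapMulEquiv.apply_symm_apply _⟩
  have hle : J ≤ RingHom.ker φ.ofConv := (hker T φ).1 (by rw [hφ, Category.assoc, hc, MonObj.comp_one])
  have hgu : IsUnit (algebraMap R T g) := by
    by_contra hn
    obtain ⟨M, hM, hgM⟩ := exists_max_ideal_of_mem_nonunits hn
    haveI := hM.isPrime
    have h1 : (k ≫ W.hom) ⟨M, hM.isPrime⟩ ∈ Set.range W.hom := ⟨_, rfl⟩
    have h2 := hW h1
    rw [← hk] at h2
    exact h2 hgM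
  have hone : φ = 1 := by
    apply WithConv.ofConv_injective
    refine AlgHom.ext fun x => ?_
    have h3 : φ.ofConv (g • (x - algebraMap R A (Coalgebra.counit x))) = 0 :=
      hle (hgJ _ (by rw [map_sub, Bialgebra.counit_algebraMap, sub_self]))
    rw [map_smul, Algebra.smul_def, hgu.mul_right_eq_zero, map_sub, AlgHom.commutes, sub_eq_zero] at h3
    rw [h3, AlgHom.convOne_apply]
  have h4 : q ≫ c = q ≫ (1 : W ⟶ (specGrp R A).X) := by
    rw [← hφ, hone, MonObj.comp_one]
    exact map_one Spec.mapMulEquiv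
  have h5 := congrArg (fun f => (W.left.affineCover.X j).isoSpec.hom ≫ f.left) h4
  simp only [Over.comp_left, q, Over.homMk_left, k, Category.assoc, Iso.hom_inv_id_assoc] at h5
  exact h5

/-- A field valued point factors through the residue field of its image. -/
theorem exists_factor_residueField {S : Scheme.{u}} {R K : Type u} [CommRing R] [Field K] [Algebra R K]
    (j : Spec (CommRingCat.of R) ⟶ S) (p : PrimeSpectrum R) (hp : RingHom.ker (algebraMap R K) = p.asIdeal) :
    ∃ χ : Spec (CommRingCat.of K) ⟶ Spec (S.residueField (j p)),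
      χ ≫ S.fromSpecResidueField (j p) = Spec.map (CommRingCat.ofHom (algebraMap R K)) ≫ j := by
  let f : Spec (CommRingCat.of K) ⟶ S := Spec.map (CommRingCat.ofHom (algebraMap R K)) ≫ j
  have hfs := Scheme.descResidueField_stalkClosedPointTo_fromSpecResidueField K S f
  have hpt : f (IsLocalRing.closedPoint K) = j p := by
    show j ((Spec.map (CommRingCat.ofHom (algebraMap R K))) (IsLocalRing.closedPoint K)) = j p
    congr 1
    apply PrimeSpectrum.ext
    rw [← hp]
    show Ideal.comap (algebraMap R K) (IsLocalRing.closedPoint K).asIdeal = _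
    rw [show (IsLocalRing.closedPoint K).asIdeal = ⊥ from
      (Ideal.eq_bot_or_top _).resolve_right (IsLocalRing.closedPoint K).isPrime.ne_top]
    rfl
  rw [← hpt]
  exact ⟨_, hfs⟩

theorem map_left_fst {S S' : Scheme.{u}} (f : S' ⟶ S) {H G : Over S} (u : H ⟶ G) :
    ((Over.pullback f).map u).left ≫ pullback.fst G.hom f = pullback.fst H.hom f ≫ u.left :=
  pullback.lift_fst _ _ _

theorem map_left_snd {S S' : Scheme.{u}} (f : S' ⟶ S) {H G : Over S} (u : H ⟶ G) :
    ((Over.pullback f).map u).left ≫ pullback.snd G.hom f = pullback.snd H.hom f :=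
  pullback.lift_snd _ _ _

/-- **S6059.** -/
theorem exists_mono_nhd_scheme {S : Scheme.{u}} (H G : Over S) [GrpObj H] [GrpObj G]
    (hH : SGA3x.IsMultTypeFT H) [IsSeparated G.hom] (u : H ⟶ G) [IsMonHom u] (s : S)
    (hs : Mono ((Over.pullback (S.fromSpecResidueField s)).map u).left) :
    ∃ U : S.Opens, s ∈ U ∧ Mono ((Over.pullback U.ι).map u).left := by
  obtain ⟨_, ⟨V, hV, rfl⟩, hsV, -⟩ :=
    S.isBasis_affineOpens.exists_subset_of_mem_open (Set.mem_univ s) isOpen_univ
  let R : Type u := Γ(S, V)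
  let jV : Spec (CommRingCat.of R) ⟶ S := hV.fromSpec
  haveI : IsOpenImmersion jV := inferInstanceAs (IsOpenImmersion hV.fromSpec)
  obtain ⟨A, _, _, hA, hAf, ⟨e⟩⟩ := exists_hopf (Red.bc jV H) (isMultTypeFT_bc H jV hH)
  haveI := hAf
  haveI : IsSeparated (Red.bc jV G).hom := by
    show IsSeparated (pullback.snd G.hom jV)
    infer_instance
  let u' : (specGrp R A).X ⟶ Red.bc jV G := e.inv.hom.hom ≫ (Over.pullback jV).map u
  haveI : IsMonHom u' := inferInstanceAs (IsMonHom (e.inv.hom.hom ≫ (Over.pullback jV).map u))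
  obtain ⟨P, hP⟩ : ∃ P, jV P = s := (hV.range_fromSpec).ge hsV
  let P' : PrimeSpectrum R := P
  obtain ⟨g, hg, hgmono⟩ := exists_mono_nhd hA u' P'.asIdeal (fun T _ _ _ _ φ ψ hφψ => by
    subst hP
    obtain ⟨χ, hfs⟩ := exists_factor_residueField jV P'
      (Ideal.ker_algebraMap_residueField P'.asIdeal : RingHom.ker (algebraMap R P'.asIdeal.ResidueField) = _)
    have hg' : Spec.map (CommRingCat.ofHom (algebraMap P'.asIdeal.ResidueField T)) ≫ χ ≫ S.fromSpecResidueField (jV P') =
        Spec.map (CommRingCat.ofHom (algebraMap R T)) ≫ jV := by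
      rw [hfs, ← Category.assoc, ← Spec.map_comp, ← CommRingCat.ofHom_comp, ← IsScalarTower.algebraMap_eq]
    let a : (Spec (CommRingCat.of T)).asOver (Spec (CommRingCat.of R)) ⟶ Red.bc jV H := pt φ ≫ e.inv.hom.hom
    let b : (Spec (CommRingCat.of T)).asOver (Spec (CommRingCat.of R)) ⟶ Red.bc jV H := pt ψ ≫ e.inv.hom.hom
    have hab : a ≫ (Over.pullback jV).map u = b ≫ (Over.pullback jV).map u := by
      simp only [a, b, Category.assoc]
      exact hφψ
    have hstr : ∀ c : (Spec (CommRingCat.of T)).asOver (Spec (CommRingCat.of R)) ⟶ Red.bc jV H,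
        (c.left ≫ pullback.fst H.hom jV) ≫ H.hom =
          (Spec.map (CommRingCat.ofHom (algebraMap P'.asIdeal.ResidueField T)) ≫ χ) ≫ S.fromSpecResidueField (jV P') := by
      intro c
      rw [Category.assoc, pullback.condition, ← Category.assoc, Category.assoc _ χ, hg']
      congr 1
      exact Over.w c
    have hu' : (a.left ≫ pullback.fst H.hom jV) ≫ u.left = (b.left ≫ pullback.fst H.hom jV) ≫ u.left := by
      have h1 := congrArg (fun c => c.left ≫ pullback.fst G.hom jV) hab
      simpa [Category.assoc] using h1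
    have hlift : pullback.lift _ _ (hstr a) = pullback.lift _ _ (hstr b) := by
      haveI := hs
      rw [← cancel_mono ((Over.pullback (S.fromSpecResidueField (jV P'))).map u).left]
      apply pullback.hom_ext
      · simp only [Category.assoc, map_left_fst]
        simpa [Category.assoc] using hu'
      · simp only [Category.assoc, map_left_snd]
        simp
    have hfst := congrArg (fun x => x ≫ pullback.fst H.hom (S.fromSpecResidueField (jV P'))) hlift
    simp only [pullback.lift_fst] at hfst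
    have hab' : a = b := by
      apply Over.OverMorphism.ext
      apply pullback.hom_ext hfst
      exact (Over.w a).trans (Over.w b).symm
    have h2 : pt φ = pt ψ := (cancel_mono e.inv.hom.hom).1 hab'
    exact Spec.mapMulEquiv.injective h2)
  refine ⟨jV ''ᵁ PrimeSpectrum.basicOpen g, ⟨P, hg, hP⟩, ⟨fun {W} x y hxy => ?_⟩⟩
  let U : S.Opens := jV ''ᵁ PrimeSpectrum.basicOpen g
  have hUι : Set.range U.ι ⊆ Set.range jV := by
    rintro z hz
    rw [Scheme.Opens.range_ι] at hz
    obtain ⟨w, -, rfl⟩ := hz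
    exact ⟨w, rfl⟩
  let j : (U : Scheme.{u}) ⟶ Spec (CommRingCat.of R) := IsOpenImmersion.lift jV U.ι hUι
  let q : W ⟶ Spec (CommRingCat.of R) := (x ≫ pullback.snd H.hom U.ι) ≫ j
  have hsnd : x ≫ pullback.snd H.hom U.ι = y ≫ pullback.snd H.hom U.ι := by
    have h1 := congrArg (fun c => c ≫ pullback.snd G.hom U.ι) hxy
    simp only [Category.assoc] at h1
    rwa [map_left_snd] at h1
  have hfst : (x ≫ pullback.fst H.hom U.ι) ≫ u.left = (y ≫ pullback.fst H.hom U.ι) ≫ u.left := by
    have h1 := congrArg (fun c => c ≫ pullback.fst G.hom U.ι) hxy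
    simp only [Category.assoc] at h1 ⊢
    rwa [map_left_fst] at h1
  have hlift : ∀ z : W ⟶ ((Over.pullback U.ι).obj H).left, z ≫ pullback.snd H.hom U.ι = x ≫ pullback.snd H.hom U.ι →
      (z ≫ pullback.fst H.hom U.ι) ≫ H.hom = q ≫ jV := by
    intro z hz
    rw [Category.assoc, pullback.condition, ← Category.assoc, hz]
    simp only [q, j, Category.assoc, IsOpenImmersion.lift_fac]
  let a : Over.mk q ⟶ Red.bc jV H := Over.homMk (pullback.lift _ q (hlift x rfl)) (pullback.lift_snd _ _ _)
  let b : Over.mk q ⟶ Red.bc jV H := Over.homMk (pullback.lift _ q (hlift y hsnd.symm)) (pullback.lift_snd _ _ _)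
  have hab : (a ≫ e.hom.hom.hom) ≫ u' = (b ≫ e.hom.hom.hom) ≫ u' := by
    have he : e.hom.hom.hom ≫ e.inv.hom.hom = 𝟙 _ := ((Grp.forget _).mapIso e).hom_inv_id
    simp only [u', Category.assoc]
    rw [← Category.assoc e.hom.hom.hom, he, Category.id_comp]
    apply Over.OverMorphism.ext
    apply pullback.hom_ext
    · simpa [a, b, Category.assoc] using hfst
    · exact (Over.w (a ≫ (Over.pullback jV).map u)).trans (Over.w (b ≫ (Over.pullback jV).map u)).symm
  have hrange : Set.range (Over.mk q).hom ⊆ (PrimeSpectrum.basicOpen g : Set (PrimeSpectrum R)) := by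
    rintro _ ⟨w, rfl⟩
    have h1 : jV (q w) ∈ U := by
      have h2 : q ≫ jV = (x ≫ pullback.snd H.hom U.ι) ≫ U.ι := by
        simp only [q, j, Category.assoc, IsOpenImmersion.lift_fac]
      rw [← Scheme.Hom.comp_apply, h2, Scheme.Hom.comp_apply]
      exact ((x ≫ pullback.snd H.hom U.ι) w).2
    obtain ⟨z, hz, hzw⟩ := h1
    exact jV.isOpenEmbedding.injective hzw ▸ hz
  have h := hgmono (Over.mk q) _ _ hrange hab
  haveI : IsIso e.hom.hom.hom := inferInstanceAs (IsIso ((Grp.forget _).map e.hom))
  rw [cancel_mono] at h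
  apply pullback.hom_ext
  · have h1 := congrArg (fun c => c.left ≫ pullback.fst H.hom jV) h
    simpa [a, b] using h1
  · exact hsnd

end Groth.Agent.MTBridge
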