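import Groth.Agent.MTBridge.ChartsAll
import Groth.Agent.MTBridge.Hom
import Groth.Agent.MTBridge.NilConj
import Groth.Agent.MTBridge.MonoNhd
import Groth.Agent.MultT.Rigid
import Mathlib

/-!
# Monomorphisms from groups of multiplicative type into affine groups are closed immersions
-/

set_option autoImplicit false
set_option linter.style.haveILetI false
set_option backward.isDefEq.respectTransparency false
set_option maxHeartbeats 800000
set_option synthInstance.maxHeartbeats 400000

universe u

open CategoryTheory Limits MonoidalCategory CartesianMonoidalCategory AlgebraicGeometry Opposite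
open scoped CategoryTheory.Obj

noncomputable section

namespace Groth.Agent.MTBridge

/-- The Hopf algebra form. -/
theorem isClosedImmersion_spec_of_mono {R A B : Type u} [CommRing R] [CommRing A] [HopfAlgebra R A] [CommRing B]
    [HopfAlgebra R B] (hA : SGA3b.IsMultType R A) (v : (specGrp R A).X ⟶ (specGrp R B).X) [IsMonHom v] [Mono v] :
    IsClosedImmersion v.left := by
  obtain ⟨φ, hφ⟩ := exists_bialgHom v
  have hs : Function.Surjective φ := by
    refine Groth.Agent.MultT.surjective_of_mono hA φ fun T _ _ x y hxy => ?_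
    let P : ∀ z : A →ₐ[R] T, Over.mk (Spec.map (CommRingCat.ofHom (algebraMap R T))) ⟶ (specGrp R A).X := fun z =>
      Over.homMk (Spec.map (CommRingCat.ofHom z.toRingHom)) (by
        show Spec.map _ ≫ Spec.map _ = Spec.map _
        rw [← Spec.map_comp, ← CommRingCat.ofHom_comp]
        exact congrArg (fun k => Spec.map (CommRingCat.ofHom k)) (AlgHom.comp_algebraMap z))
    have h : P x = P y := by
      refine (cancel_mono v).1 (Over.OverMorphism.ext ?_)
      show Spec.map _ ≫ v.left = Spec.map _ ≫ v.left
      rw [hφ, ← Spec.map_comp, ← Spec.map_comp, ← CommRingCat.ofHom_comp, ← CommRingCat.ofHom_comp]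
      exact congrArg (fun k : B →ₐ[R] T => Spec.map (CommRingCat.ofHom k.toRingHom)) hxy
    exact AlgHom.coe_ringHom_injective (congrArg CommRingCat.Hom.hom (Spec.map_injective (congrArg (fun k => k.left) h)))
  rw [hφ]
  exact IsClosedImmersion.spec_of_surjective _ hs

/-- The case of an affine base. -/
theorem isClosedImmersion_of_mono_spec {R : Type u} [CommRing R] {H G : Over (Spec (CommRingCat.of R))} [GrpObj H]
    [GrpObj G] (hH : TwC.Locally (Spec (CommRingCat.of R)) TwC.Topology.fpqc (fun S' f => ∃ (M : Type) (_ : AddCommGroup M), Nonempty (Grp.mk (Red.bc f H) ≅ Grp.mk (Red.DS S' M))))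
    (hGa : IsAffineHom G.hom) (v : H ⟶ G) [IsMonHom v] [Mono v] : IsClosedImmersion v.left := by
  haveI : IsAffine G.left := isAffine_of_isAffineHom G.hom
  obtain ⟨A, _, _, hA, ⟨eH⟩⟩ := exists_hopf_of_locally H hH
  obtain ⟨B, _, eG, hG⟩ := Groth.Agent.FinHopf.exists_hopf G
  haveI := hG
  let v' : (specGrp R A).X ⟶ (specGrp R B).X := eH.inv.hom.hom ≫ v ≫ eG.inv
  haveI : IsMonHom v' := inferInstance
  haveI : IsIso eH.inv.hom.hom := inferInstanceAs (IsIso ((Grp.forget _).map eH.inv))
  haveI : Mono v' := inferInstance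
  haveI := isClosedImmersion_spec_of_mono hA v'
  have h : v.left = eH.hom.hom.hom.left ≫ v'.left ≫ eG.hom.left := by
    have : v = eH.hom.hom.hom ≫ v' ≫ eG.hom := by
      simp only [v', Category.assoc, eG.inv_hom_id, Category.comp_id]
      rw [← Category.assoc, show eH.hom.hom.hom ≫ eH.inv.hom.hom = 𝟙 H from
        congrArg (fun k => k.hom.hom) eH.hom_inv_id, Category.id_comp]
    exact congrArg (fun k => k.left) this
  haveI : IsIso eH.hom.hom.hom.left :=
    inferInstanceAs (IsIso ((Over.forget _).map ((Grp.forget _).map eH.hom)))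
  haveI : IsIso eG.hom.left := inferInstanceAs (IsIso ((Over.forget _).map eG.hom))
  rw [h]
  infer_instance

/-- A monomorphism from a group of multiplicative type into an affine group is a closed immersion. -/
theorem isClosedImmersion_of_mono {S : Scheme.{u}} {H G : Over S} [GrpObj H] [GrpObj G]
    (hH : TwC.Locally S TwC.Topology.fpqc (fun S' f => ∃ (M : Type) (_ : AddCommGroup M), Nonempty (Grp.mk (Red.bc f H) ≅ Grp.mk (Red.DS S' M))))
    (hGa : IsAffineHom G.hom) (v : H ⟶ G) [IsMonHom v] [Mono v] : IsClosedImmersion v.left := by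
  let 𝒰 := (Scheme.openCoverOfIsOpenCover S (fun V : S.affineOpens => V.1) (iSup_affineOpens_eq_top S)).pullback₁ G.hom
  refine IsZariskiLocalAtTarget.of_openCover 𝒰 fun V => ?_
  show IsClosedImmersion (pullback.snd v.left (pullback.fst G.hom V.1.ι))
  haveI : IsAffine (V.1 : Scheme.{u}) := V.2
  have hbc : IsClosedImmersion ((Over.pullback V.2.fromSpec).map v).left :=
    isClosedImmersion_of_mono_spec (locally_bc H V.2.fromSpec hH) (MorphismProperty.pullback_snd _ _ hGa) _
  have sq : IsPullback (pullback.fst H.hom V.2.fromSpec) ((Over.pullback V.2.fromSpec).map v).left v.left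
      (pullback.fst G.hom V.2.fromSpec) := by
    refine IsPullback.of_bot ?_ (map_left_fst V.2.fromSpec v).symm (IsPullback.of_hasPullback G.hom V.2.fromSpec)
    rw [Over.w v, map_left_snd V.2.fromSpec v]
    exact IsPullback.of_hasPullback H.hom V.2.fromSpec
  have h2 : IsClosedImmersion (pullback.snd v.left (pullback.fst G.hom V.2.fromSpec)) := by
    rw [← sq.isoPullback_inv_snd]
    infer_instance
  let c : pullback G.hom V.1.ι ⟶ pullback G.hom V.2.fromSpec :=
    pullback.map G.hom V.1.ι G.hom V.2.fromSpec (𝟙 _) V.2.isoSpec.hom (𝟙 _) (by simp)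
      ((Category.comp_id _).trans V.2.isoSpec_hom_fromSpec.symm)
  haveI : IsIso c := pullback.map_isIso ..
  have hc : c ≫ pullback.fst G.hom V.2.fromSpec = pullback.fst G.hom V.1.ι :=
    (pullback.lift_fst _ _ _).trans (Category.comp_id _)
  rw [← hc]
  let d : pullback v.left (c ≫ pullback.fst G.hom V.2.fromSpec) ≅
      pullback (pullback.snd v.left (pullback.fst G.hom V.2.fromSpec)) c :=
    (pullbackLeftPullbackSndIso v.left (pullback.fst G.hom V.2.fromSpec) c).symm
  have hd : pullback.snd v.left (c ≫ pullback.fst G.hom V.2.fromSpec) =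
      d.hom ≫ pullback.snd (pullback.snd v.left (pullback.fst G.hom V.2.fromSpec)) c :=
    (pullbackLeftPullbackSndIso_inv_snd_snd _ _ _).symm
  rw [hd]
  haveI : IsClosedImmersion (pullback.snd (pullback.snd v.left (pullback.fst G.hom V.2.fromSpec)) c) :=
    MorphismProperty.pullback_snd _ _ h2
  infer_instance

end Groth.Agent.MTBridge
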