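import Groth.Agent.ClosedRep.EssFreeLFP
import Groth.Agent.MTBridge.EssFree
import Groth.Agent.MTBridge.MonoClosed
import Groth.Agent.MTBridge.NilConj
import Groth.Agent.InfLift.SmoothLift
import Groth.Agent.LimDesc.FPCancel
import Mathlib

/-!
# Transporters of homomorphisms out of groups of multiplicative type
-/

set_option autoImplicit false
set_option linter.style.haveILetI false
set_option backward.isDefEq.respectTransparency false
set_option maxHeartbeats 800000
set_option synthInstance.maxHeartbeats 400000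

universe u

open CategoryTheory Limits MonoidalCategory CartesianMonoidalCategory AlgebraicGeometry Opposite
open scoped CategoryTheory.Obj MonObj

noncomputable section

namespace Groth.Agent.MTBridge

variable {S : Scheme.{u}}

/-- The conjugate of `u` by the universal point. -/
def conjMap {H G : Over S} [GrpObj G] (u : H ⟶ G) : H ⊗ G ⟶ G :=
  snd H G * (fst H G ≫ u) * (snd H G)⁻¹

theorem lift_conjMap {H G X : Over S} [GrpObj G] (u : H ⟶ G) (a : X ⟶ H) (x : X ⟶ G) :
    lift a x ≫ conjMap u = x * (a ≫ u) * x⁻¹ := by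
  simp [conjMap, MonObj.comp_mul, GrpObj.comp_inv]

/-- The diagonal of a separated group is a closed immersion. -/
theorem isClosedImmersion_lift_id (G : Over S) [IsSeparated G.hom] :
    IsClosedImmersion (lift (𝟙 G) (𝟙 G)).left := by
  have h : (lift (𝟙 G) (𝟙 G)).left ≫ pullback.fst G.hom G.hom = 𝟙 _ :=
    congrArg (fun k => k.left) (lift_fst (𝟙 G) (𝟙 G))
  haveI : IsClosedImmersion ((lift (𝟙 G) (𝟙 G)).left ≫ pullback.fst G.hom G.hom) := by rw [h]; infer_instance
  exact IsClosedImmersion.of_comp (lift (𝟙 G) (𝟙 G)).left (pullback.fst G.hom G.hom)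

/-- The diagonal of a group locally of finite type is of finite presentation. -/
theorem lfp_lift_id (G : Over S) [LocallyOfFiniteType G.hom] :
    LocallyOfFinitePresentation (lift (𝟙 G) (𝟙 G)).left := by
  have h : (lift (𝟙 G) (𝟙 G)).left ≫ pullback.fst G.hom G.hom = 𝟙 _ :=
    congrArg (fun k => k.left) (lift_fst (𝟙 G) (𝟙 G))
  haveI : LocallyOfFinitePresentation ((lift (𝟙 G) (𝟙 G)).left ≫ pullback.fst G.hom G.hom) := by
    rw [h]; infer_instance
  exact Groth.Agent.LimDesc.lfp_of_comp (lift (𝟙 G) (𝟙 G)).left (pullback.fst G.hom G.hom)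

/-- The transporter of one homomorphism to another is a closed subscheme of finite presentation. -/
theorem exists_closed_transporter_hom {H G : Over S} [GrpObj G] [IsAffineHom H.hom]
    (hH : SGA3x.IsEssentiallyFree H.hom) [IsSeparated G.hom] [LocallyOfFiniteType G.hom] (u₁ u₂ : H ⟶ G) :
    ∃ (T : Over S) (j : T ⟶ G), IsClosedImmersion j.left ∧ LocallyOfFinitePresentation j.left ∧
      ∀ (X : Over S) (g : X ⟶ G), (∃ t : X ⟶ T, t ≫ j = g) ↔
        ∀ (X' : Over S) (x : X' ⟶ X) (h : X' ⟶ H), (x ≫ g) * (h ≫ u₁) * (x ≫ g)⁻¹ = h ≫ u₂ := by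
  haveI := isClosedImmersion_lift_id G
  haveI := lfp_lift_id G
  obtain ⟨W, j, hj, hjf, hW⟩ := ClosedRep.exists_closed_preimage_essFree_lfp
    (lift (conjMap u₁) (fst H G ≫ u₂)) (lift (𝟙 G) (𝟙 G)) hH
  refine ⟨W, j, hj, hjf, fun X g => (hW X g).trans ?_⟩
  refine forall₃_congr fun X' x h => ?_
  rw [comp_lift, lift_conjMap, lift_fst_assoc]
  constructor
  · rintro ⟨b, hb⟩
    rw [comp_lift, Category.comp_id] at hb
    have h1 := congrArg (fun k => k ≫ fst G G) hb
    have h2 := congrArg (fun k => k ≫ snd G G) hb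
    simp only [lift_fst, lift_snd] at h1 h2
    exact h1.trans h2.symm
  · intro h1
    exact ⟨h ≫ u₂, by rw [comp_lift, Category.comp_id, h1]⟩

/-- The transporter of a homomorphism into a closed subscheme is a closed subscheme of finite presentation. -/
theorem exists_closed_transporter_incl {H Y G : Over S} [GrpObj G] [IsAffineHom H.hom]
    (hH : SGA3x.IsEssentiallyFree H.hom) (u : H ⟶ G) (i : Y ⟶ G) [IsClosedImmersion i.left]
    [LocallyOfFinitePresentation i.left] :
    ∃ (T : Over S) (j : T ⟶ G), IsClosedImmersion j.left ∧ LocallyOfFinitePresentation j.left ∧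
      ∀ (X : Over S) (g : X ⟶ G), (∃ t : X ⟶ T, t ≫ j = g) ↔
        ∀ (X' : Over S) (x : X' ⟶ X) (h : X' ⟶ H), ∃ h' : X' ⟶ Y, (x ≫ g) * (h ≫ u) * (x ≫ g)⁻¹ = h' ≫ i := by
  obtain ⟨W, j, hj, hjf, hW⟩ := ClosedRep.exists_closed_preimage_essFree_lfp (conjMap u) i hH
  refine ⟨W, j, hj, hjf, fun X g => (hW X g).trans ?_⟩
  refine forall₃_congr fun X' x h => ?_
  rw [lift_conjMap]

/-- A closed subscheme whose points lift along square-zero extensions is smooth. -/
theorem smooth_of_lift {T G : Over S} (j : T ⟶ G) [IsClosedImmersion j.left] [LocallyOfFinitePresentation j.left]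
    [LocallyOfFinitePresentation G.hom]
    (hl : ∀ (A : Type u) [CommRing A] (I : Ideal A), I ^ 2 = ⊥ → ∀ (b : Spec (CommRingCat.of A) ⟶ S)
      (g₀ : (Over.map b).obj (Over.mk (qJ I)) ⟶ G), (∃ t, t ≫ j = g₀) →
        ∃ g : (Over.map b).obj (𝟙_ (Over (Spec (CommRingCat.of A)))) ⟶ G,
          (Over.map b).map (toUnit _) ≫ g = g₀ ∧ ∃ t, t ≫ j = g) :
    Smooth T.hom := by
  haveI : Mono j := (Over.forget S).mono_of_mono_map (inferInstanceAs (Mono j.left))
  haveI : LocallyOfFinitePresentation T.hom := by rw [← Over.w j]; infer_instance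
  refine Groth.Agent.InfLift.smooth_of_isFormallySmoothHom T.hom fun A _ I hI a b hab => ?_
  let z₀ : (Over.map b).obj (Over.mk (qJ I)) ⟶ T := Over.homMk a hab.symm
  obtain ⟨g, hg, z, hz⟩ := hl A I hI b (z₀ ≫ j) ⟨z₀, rfl⟩
  rw [← hz, ← Category.assoc, cancel_mono] at hg
  refine ⟨z.left, ?_, ?_⟩
  · have h := congrArg (fun k => k.left) hg
    exact h
  · exact (Over.w z).trans (Category.id_comp b)

/-- Transporters of homomorphisms lift along square-zero extensions. -/
theorem exists_transporter_lift {H G : Over S} [GrpObj H] [GrpObj G]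
    (hH : TwC.Locally S TwC.Topology.fpqc (fun S' f => ∃ (M : Type) (_ : AddCommGroup M), Nonempty (Grp.mk (Red.bc f H) ≅ Grp.mk (Red.DS S' M))))
    (hG : Smooth G.hom) (u₁ u₂ : H ⟶ G) [IsMonHom u₁] [IsMonHom u₂]
    (A : Type u) [CommRing A] (I : Ideal A) (hI : I ^ 2 = ⊥) (b : Spec (CommRingCat.of A) ⟶ S)
    (g₀ : (Over.map b).obj (Over.mk (qJ I)) ⟶ G)
    (h0 : ∀ (X' : Over S) (x : X' ⟶ (Over.map b).obj (Over.mk (qJ I))) (h : X' ⟶ H),
      (x ≫ g₀) * (h ≫ u₁) * (x ≫ g₀)⁻¹ = h ≫ u₂) :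
    ∃ g : (Over.map b).obj (𝟙_ (Over (Spec (CommRingCat.of A)))) ⟶ G,
      (Over.map b).map (toUnit _) ≫ g = g₀ ∧
      ∀ (X' : Over S) (x : X' ⟶ (Over.map b).obj (𝟙_ (Over (Spec (CommRingCat.of A))))) (h : X' ⟶ H),
        (x ≫ g) * (h ≫ u₁) * (x ≫ g)⁻¹ = h ≫ u₂ := by
  obtain ⟨k, hk, hconj⟩ := exists_conj_nil (J := I) ⟨2, hI⟩ (locally_bc H b hH)
    (MorphismProperty.pullback_snd _ _ hG) ((Over.pullback b).map u₁) ((Over.pullback b).map u₂)
    (toBC b g₀) (fun X p h => by
      apply ((Over.mapPullbackAdj b).homEquiv X G).symm.injective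
      show fromBC b _ = fromBC b _
      rw [fromBC_comp_map, fromBC_mul, fromBC_mul, fromBC_inv, fromBC_comp_map, fromBC_comp, fromBC_toBC]
      exact (h0 _ ((Over.map b).map p) (fromBC b h)).symm)
  refine ⟨fromBC b k, ?_, fun X' x h => ?_⟩
  · rw [← fromBC_comp, hk, fromBC_toBC]
  · let ε : (Over.map b).obj (Over.mk x.left) ≅ X' := Over.isoMk (Iso.refl _) (by simpa using (Over.w x).symm)
    have h1 := congrArg (fromBC b) (hconj (Over.mk x.left) (toBC b (ε.hom ≫ h)))
    rw [fromBC_comp_map, fromBC_toBC, fromBC_mul, fromBC_mul, fromBC_inv, fromBC_comp_map, fromBC_toBC,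
      fromBC_comp] at h1
    have h2 : (Over.map b).map (toUnit (Over.mk x.left)) = ε.hom ≫ x := by
      apply Over.OverMorphism.ext
      simp [ε]
    rw [h2] at h1
    refine (cancel_epi ε.hom).1 ?_
    simp only [MonObj.comp_mul, GrpObj.comp_inv, Category.assoc] at h1 ⊢
    exact h1.symm

end Groth.Agent.MTBridge
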