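import Groth.Agent.GrpField.SchImg
import Groth.Agent.MTBridge.Transporter
import Mathlib

/-!
# Subgroups defined by their points
-/

set_option autoImplicit false
set_option linter.style.haveILetI false
set_option backward.isDefEq.respectTransparency false
set_option maxHeartbeats 800000
set_option synthInstance.maxHeartbeats 400000

universe u

open CategoryTheory Limits MonoidalCategory CartesianMonoidalCategory AlgebraicGeometry
open scoped CategoryTheory.Obj MonObj

noncomputable section

namespace Groth.Agent.MTBridge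

/-- A monomorphism whose points form subgroups is a subgroup. -/
theorem exists_grpObj_of_div {S : Scheme.{u}} {G K : Over S} [GrpObj G]
    (i : K ⟶ G) [Mono i]
    (he' : ∃ e : 𝟙_ (Over S) ⟶ K, e ≫ i = η[G])
    (hdiv : ∀ (T : Over S) (k₁ k₂ : T ⟶ K),
      ∃ k₃ : T ⟶ K, k₃ ≫ i = (k₁ ≫ i)⁻¹ * (k₂ ≫ i)) :
    ∃ _ : GrpObj K, IsMonHom i := by
  obtain ⟨e, he⟩ := he'
  obtain ⟨n, hn⟩ := hdiv K (𝟙 K) (toUnit K ≫ e)
  obtain ⟨m, hm⟩ := hdiv _ (fst K K ≫ n) (snd K K)
  simp only [Category.id_comp, Category.assoc, he] at hn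
  rw [show toUnit K ≫ η[G] = 1 from rfl, _root_.mul_one] at hn
  simp only [Category.assoc, hn, GrpObj.comp_inv, _root_.inv_inv] at hm
  let hM : MonObj K :=
    { one := e
      mul := m
      one_mul := by
        rw [← cancel_mono i, Category.assoc, hm, MonObj.comp_mul, whiskerRight_fst_assoc,
          whiskerRight_snd_assoc, he, show fst _ K ≫ η[G] = toUnit _ ≫ η[G] from
            congrArg (· ≫ η[G]) (toUnit_unique _ _), ← Hom.one_def, _root_.one_mul, leftUnitor_hom]
      mul_one := by
        rw [← cancel_mono i, Category.assoc, hm, MonObj.comp_mul, whiskerLeft_fst_assoc,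
          whiskerLeft_snd_assoc, he, show snd K _ ≫ η[G] = toUnit _ ≫ η[G] from
            congrArg (· ≫ η[G]) (toUnit_unique _ _), ← Hom.one_def, _root_.mul_one, rightUnitor_hom]
      mul_assoc := by
        simp only [← cancel_mono i, Category.assoc, hm, MonObj.comp_mul, whiskerRight_fst_assoc,
          whiskerRight_snd_assoc, whiskerLeft_fst_assoc, whiskerLeft_snd_assoc,
          associator_hom_fst_assoc, associator_hom_snd_fst_assoc, associator_hom_snd_snd_assoc,
          _root_.mul_assoc] }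
  let hG : GrpObj K :=
    { hM with
      inv := n
      left_inv := by
        rw [← cancel_mono i, Category.assoc, show μ[K] = m from rfl, hm, MonObj.comp_mul,
          lift_fst_assoc, lift_snd_assoc, hn, Category.id_comp, inv_mul_cancel, Category.assoc,
          show η[K] = e from rfl, he, Hom.one_def]
      right_inv := by
        rw [← cancel_mono i, Category.assoc, show μ[K] = m from rfl, hm, MonObj.comp_mul,
          lift_fst_assoc, lift_snd_assoc, hn, Category.id_comp, mul_inv_cancel, Category.assoc,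
          show η[K] = e from rfl, he, Hom.one_def] }
  have hi : IsMonHom i :=
    { one_hom := he
      mul_hom := by
        rw [show μ[K] = m from rfl, hm, Hom.mul_def]
        congr 1 }
  exact ⟨hG, hi⟩


/-- The centralizer of a homomorphism out of a group of multiplicative type. -/
theorem exists_centralizer {S : Scheme.{u}} (H G : Over S) [GrpObj H] [GrpObj G]
    (hH : TwC.Locally S TwC.Topology.fpqc (fun S' f => ∃ (M : Type) (_ : AddCommGroup M), Nonempty (Grp.mk (Red.bc f H) ≅ Grp.mk (Red.DS S' M))))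
    (hG : Smooth G.hom) (hGa : IsAffineHom G.hom) (u : H ⟶ G) [IsMonHom u] :
    ∃ (Z : Over S) (_ : GrpObj Z) (j : Z ⟶ G), Red.IsCentralizerOf u j ∧ IsClosedImmersion j.left ∧ Smooth Z.hom := by
  haveI := isAffineHom_of_locally H hH
  obtain ⟨Z, j, hj, hjf, hZ⟩ := exists_closed_transporter_hom (isEssentiallyFree H hH) u u
  haveI := hj
  haveI : Mono j := (Over.forget S).mono_of_mono_map (inferInstanceAs (Mono j.left))
  have hZ' : ∀ (X : Over S) (g : X ⟶ G), (∃ z : X ⟶ Z, z ≫ j = g) ↔
      ∀ (X' : Over S) (x : X' ⟶ X) (h : X' ⟶ H), (x ≫ g) * (h ≫ u) = (h ≫ u) * (x ≫ g) := fun X g =>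
    (hZ X g).trans (forall₃_congr fun X' x h => mul_inv_eq_iff_eq_mul)
  obtain ⟨hZg, hjm⟩ := exists_grpObj_of_div j ((hZ' _ _).2 fun X' x h => by
      rw [show x ≫ η[G] = (1 : X' ⟶ G) by rw [Hom.one_def, toUnit_unique (toUnit X') x]]
      rw [_root_.one_mul, _root_.mul_one]) (fun T k₁ k₂ => (hZ' _ _).2 fun X' x h => by
    have h1 := (hZ' _ (k₁ ≫ j)).1 ⟨k₁, rfl⟩ X' x h
    have h2 := (hZ' _ (k₂ ≫ j)).1 ⟨k₂, rfl⟩ X' x h
    rw [MonObj.comp_mul, GrpObj.comp_inv]
    exact ((Commute.inv_left h1).mul_left h2))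
  refine ⟨Z, hZg, j, ⟨hjm, inferInstance, hZ'⟩, hj, smooth_of_lift j fun A _ I hI b g₀ h0 => ?_⟩
  obtain ⟨g, hg, hg'⟩ := exists_transporter_lift hH hG u u A I hI b g₀ ((hZ _ _).1 h0)
  exact ⟨g, hg, (hZ _ _).2 hg'⟩

end Groth.Agent.MTBridge
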