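import Groth.Agent.MTBridge.ClopenMain
import Mathlib

/-!
# A monomorphism of tori of equal ranks is an isomorphism
-/

set_option autoImplicit false
set_option linter.style.haveILetI false
set_option backward.isDefEq.respectTransparency false
set_option maxHeartbeats 1000000
set_option synthInstance.maxHeartbeats 400000

universe u

open CategoryTheory Limits MonoidalCategory CartesianMonoidalCategory AlgebraicGeometry TensorProduct Opposite
open TopologicalSpace WithConv
open scoped CategoryTheory.Obj

noncomputable section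

namespace Groth.Agent.MTBridge

theorem isMultTypeFT_of_isTorus {S : Scheme.{u}} (T : Over S) [GrpObj T] (hT : Red.IsTorus T) :
    SGA3x.IsMultTypeFT T := by
  obtain ⟨S', f, hf, hs, hl, hloc⟩ := hT
  refine ⟨S', f, hf, hs, hl, fun s => ?_⟩
  obtain ⟨U, hU, r, hr⟩ := hloc s
  exact ⟨U, hU, Fin r → ℤ, inferInstance, inferInstance, hr⟩

/-- A surjective homomorphism between group algebras of `ℤ^r` in the mono sense is an isomorphism. -/
theorem bijective_of_mono_field {K : Type u} [Field K] {r : ℕ}
    (g : MonoidAlgebra K (ULift.{u} (Multiplicative (Fin r → ℤ))) →ₐc[K]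
      MonoidAlgebra K (ULift.{u} (Multiplicative (Fin r → ℤ))))
    (h : Mono (Spec.map (CommRingCat.ofHom
      (g : MonoidAlgebra K (ULift.{u} (Multiplicative (Fin r → ℤ))) →ₐ[K] MonoidAlgebra K (ULift.{u} (Multiplicative (Fin r → ℤ)))).toRingHom))) : Function.Bijective g := by
  classical
  haveI : Group.FG (ULift.{u} (Multiplicative (Fin r → ℤ))) :=
    Group.fg_of_surjective (f := (MulEquiv.ulift (α := Multiplicative (Fin r → ℤ))).symm.toMonoidHom)
      (MulEquiv.surjective _)
  obtain ⟨ι, _, e, φ, he, hsum, heq⟩ := exists_partition g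
  obtain ⟨i, hi⟩ : ∃ i, e i ≠ 0 := by
    by_contra hc
    push Not at hc
    exact one_ne_zero (hsum.symm.trans (Finset.sum_eq_zero fun i _ => hc i))
  have hi1 : e i = 1 := mul_left_cancel₀ hi ((he i).trans (mul_one _).symm)
  have hg : ∀ x, g x = MonoidAlgebra.mapDomainAlgHom K K (φ i) x := fun x => by simpa [hi1] using heq i x
  have hgr : (g : MonoidAlgebra K (ULift.{u} (Multiplicative (Fin r → ℤ))) →ₐ[K] MonoidAlgebra K (ULift.{u} (Multiplicative (Fin r → ℤ)))).toRingHom =
      (MonoidAlgebra.mapDomainAlgHom K K (φ i)).toRingHom := RingHom.ext hg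
  rw [hgr] at h
  have hsurj : Function.Surjective (φ i) := surjective_of_mapDomain_epi K (φ i) fun W _ g₁ g₂ h12 => by
    have h1 := (cancel_mono (Spec.map (CommRingCat.ofHom (MonoidAlgebra.mapDomainAlgHom K K (φ i)).toRingHom))).1
      (show Spec.map (CommRingCat.ofHom g₁) ≫ Spec.map (CommRingCat.ofHom (MonoidAlgebra.mapDomainAlgHom K K (φ i)).toRingHom) =
        Spec.map (CommRingCat.ofHom g₂) ≫ Spec.map (CommRingCat.ofHom (MonoidAlgebra.mapDomainAlgHom K K (φ i)).toRingHom) by
          rw [← Spec.map_comp, ← Spec.map_comp, ← CommRingCat.ofHom_comp, ← CommRingCat.ofHom_comp, h12])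
    exact congrArg CommRingCat.Hom.hom (Spec.map_injective h1)
  let ψ : (Fin r → ℤ) →+ (Fin r → ℤ) :=
    { toFun := fun x => Multiplicative.toAdd (φ i (ULift.up (Multiplicative.ofAdd x))).down
      map_zero' := by
        rw [show (ULift.up (Multiplicative.ofAdd (0 : Fin r → ℤ))) = (1 : ULift.{u} (Multiplicative (Fin r → ℤ))) from rfl,
          map_one]
        rfl
      map_add' := fun a b => by
        rw [show (ULift.up (Multiplicative.ofAdd (a + b))) =
          (ULift.up (Multiplicative.ofAdd a) : ULift.{u} (Multiplicative (Fin r → ℤ))) * ULift.up (Multiplicative.ofAdd b) from rfl,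
          map_mul]
        rfl }
  have hψ : Function.Surjective ψ := fun y => by
    obtain ⟨⟨x⟩, hx⟩ := hsurj (ULift.up (Multiplicative.ofAdd y))
    exact ⟨Multiplicative.toAdd x, congrArg (fun z => Multiplicative.toAdd z.down) hx⟩
  have hψi : Function.Injective ψ :=
    OrzechProperty.injective_of_surjective_endomorphism (R := ℤ) ψ.toIntLinearMap hψ
  have hinj : Function.Injective (φ i) := by
    rintro ⟨a⟩ ⟨b⟩ hab
    have := hψi (a₁ := Multiplicative.toAdd a) (a₂ := Multiplicative.toAdd b)
      (congrArg (fun z : ULift.{u} (Multiplicative (Fin r → ℤ)) => Multiplicative.toAdd z.down) hab)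
    exact congrArg ULift.up (Multiplicative.toAdd.injective this)
  constructor
  · intro a b hab
    rw [hg, hg] at hab
    exact (mapDomain_faithfullyFlat K (φ i) hinj).injective hab
  · intro y
    obtain ⟨x, hx⟩ := mapDomain_surjective K (φ i) hsurj y
    exact ⟨x, (hg x).trans hx⟩

/-- Split tori of the same rank over a field: a mono homomorphism is an isomorphism. -/
theorem isIso_of_mono_split {K : Type u} [Field K] {r : ℕ} {T T' : Over (Spec (CommRingCat.of K))} [GrpObj T]
    [GrpObj T'] (h : Red.IsSplitTorusWith (Fin r → ℤ) T) (h' : Red.IsSplitTorusWith (Fin r → ℤ) T') (w : T ⟶ T')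
    [IsMonHom w] [Mono w.left] : IsIso w.left := by
  obtain ⟨e₀⟩ := nonempty_DS_iso K (Fin r → ℤ)
  obtain ⟨e₁⟩ := nonempty_specGrp_iso (MonoidAlgebra.domCongrBialgEquiv K K
    (MulEquiv.ulift.{0, u} (α := Multiplicative (Fin r → ℤ))))
  let i : Grp.mk T ≅ specGrp K (MonoidAlgebra K (ULift.{u} (Multiplicative (Fin r → ℤ)))) :=
    Classical.choice h ≪≫ e₀ ≪≫ e₁
  let i' : Grp.mk T' ≅ specGrp K (MonoidAlgebra K (ULift.{u} (Multiplicative (Fin r → ℤ)))) :=
    Classical.choice h' ≪≫ e₀ ≪≫ e₁
  haveI hi : IsIso i.inv.hom.hom.left :=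
    inferInstanceAs (IsIso ((Over.forget _).map ((Grp.forget _).map i.inv)))
  haveI hi' : IsIso i'.hom.hom.hom.left :=
    inferInstanceAs (IsIso ((Over.forget _).map ((Grp.forget _).map i'.hom)))
  obtain ⟨g, hg⟩ := exists_bialgHom (i.inv.hom.hom ≫ w ≫ i'.hom.hom.hom)
  have hcomp : Spec.map (CommRingCat.ofHom
      (g : MonoidAlgebra K (ULift.{u} (Multiplicative (Fin r → ℤ))) →ₐ[K] MonoidAlgebra K (ULift.{u} (Multiplicative (Fin r → ℤ)))).toRingHom) =
      i.inv.hom.hom.left ≫ w.left ≫ i'.hom.hom.hom.left := hg.symm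
  have hb := bijective_of_mono_field g (by rw [hcomp]; infer_instance)
  have : IsIso (i.inv.hom.hom.left ≫ w.left ≫ i'.hom.hom.hom.left) := by
    rw [← hcomp, isIso_SpecMap_iff]
    exact hb
  haveI := IsIso.of_isIso_comp_left i.inv.hom.hom.left (w.left ≫ i'.hom.hom.hom.left)
  exact IsIso.of_isIso_comp_right w.left i'.hom.hom.hom.left

/-- A fibre map is an isomorphism if the geometric fibre map is. -/
theorem isIso_map_descend {S U V : Scheme.{u}} {T T' : Over S} (f : T ⟶ T') (g : U ⟶ S) (w : V ⟶ U)
    [Surjective w] [Flat w] [QuasiCompact w] (h : IsIso ((Over.pullback (w ≫ g)).map f).left) :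
    IsIso ((Over.pullback g).map f).left := by
  let f' := (Over.pullback g).map f
  have sA := (IsPullback.of_hasPullback (Red.bc g T).hom w).paste_horiz (IsPullback.of_hasPullback T.hom g)
  have sB := (IsPullback.of_hasPullback (Red.bc g T').hom w).paste_horiz (IsPullback.of_hasPullback T'.hom g)
  have h2 : IsIso ((Over.pullback w).map f').left :=
    (MorphismProperty.isomorphisms.iff _).1 ((map_left_iff (MorphismProperty.isomorphisms Scheme.{u}) sA sB f
      ((Over.pullback w).map f').left
      (by rw [← Category.assoc, map_left_fst]; erw [Category.assoc, map_left_fst]; exact (Category.assoc _ _ _).symm)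
      (map_left_snd _ _)).2 ((MorphismProperty.isomorphisms.iff _).2 h))
  have hsq := isPullback_of_squares (IsPullback.of_hasPullback (Red.bc g T).hom w)
    (IsPullback.of_hasPullback (Red.bc g T').hom w) f' _ (map_left_fst w f') (map_left_snd w f')
  exact (MorphismProperty.isomorphisms.iff _).1 (MorphismProperty.of_isPullback_of_descendsAlong
    (P := MorphismProperty.isomorphisms Scheme.{u}) (Q := @Surjective ⊓ @Flat ⊓ @QuasiCompact) hsq
    ⟨⟨MorphismProperty.pullback_fst _ _ ‹_›, MorphismProperty.pullback_fst _ _ ‹_›⟩,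
      MorphismProperty.pullback_fst _ _ ‹_›⟩ ((MorphismProperty.isomorphisms.iff _).2 h2))

/-- **S16611.** -/
theorem isIso_of_mono_tori {S : Scheme.{u}} {T T' : Over S} [GrpObj T] [GrpObj T'] (hT : Red.IsTorus T)
    (hT' : Red.IsTorus T') (f : T ⟶ T') [IsMonHom f] [Mono f]
    (hrk : ∀ s : ↥S, ∃ r : ℕ, Red.IsSplitTorusWith (Fin r → ℤ) (Red.geomFibre s T) ∧
      Red.IsSplitTorusWith (Fin r → ℤ) (Red.geomFibre s T')) : IsIso f := by
  obtain ⟨U, -, hU, hiso⟩ :=
    exists_clopen_iso (isMultTypeFT_of_isTorus T hT) (isMultTypeFT_of_isTorus T' hT') f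
  have hall : ∀ s : S, s ∈ U := by
    intro s
    rw [hU]
    let w := Spec.map (CommRingCat.ofHom (algebraMap (S.residueField s) (AlgebraicClosure (S.residueField s))))
    haveI : Surjective w := ⟨fun x => ⟨default, Subsingleton.elim _ _⟩⟩
    haveI : Flat w := by
      rw [Flat.SpecMap_iff]
      exact RingHom.flat_algebraMap_iff.2 inferInstance
    refine isIso_map_descend f (S.fromSpecResidueField s) w ?_
    obtain ⟨r, h, h'⟩ := hrk s
    haveI : Mono f.left := inferInstanceAs (Mono ((Over.forget S).map f))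
    haveI : Mono ((Over.pullback (Red.geomPt s)).map f).left :=
      inferInstanceAs (Mono ((Over.forget _).map ((Over.pullback (Red.geomPt s)).map f)))
    exact isIso_of_mono_split h h' ((Over.pullback (Red.geomPt s)).map f)
  haveI : IsIso U.ι := by
    rw [show U = ⊤ from Opens.ext (Set.eq_univ_of_forall hall)]
    exact (Scheme.topIso S).isIso_hom
  haveI := hiso
  have e := map_left_fst U.ι f
  haveI : IsIso (pullback.fst T.hom U.ι ≫ f.left) := by rw [← e]; infer_instance
  haveI : IsIso f.left := IsIso.of_isIso_comp_left (pullback.fst T.hom U.ι) f.left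
  haveI : IsIso ((Over.forget S).map f) := ‹IsIso f.left›
  exact isIso_of_reflects_iso f (Over.forget S)

end Groth.Agent.MTBridge
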