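import Groth.Agent.MTBridge.Rigid
import Groth.Agent.MTBridge.Clopen
import Mathlib

/-!
# The locus where a homomorphism out of a group of multiplicative type is trivial
-/

set_option autoImplicit false
set_option linter.style.haveILetI false
set_option backward.isDefEq.respectTransparency false
set_option maxHeartbeats 1000000
set_option synthInstance.maxHeartbeats 400000

universe u

open CategoryTheory Limits MonoidalCategory CartesianMonoidalCategory AlgebraicGeometry TensorProduct Opposite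
open TopologicalSpace WithConv
open scoped CategoryTheory.Obj MonObj

noncomputable section

namespace Groth.Agent.MTBridge

open Groth.Agent.MultT

/-- The coefficients in a piece cut out the vanishing of an ideal. -/
theorem exists_coeff_ideal {R A : Type u} [CommRing R] [CommRing A] [HopfAlgebra R A]
    (P : Piece (BialgHom.id R A)) (J : Ideal A) (hJ : J.FG) :
    ∃ K : Ideal P.T, K.FG ∧ ∀ (W : Type u) [CommRing W] [Algebra R W] (g : P.T →ₐ[R] W),
      (∀ z ∈ J, (1 : W) ⊗ₜ[R] z = 0) ↔ K ≤ RingHom.ker g := by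
  classical
  obtain ⟨G, hG⟩ := hJ
  let cs : Finset P.T := G.biUnion fun z => (P.eA ((1 : P.T) ⊗ₜ z)).coeff.support.image
    fun m => cfM P.T m (P.eA ((1 : P.T) ⊗ₜ z))
  refine ⟨Ideal.span (cs : Set P.T), ⟨cs, rfl⟩, fun W _ _ g => ?_⟩
  obtain ⟨e', he', -⟩ := exists_bialgEquiv_stage P.eA g
  have hz : ∀ z : A, e' ((1 : W) ⊗ₜ z) = MonoidAlgebra.mapAlgHom P.M g (P.eA ((1 : P.T) ⊗ₜ z)) := fun z => by
    rw [← he']
    congr 1
    simp [chStage]
  have hcf : ∀ (x : MonoidAlgebra P.T P.M) (m : P.M),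
      cfM W m (MonoidAlgebra.mapAlgHom P.M g x) = g (cfM P.T m x) := by
    intro x m
    induction x using MonoidAlgebra.induction_linear with
    | zero => simp
    | add a b ha hb => simp only [map_add, ha, hb]
    | single l r =>
      rw [show MonoidAlgebra.mapAlgHom P.M g (MonoidAlgebra.single l r) = MonoidAlgebra.single l (g r) by simp,
        cfM_single, cfM_single]
      split_ifs <;> simp
  constructor
  · intro h
    refine Ideal.span_le.2 fun c hc => ?_
    simp only [cs, Finset.coe_biUnion, Set.mem_iUnion, Finset.coe_image, Set.mem_image] at hc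
    obtain ⟨z, hz', m, -, rfl⟩ := hc
    show g _ = 0
    rw [← hcf, ← hz, h z (hG ▸ Ideal.subset_span hz'), map_zero, map_zero]
  · intro h z hzJ
    have key : J ≤ RingHom.ker (Algebra.TensorProduct.includeRight : A →ₐ[R] W ⊗[R] A) := by
      rw [← hG]
      refine Ideal.span_le.2 fun y hy => ?_
      show (1 : W) ⊗ₜ[R] y = 0
      refine EquivLike.injective e' ?_
      rw [map_zero, hz]
      refine cfM_ext fun m => ?_
      rw [hcf, map_zero]
      by_cases hm : m ∈ (P.eA ((1 : P.T) ⊗ₜ y)).coeff.support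
      · exact h (Ideal.subset_span (Finset.mem_coe.2 (Finset.mem_biUnion.2 ⟨y, hy, Finset.mem_image_of_mem _ hm⟩)))
      · have h0 : cfM P.T m (P.eA ((1 : P.T) ⊗ₜ y)) = 0 := by
          simpa [cfM] using hm
        rw [h0, map_zero]
    exact key hzJ

/-- **The algebraic triviality locus.** -/
theorem exists_trivial_locus {R A : Type u} [CommRing R] [CommRing A] [HopfAlgebra R A] (hA : SGA3b.IsMultType R A)
    [Algebra.FiniteType R A] (J : Ideal A) (hJ : J.FG)
    (hrig : ∀ (R' : Type u) [CommRing R'] [Algebra R R'] (I : Ideal R'), I * I = ⊥ →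
      (∀ z ∈ J, (Ideal.Quotient.mk I 1) ⊗ₜ[R] z = (0 : (R' ⧸ I) ⊗[R] A)) → ∀ z ∈ J, (1 : R') ⊗ₜ[R] z = 0) :
    IsClopen {p : PrimeSpectrum R | ∀ z ∈ J, (1 : p.asIdeal.ResidueField) ⊗ₜ[R] z = 0} ∧
    ((∀ p : PrimeSpectrum R, ∀ z ∈ J, (1 : p.asIdeal.ResidueField) ⊗ₜ[R] z = 0) → J = ⊥) := by
  classical
  obtain ⟨κι, _, P, hcov⟩ := exists_pieces (BialgHom.id R A) hA hA
  choose K hKfg hK using fun i => exists_coeff_ideal (P i) J hJ
  have hidem : ∀ i, IsIdempotentElem (K i) := by
    intro i
    refine le_antisymm Ideal.mul_le_left ?_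
    let R' := (P i).T ⧸ (K i * K i)
    let g : (P i).T →ₐ[R] R' := Ideal.Quotient.mkₐ R _
    let I : Ideal R' := (K i).map g
    have hI : I * I = ⊥ := by
      rw [← Ideal.map_mul, Ideal.map_eq_bot_iff_le_ker]
      exact (Ideal.Quotient.mkₐ_ker R (K i * K i)).ge
    have h0 : ∀ z ∈ J, (Ideal.Quotient.mk I 1) ⊗ₜ[R] z = (0 : (R' ⧸ I) ⊗[R] A) :=
      (hK i (R' ⧸ I) ((Ideal.Quotient.mkₐ R I).comp g)).2 fun x hx => by
        rw [RingHom.mem_ker]
        exact Ideal.Quotient.eq_zero_iff_mem.2 (Ideal.mem_map_of_mem _ hx)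
    have h1 := (hK i R' g).1 (hrig R' I hI h0)
    exact fun x hx => Ideal.Quotient.eq_zero_iff_mem.1 (h1 hx)
  choose e he hKe using fun i => (Ideal.isIdempotentElem_iff_of_fg (K i) (hKfg i)).1 (hidem i)
  -- the locus in a piece
  let L : Set (PrimeSpectrum R) := {p | ∀ z ∈ J, (1 : p.asIdeal.ResidueField) ⊗ₜ[R] z = 0}
  have hmem : ∀ i (q : PrimeSpectrum (P i).T), q.comap (algebraMap R (P i).T) ∈ L ↔ e i ∈ q.asIdeal := by
    intro i q
    haveI : q.asIdeal.LiesOver (q.comap (algebraMap R (P i).T)).asIdeal := ⟨rfl⟩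
    let a : (q.comap (algebraMap R (P i).T)).asIdeal.ResidueField →ₐ[R] q.asIdeal.ResidueField :=
      Ideal.ResidueField.mapₐ (q.comap (algebraMap R (P i).T)).asIdeal q.asIdeal (Algebra.ofId R (P i).T)
        (q.asIdeal.over_def _)
    have h1 := hK i q.asIdeal.ResidueField (IsScalarTower.toAlgHom R (P i).T q.asIdeal.ResidueField)
    rw [hKe i, Ideal.submodule_span_eq, Ideal.span_le, Set.singleton_subset_iff, SetLike.mem_coe, RingHom.mem_ker,
      IsScalarTower.coe_toAlgHom', Ideal.algebraMap_residueField_eq_zero] at h1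
    rw [← h1]
    have hca : ∀ z : A, chStage a A ((1 : _) ⊗ₜ[R] z) = (1 : q.asIdeal.ResidueField) ⊗ₜ[R] z := fun z =>
      congrArg (fun y => y ⊗ₜ[R] z) (map_one a)
    refine forall₂_congr fun z _ => ?_
    rw [← hca z]
    exact (map_eq_zero_iff _ (chStage_faithfullyFlat a A).injective).symm
  -- refined pieces
  let ev : κι × Bool → ∀ i : κι, (P i).T := fun k i => if k.2 then 1 - e i else e i
  let T' : κι × Bool → Type u := fun k => Localization.Away (ev k k.1)
  haveI hflat : ∀ k, Module.Flat R (T' k) := fun k => by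
    haveI := (P k.1).flat
    haveI : Module.Flat (P k.1).T (T' k) := IsLocalization.flat _ (Submonoid.powers (ev k k.1))
    exact Module.Flat.trans R (P k.1).T (T' k)
  choose eA eB hcompat using fun k : κι × Bool =>
    (P k.1).exists_stage (T' k) (IsScalarTower.toAlgHom R (P k.1).T (T' k))
  let P' : κι × Bool → Piece (BialgHom.id R A) := fun k =>
    { T := T' k
      flat := hflat k
      M := (P k.1).M
      N := (P k.1).N
      φ := (P k.1).φ
      eA := eA k
      eB := eB k
      compat := hcompat k }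
  have hcov' : ∀ p : PrimeSpectrum R, ∃ k q, PrimeSpectrum.comap (algebraMap R (P' k).T) q = p := by
    intro p
    obtain ⟨i, q, hq⟩ := hcov p
    obtain ⟨b, hb⟩ : ∃ b : Bool, ev (i, b) i ∉ q.asIdeal := by
      by_cases hei : e i ∈ q.asIdeal
      · exact ⟨true, fun h => q.isPrime.ne_top ((Ideal.eq_top_iff_one _).2 (by
          simpa [ev] using q.asIdeal.add_mem h hei))⟩
      · exact ⟨false, by simpa [ev] using hei⟩
    obtain ⟨q', hq'⟩ : q ∈ Set.range (PrimeSpectrum.comap (algebraMap (P i).T (T' (i, b)))) := by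
      rw [PrimeSpectrum.localization_away_comap_range (T' (i, b)) (ev (i, b) i)]
      exact hb
    refine ⟨(i, b), q', ?_⟩
    show PrimeSpectrum.comap (algebraMap R (T' (i, b))) q' = p
    rw [IsScalarTower.algebraMap_eq R (P i).T (T' (i, b)), PrimeSpectrum.comap_comp_apply, hq', hq]
  refine ⟨isClopen_of_pieces (BialgHom.id R A) P' hcov' L (fun k => k.2 = true) fun k q => ?_, fun h => ?_⟩
  · show PrimeSpectrum.comap (algebraMap R (T' k)) q ∈ L ↔ _
    rw [IsScalarTower.algebraMap_eq R (P k.1).T (T' k), PrimeSpectrum.comap_comp_apply, hmem]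
    have hq' : ev k k.1 ∉ (PrimeSpectrum.comap (algebraMap (P k.1).T (T' k)) q).asIdeal := fun h =>
      q.isPrime.ne_top (Ideal.eq_top_of_isUnit_mem _ h (IsLocalization.Away.algebraMap_isUnit _))
    rcases k with ⟨i, b⟩
    cases b
    · simp [ev] at hq' ⊢
      exact hq'
    · simp only [ev, if_true] at hq' ⊢
      refine iff_of_true ?_ trivial
      have := (he i).eq
      have h2 : (1 - e i) * e i = 0 := by rw [sub_mul, one_mul, this, sub_self]
      exact ((PrimeSpectrum.comap _ q).isPrime.mem_or_mem (h2 ▸ Ideal.zero_mem _)).resolve_left hq'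
  · rw [eq_bot_iff]
    intro z hz
    rw [Ideal.mem_bot]
    by_contra hne
    obtain ⟨m, hm, hle⟩ := Ideal.exists_le_maximal (Submodule.colon (⊥ : Submodule R A) ({z} : Set A))
      (fun ht => hne (by
        have h1 : (1 : R) ∈ Submodule.colon (⊥ : Submodule R A) ({z} : Set A) := ht ▸ Submodule.mem_top
        simpa [Submodule.mem_colon_singleton] using h1))
    obtain ⟨i, q, hq⟩ := hcov ⟨m, hm.isPrime⟩
    haveI := (P i).flat
    have he0 : e i = 0 := by
      have h1 : IsUnit (1 - e i) := by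
        by_contra hn
        obtain ⟨M', hM', hmem'⟩ := exists_max_ideal_of_mem_nonunits hn
        have h2 := (hmem i ⟨M', hM'.isPrime⟩).1 (h _)
        exact hM'.ne_top ((Ideal.eq_top_iff_one _).2 (by simpa using M'.add_mem hmem' h2))
      have h3 : (1 - e i) * e i = 0 := by rw [sub_mul, one_mul, (he i).eq, sub_self]
      exact h1.mul_right_eq_zero.1 h3
    have hz0 : (1 : (P i).T) ⊗ₜ[R] z = 0 := (hK i (P i).T (AlgHom.id R _)).2 (by
      rw [hKe i, he0]; simp) z hz
    obtain ⟨r, hr, hr0⟩ := exists_smul_eq_zero_of_tmul hz0 q.asIdeal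
    apply hr
    rw [show q.asIdeal.comap (algebraMap R (P i).T) = m from congrArg PrimeSpectrum.asIdeal hq]
    exact hle (Submodule.mem_colon_singleton.2 ((Submodule.mem_bot R).2 hr0))

theorem map_one_bc {S T : Scheme.{u}} (g : T ⟶ S) (H G : Over S) [GrpObj H] [GrpObj G] :
    (Over.pullback g).map (1 : H ⟶ G) = 1 := Functor.map_one _

/-- Vanishing of a base change read on a model of the base change. -/
theorem map_eq_one_iff {S T : Scheme.{u}} {H G : Over S} [GrpObj H] [GrpObj G] (u : H ⟶ G) {g : T ⟶ S}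
    {X : Scheme.{u}} {q : X ⟶ H.left} {b : X ⟶ T} (h : IsPullback q b H.hom g) :
    (Over.pullback g).map u = 1 ↔ q ≫ u.left = q ≫ (1 : H ⟶ G).left := by
  rw [← map_one_bc g H G]
  have hq : q = h.isoPullback.hom ≫ pullback.fst H.hom g := h.isoPullback_hom_fst.symm
  refine ⟨fun h1 => ?_, fun h1 => ?_⟩
  · rw [hq, Category.assoc, Category.assoc, ← map_left_fst, ← map_left_fst, h1]
  · apply Over.OverMorphism.ext
    rw [← cancel_epi h.isoPullback.hom]
    apply pullback.hom_ext
    · rw [Category.assoc, Category.assoc, map_left_fst, map_left_fst, ← Category.assoc, ← Category.assoc,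
        h.isoPullback_hom_fst, h1]
    · rw [Category.assoc, Category.assoc, map_left_snd, map_left_snd]

/-- The fibre of a chart as a model of the fibre over the residue field of the image point. -/
theorem exists_isPullback_fibre {S : Scheme.{u}} {R : Type u} [CommRing R] (j : Spec (CommRingCat.of R) ⟶ S)
    [IsOpenImmersion j] {X : Over S} {C : Type u} [CommRing C] [Algebra R C]
    {q : Spec (CommRingCat.of C) ⟶ X.left} (h : IsPullback q (Spec.map (CommRingCat.ofHom (algebraMap R C))) X.hom j)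
    (p : PrimeSpectrum R) :
    ∃ w : Spec (CommRingCat.of p.asIdeal.ResidueField) ⟶ Spec (S.residueField (j p)),
      IsPullback (Spec.map (CommRingCat.ofHom (Algebra.TensorProduct.includeRight :
          C →ₐ[R] p.asIdeal.ResidueField ⊗[R] C).toRingHom) ≫ q)
        (Spec.map (CommRingCat.ofHom (algebraMap p.asIdeal.ResidueField (p.asIdeal.ResidueField ⊗[R] C))) ≫ w)
        X.hom (S.fromSpecResidueField (j p)) := by
  let W := p.asIdeal.ResidueField
  let p' : ↥(Spec (CommRingCat.of R)) := p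
  let w : Spec (CommRingCat.of W) ⟶ Spec (S.residueField (j p)) :=
    Spec.map (Scheme.Spec.residueFieldIso (CommRingCat.of R) p').hom ≫ Spec.map (j.residueFieldMap p')
  haveI : IsIso w := inferInstance
  have hw : w ≫ S.fromSpecResidueField (j p) = Spec.map (CommRingCat.ofHom (algebraMap R W)) ≫ j := by
    rw [Category.assoc, Scheme.Hom.SpecMap_residueFieldMap_fromSpecResidueField, ← Category.assoc]
    congr 1
    rw [← Scheme.Spec.map_residueFieldIso_inv_eq_fromSpecResidueField, ← Spec.map_comp_assoc,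
      Iso.inv_hom_id, Spec.map_id, Category.id_comp]
  refine ⟨w, (isPullback_bc j h W).of_iso (Iso.refl _) (Iso.refl _) (asIso w) (Iso.refl _) (by simp) (by simp; rfl)
    (by simp) ?_⟩
  simp [hw]

/-- The triviality locus on a chart. -/
theorem trivial_locus_chart {S : Scheme.{u}} (H G : Over S) [GrpObj H] [GrpObj G] (hH : SGA3x.IsMultTypeFT H)
    [IsSeparated G.hom] (u : H ⟶ G) [IsMonHom u] {R : Type u} [CommRing R] (jV : Spec (CommRingCat.of R) ⟶ S)
    [IsOpenImmersion jV] (hG : IsNoetherianRing R ∨ LocallyOfFiniteType G.hom) :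
    IsClopen (jV ⁻¹' {s : S | (Over.pullback (S.fromSpecResidueField s)).map u = 1}) ∧
      ((jV ⁻¹' {s : S | (Over.pullback (S.fromSpecResidueField s)).map u = 1} = Set.univ) →
        (Over.pullback jV).map u = 1) := by
  let L : Set S := {s | (Over.pullback (S.fromSpecResidueField s)).map u = 1}
  show IsClopen (jV ⁻¹' L) ∧ ((jV ⁻¹' L = Set.univ) → (Over.pullback jV).map u = 1)
  obtain ⟨A, _, _, hA, hAf, ⟨e⟩⟩ := exists_hopf (Red.bc jV H) (isMultTypeFT_bc H jV hH)
  haveI := hAf
  haveI : IsSeparated (Red.bc jV G).hom := by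
    show IsSeparated (pullback.snd G.hom jV)
    infer_instance
  let v : (specGrp R A).X ⟶ Red.bc jV G := e.inv.hom.hom ≫ (Over.pullback jV).map u
  haveI : IsMonHom v := inferInstanceAs (IsMonHom (e.inv.hom.hom ≫ (Over.pullback jV).map u))
  obtain ⟨J, -, hker, hfg⟩ := exists_ker_ideal v
  have hJ : J.FG := by
    rcases hG with hG | hG
    · haveI := hG
      haveI : IsNoetherianRing A := Algebra.FiniteType.isNoetherianRing R A
      exact IsNoetherian.noetherian J
    · haveI := hG
      refine hfg ?_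
      show LocallyOfFiniteType (pullback.snd G.hom jV)
      infer_instance
  obtain ⟨hcl, hall⟩ := exists_trivial_locus hA J hJ fun R' _ _ I hI => ker_of_sq_zero hA v J hker R' I hI
  let q : Spec (CommRingCat.of A) ⟶ H.left := e.inv.hom.hom.left ≫ pullback.fst H.hom jV
  have hq : IsPullback q (Spec.map (CommRingCat.ofHom (algebraMap R A))) H.hom jV := by
    let il : (specGrp R A).X.left ≅ pullback H.hom jV :=
      (Over.forget _).mapIso ((Grp.forget _).mapIso e).symm
    refine (IsPullback.of_hasPullback H.hom jV).of_iso il.symm (Iso.refl _) (Iso.refl _) (Iso.refl _) ?_ ?_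
      (by simp) (by simp)
    · have he : e.hom.hom.hom.left ≫ e.inv.hom.hom.left = 𝟙 _ :=
        congrArg (fun x => Over.Hom.left x) ((Grp.forget _).mapIso e).hom_inv_id
      simp [il, q, reassoc_of% he]
    · simp only [Iso.refl_hom, Category.comp_id, Iso.symm_hom]
      rw [Iso.eq_inv_comp]
      exact Over.w e.inv.hom.hom
  have hkey : ∀ (W : Type u) [CommRing W] [Algebra R W] (φ : WithConv (A →ₐ[R] W)),
      (pt φ).left ≫ q ≫ u.left = (pt φ).left ≫ q ≫ (1 : H ⟶ G).left ↔ J ≤ RingHom.ker φ.ofConv := by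
    intro W _ _ φ
    rw [← hker W φ]
    have h1 : pt φ ≫ e.inv.hom.hom ≫ (Over.pullback jV).map (1 : H ⟶ G) = 1 := by
      rw [map_one_bc, MonObj.comp_one, MonObj.comp_one]
    rw [← h1]
    constructor
    · intro h
      apply Over.OverMorphism.ext
      apply pullback.hom_ext
      · simp only [v, Over.comp_left, Category.assoc, map_left_fst]
        simpa [q] using h
      · simp only [v, Over.comp_left, Category.assoc, map_left_snd]
    · intro h
      have h2 := congrArg (fun x => x.left ≫ pullback.fst G.hom jV) h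
      simp only [v, Over.comp_left, Category.assoc, map_left_fst] at h2
      simpa [q] using h2
  have hfib : ∀ p : PrimeSpectrum R, jV p ∈ L ↔
      ∀ z ∈ J, (1 : p.asIdeal.ResidueField) ⊗ₜ[R] z = 0 := by
    intro p
    show (Over.pullback (S.fromSpecResidueField (jV p))).map u = 1 ↔ _
    obtain ⟨w, hp⟩ := exists_isPullback_fibre jV hq p
    refine (map_eq_one_iff u hp).trans ?_
    rw [Category.assoc, Category.assoc]
    have h1 := hkey (p.asIdeal.ResidueField ⊗[R] A)
      (toConv (Algebra.TensorProduct.includeRight : A →ₐ[R] p.asIdeal.ResidueField ⊗[R] A))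
    rw [pt_left] at h1
    simp only [ofConv_toConv] at h1
    refine h1.trans ?_
    exact ⟨fun h z hz => h hz, fun h z hz => h z hz⟩
  have hset : jV ⁻¹' L = {p : PrimeSpectrum R |
      ∀ z ∈ J, (1 : p.asIdeal.ResidueField) ⊗ₜ[R] z = 0} := Set.ext hfib
  refine ⟨hset ▸ hcl, fun huniv => ?_⟩
  have hJ0 := hall fun p => (hfib p).1 (huniv.ge (Set.mem_univ p))
  rw [map_eq_one_iff u hq]
  have h := (hkey A (toConv (AlgHom.id _ A))).2 (hJ0 ▸ bot_le)
  have hid : (pt (toConv (AlgHom.id R A))).left = 𝟙 _ := by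
    rw [pt_left]
    show Spec.map (CommRingCat.ofHom (RingHom.id A)) = _
    rw [CommRingCat.ofHom_id, Spec.map_id]
    rfl
  rwa [hid, Category.id_comp, Category.id_comp] at h

/-- **S5286.** -/
theorem exists_clopen_trivial {S : Scheme.{u}} (H G : Over S) [GrpObj H] [GrpObj G] (hH : SGA3x.IsMultTypeFT H)
    [IsSeparated G.hom] (hG : IsLocallyNoetherian S ∨ LocallyOfFiniteType G.hom) (u : H ⟶ G) [IsMonHom u] :
    ∃ U : S.Opens, IsClosed (U : Set S) ∧
      (∀ s : S, s ∈ U ↔ (Over.pullback (S.fromSpecResidueField s)).map u = 1) ∧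
      (Over.pullback U.ι).map u = 1 := by
  let L : Set S := {s | (Over.pullback (S.fromSpecResidueField s)).map u = 1}
  have hloc : ∀ (V : S.Opens) (hV : IsAffineOpen V), IsClopen (hV.fromSpec ⁻¹' L) ∧
      ((hV.fromSpec ⁻¹' L = Set.univ) → (Over.pullback hV.fromSpec).map u = 1) := fun V hV =>
    trivial_locus_chart H G hH u hV.fromSpec (hG.imp
      (fun h => by haveI := h; exact IsLocallyNoetherian.component_noetherian ⟨V, hV⟩) id)
  have hopen : ∀ T : Set S, (∀ (V : S.Opens) (hV : IsAffineOpen V), IsOpen (hV.fromSpec ⁻¹' T)) → IsOpen T := by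
    intro T hT
    rw [isOpen_iff_forall_mem_open]
    intro s hs
    obtain ⟨_, ⟨V, hV, rfl⟩, hsV, -⟩ :=
      S.isBasis_affineOpens.exists_subset_of_mem_open (Set.mem_univ s) isOpen_univ
    refine ⟨hV.fromSpec '' (hV.fromSpec ⁻¹' T), Set.image_preimage_subset _ _,
      hV.fromSpec.isOpenEmbedding.isOpenMap _ (hT V hV), ?_⟩
    obtain ⟨z, hz⟩ := hV.range_fromSpec.ge hsV
    exact ⟨z, show hV.fromSpec z ∈ T from hz ▸ hs, hz⟩
  let U : S.Opens := ⟨L, hopen L fun V hV => (hloc V hV).1.isOpen⟩
  refine ⟨U, ⟨hopen Lᶜ fun V hV => (hloc V hV).1.compl.isOpen⟩, fun s => Iff.rfl, ?_⟩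
  rw [← map_one_bc U.ι H G]
  refine hom_ext_affine _ _ fun W hW => ?_
  have hW' : IsAffineOpen (U.ι ''ᵁ W) := hW.image_of_isOpenImmersion U.ι
  let w : Spec Γ((U : Scheme.{u}), W) ⟶ Spec Γ(S, U.ι ''ᵁ W) :=
    IsOpenImmersion.lift hW'.fromSpec (hW.fromSpec ≫ U.ι) (by
      rw [hW'.range_fromSpec, Scheme.Hom.comp_base, TopCat.coe_comp, Set.range_comp, hW.range_fromSpec]
      exact subset_of_eq rfl)
  have hall : (Over.pullback hW'.fromSpec).map u = 1 := by
    refine (hloc _ hW').2 (Set.eq_univ_of_forall fun p => ?_)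
    obtain ⟨x, -, hx⟩ := hW'.range_fromSpec.le ⟨p, rfl⟩
    show hW'.fromSpec p ∈ U
    rw [← hx]
    exact x.2
  have hu : ((Over.pullback hW.fromSpec).map ((Over.pullback U.ι).map u)) = 1 := by
    let κι' := hW.fromSpec
    have hp := (IsPullback.of_hasPullback (Red.bc U.ι H).hom κι').paste_horiz (IsPullback.of_hasPullback H.hom U.ι)
    rw [map_eq_one_iff _ (IsPullback.of_hasPullback (Red.bc U.ι H).hom κι')]
    have hw : w ≫ hW'.fromSpec = κι' ≫ U.ι := IsOpenImmersion.lift_fac _ _ _
    have h1 := (map_eq_one_iff u (IsPullback.of_hasPullback H.hom hW'.fromSpec)).1 hall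
    apply pullback.hom_ext
    · have h2 : pullback.fst (Red.bc U.ι H).hom κι' ≫ pullback.fst H.hom U.ι =
          pullback.lift (pullback.fst (Red.bc U.ι H).hom κι' ≫ pullback.fst H.hom U.ι)
            (pullback.snd (Red.bc U.ι H).hom κι' ≫ w) (by rw [hp.w, Category.assoc, hw]) ≫
          pullback.fst H.hom hW'.fromSpec := (pullback.lift_fst _ _ _).symm
      rw [← map_one_bc U.ι H G]
      simp only [Category.assoc, map_left_fst]
      rw [reassoc_of% h2, reassoc_of% h2, h1]
    · simp only [Category.assoc]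
      exact congrArg (_ ≫ ·) ((Over.w ((Over.pullback U.ι).map u)).trans (Over.w _).symm)
  rw [hu, map_one_bc U.ι H G]
  exact (map_one_bc _ _ _).symm

end Groth.Agent.MTBridge
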