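import Groth.Agent.MTBridge.EndoId
import Groth.Agent.MTBridge.Hom
import Groth.Agent.MTBridge.TrivLocus
import Groth.Agent.MTBridge.EssFree
import Groth.Agent.MTFT.Basic
import Mathlib

/-!
# Extensions by groups of multiplicative type with connected quotient are central
-/

set_option autoImplicit false
set_option linter.style.haveILetI false
set_option backward.isDefEq.respectTransparency false
set_option maxHeartbeats 800000
set_option synthInstance.maxHeartbeats 400000

universe u

open CategoryTheory Limits MonoidalCategory CartesianMonoidalCategory AlgebraicGeometry Opposite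
open scoped CategoryTheory.Obj MonObj

noncomputable section

namespace Groth.Agent.MTBridge

variable {S : Scheme.{u}}

/-- Points of a group of multiplicative type commute, over any base. -/
theorem comm_points_scheme (H : Over S) [GrpObj H]
    (hH : TwC.Locally S TwC.Topology.fpqc (fun S' f => ∃ (M : Type) (_ : AddCommGroup M), Nonempty (Grp.mk (Red.bc f H) ≅ Grp.mk (Red.DS S' M))))
    {X : Over S} (x y : X ⟶ H) : x * y = y * x := by
  have h : fst H H * snd H H = snd H H * fst H H := by
    refine hom_ext_affine _ _ fun V hV => ?_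
    rw [Functor.map_mul, Functor.map_mul]
    exact comm_points _ (locally_bc H hV.fromSpec hH) _ _
  have h2 := congrArg (fun w => lift x y ≫ w) h
  simpa only [MonObj.comp_mul, lift_fst, lift_snd] using h2

/-- A morphism multiplicative on points is a homomorphism. -/
theorem isMonHom_of_points {H G : Over S} [GrpObj H] [GrpObj G] (u : H ⟶ G)
    (h : ∀ (X : Over S) (x y : X ⟶ H), (x * y) ≫ u = (x ≫ u) * (y ≫ u)) : IsMonHom u where
  one_hom := by
    have h1 := h (𝟙_ (Over S)) 1 1
    rw [_root_.one_mul] at h1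
    have h2 : (1 : 𝟙_ (Over S) ⟶ H) ≫ u = 1 := mul_eq_left.1 h1.symm
    rw [Hom.one_def, Hom.one_def, toUnit_unique (toUnit (𝟙_ (Over S))) (𝟙 _), Category.id_comp,
      Category.id_comp] at h2
    exact h2
  mul_hom := by
    rw [show μ[H] = fst H H * snd H H by rw [Hom.mul_def, lift_fst_snd, Category.id_comp], h, Hom.mul_def]
    congr 1

/-- A point of the base-changed object as a point over the base. -/
theorem exists_toBC' {T : Scheme.{u}} (j : T ⟶ S) {X : Over T} {G : Over S} (h : X ⟶ Red.bc j G) :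
    ∃ a : (Over.map j).obj X ⟶ G, toBC j a = h :=
  ⟨((Over.mapPullbackAdj j).homEquiv X G).symm h, ((Over.mapPullbackAdj j).homEquiv X G).apply_symm_apply h⟩

theorem toBC_inj {T : Scheme.{u}} (j : T ⟶ S) {X : Over T} {G : Over S} {a b : (Over.map j).obj X ⟶ G}
    (h : toBC j a = toBC j b) : a = b :=
  ((Over.mapPullbackAdj j).homEquiv X G).injective h

theorem toBC_naturality {T : Scheme.{u}} (j : T ⟶ S) {X X' : Over T} {G : Over S} (b : X' ⟶ X)
    (a : (Over.map j).obj X ⟶ G) : toBC j ((Over.map j).map b ≫ a) = b ≫ toBC j a :=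
  (Over.mapPullbackAdj j).homEquiv_naturality_left b a

/-- The base change of `1` vanishes after further base change. -/
theorem map_eq_one_comp {T T' : Scheme.{u}} {H G : Over S} [GrpObj H] [GrpObj G] (u : H ⟶ G) (g : T ⟶ S)
    (c : T' ⟶ T) (h : (Over.pullback g).map u = 1) : (Over.pullback (c ≫ g)).map u = 1 := by
  rw [map_eq_one_iff u (IsPullback.of_hasPullback H.hom g)] at h
  rw [map_eq_one_iff u (IsPullback.of_hasPullback H.hom (c ≫ g))]
  have h2 : pullback.lift (pullback.fst H.hom (c ≫ g)) (pullback.snd H.hom (c ≫ g) ≫ c)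
      (by rw [pullback.condition, Category.assoc]) ≫ pullback.fst H.hom g = pullback.fst H.hom (c ≫ g) :=
    pullback.lift_fst _ _ _
  rw [← h2]
  exact (Category.assoc _ _ _).trans ((congrArg (_ ≫ ·) h).trans (Category.assoc _ _ _).symm)

/-- Triviality of a base change descends along faithfully flat morphisms. -/
theorem map_eq_one_of_ff {T T' : Scheme.{u}} {H G : Over S} [GrpObj H] [GrpObj G] (u : H ⟶ G) (g : T ⟶ S)
    (c : T' ⟶ T) [Flat c] [Surjective c] (h : (Over.pullback (c ≫ g)).map u = 1) :
    (Over.pullback g).map u = 1 := by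
  rw [map_eq_one_iff u (IsPullback.of_hasPullback H.hom (c ≫ g))] at h
  rw [map_eq_one_iff u (IsPullback.of_hasPullback H.hom g)]
  let k := pullback.lift (pullback.fst H.hom (c ≫ g)) (pullback.snd H.hom (c ≫ g) ≫ c)
    (f := H.hom) (g := g) (by rw [pullback.condition, Category.assoc])
  have h1 : k ≫ pullback.fst H.hom g = pullback.fst H.hom (c ≫ g) := pullback.lift_fst _ _ _
  have hsq : IsPullback k (pullback.snd H.hom (c ≫ g)) (pullback.snd H.hom g) c := by
    refine IsPullback.of_right ?_ (pullback.lift_snd _ _ _) (IsPullback.of_hasPullback H.hom g)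
    rw [h1]
    exact IsPullback.of_hasPullback H.hom (c ≫ g)
  haveI : Flat k := MorphismProperty.of_isPullback hsq.flip inferInstance
  haveI : Surjective k := MorphismProperty.of_isPullback hsq.flip inferInstance
  haveI : Epi k := Flat.epi_of_flat_of_surjective k
  rw [← cancel_epi k, ← Category.assoc, ← Category.assoc, h1]
  exact h

/-- A point centralizes iff it lands in the trivial locus of the difference endomorphism. -/
theorem exists_centralizing_locus {E H : Over S} [GrpObj H] (hH : SGA3x.IsMultTypeFT H) (d : H ⊗ E ⟶ H)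
    (hd : ∀ (X : Over S) (a b : X ⟶ H) (e : X ⟶ E), lift (a * b) e ≫ d = (lift a e ≫ d) * (lift b e ≫ d)) :
    ∃ L : E.left.Opens, IsClosed (L : Set E.left) ∧
      (∀ (X : Over S) (e : X ⟶ E), Set.range e.left ⊆ (L : Set E.left) →
        ∀ a : X ⟶ H, lift a e ≫ d = 1) ∧
      ∀ (K : Type u) [Field K] (e : Spec (CommRingCat.of K) ⟶ E.left),
        (∀ (X : Over S) (x : X.left ⟶ Spec (CommRingCat.of K)) (hx : x ≫ e ≫ E.hom = X.hom) (a : X ⟶ H),
          lift a (Over.homMk (U := X) (x ≫ e) (by rw [Category.assoc, hx]) : X ⟶ E) ≫ d = 1) →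
        ∀ p, e p ∈ L := by
  let j : E.left ⟶ S := E.hom
  let P : Over E.left := Red.bc j H
  obtain ⟨a₀, ha₀⟩ := exists_toBC' j (𝟙 P)
  let x₀ : (Over.map j).obj P ⟶ E := Over.homMk P.hom rfl
  let u : P ⟶ P := toBC j (lift a₀ x₀ ≫ d)
  have hu : ∀ (Y : Over E.left) (a : (Over.map j).obj Y ⟶ H),
      toBC j a ≫ u = toBC j (lift a (Over.homMk Y.hom rfl : (Over.map j).obj Y ⟶ E) ≫ d) := by
    intro Y a
    show toBC j a ≫ toBC j (lift a₀ x₀ ≫ d) = _
    rw [← toBC_naturality, ← Category.assoc, comp_lift]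
    have h1 : (Over.map j).map (toBC j a) ≫ a₀ = a := by
      apply toBC_inj j
      rw [toBC_naturality, ha₀, Category.comp_id]
    have h2 : (Over.map j).map (toBC j a) ≫ x₀ = (Over.homMk Y.hom rfl : (Over.map j).obj Y ⟶ E) :=
      Over.OverMorphism.ext (Over.w (toBC j a))
    rw [h1, h2]
  haveI : IsMonHom u := isMonHom_of_points u fun Y a b => by
    obtain ⟨a, rfl⟩ := exists_toBC' j a
    obtain ⟨b, rfl⟩ := exists_toBC' j b
    rw [← toBC_mul, hu, hu, hu, hd, toBC_mul]
  haveI := isAffineHom H hH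
  haveI := Groth.Agent.MTFT.locallyOfFiniteType H hH
  haveI : IsSeparated P.hom := MorphismProperty.pullback_snd H.hom j inferInstance
  haveI : LocallyOfFiniteType P.hom := MorphismProperty.pullback_snd H.hom j inferInstance
  obtain ⟨U, hUc, hUiff, hU1⟩ := exists_clopen_trivial P P (isMultTypeFT_bc H j hH) (Or.inr inferInstance) u
  refine ⟨U, hUc, fun X e hr a => ?_, fun K _ e he p => ?_⟩
  · have hle : Set.range e.left ⊆ Set.range U.ι := by rw [Scheme.Opens.range_ι]; exact hr
    let c := IsOpenImmersion.lift U.ι e.left hle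
    have hc : c ≫ U.ι = e.left := IsOpenImmersion.lift_fac _ _ _
    have h1 : (Over.pullback e.left).map u = 1 := by rw [← hc]; exact map_eq_one_comp u U.ι c hU1
    rw [map_eq_one_iff u (IsPullback.of_hasPullback P.hom e.left)] at h1
    let ε : (Over.map j).obj (Over.mk e.left) ≅ X := Over.isoMk (Iso.refl _) (by simpa [j] using (Over.w e).symm)
    have h2 : toBC j (ε.hom ≫ a) ≫ u = toBC j (ε.hom ≫ a) ≫ (1 : P ⟶ P) := by
      apply Over.OverMorphism.ext
      have h3 := congrArg (fun k => pullback.lift (toBC j (ε.hom ≫ a)).left (𝟙 X.left) (f := P.hom) (g := e.left)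
        ((Over.w (toBC j (ε.hom ≫ a))).trans (Category.id_comp _).symm) ≫ k) h1
      simp only [pullback.lift_fst_assoc] at h3
      rw [Over.comp_left, Over.comp_left]
      exact h3
    rw [MonObj.comp_one, hu] at h2
    have h4 : toBC j (1 : (Over.map j).obj (Over.mk e.left) ⟶ H) = 1 :=
      mul_eq_left.1 (show toBC j (1 : _ ⟶ H) * toBC j 1 = toBC j 1 by rw [← toBC_mul, _root_.one_mul])
    rw [← h4] at h2
    have h5 := toBC_inj j h2
    have h6 : (Over.homMk (Over.mk e.left).hom rfl : (Over.map j).obj (Over.mk e.left) ⟶ E) = ε.hom ≫ e := by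
      apply Over.OverMorphism.ext
      simp [ε]
    rw [h6, ← comp_lift, Category.assoc, ← MonObj.comp_one ε.hom] at h5
    exact (cancel_epi ε.hom).1 h5
  · rw [hUiff]
    -- triviality over the field
    have hK : (Over.pullback e).map u = 1 := by
      rw [map_eq_one_iff u (IsPullback.of_hasPullback P.hom e)]
      let Y : Over E.left := Over.mk (pullback.snd P.hom e ≫ e)
      let y : Y ⟶ P := Over.homMk (pullback.fst P.hom e) pullback.condition
      obtain ⟨a, ha⟩ := exists_toBC' j y
      have h2 : y ≫ u = y ≫ 1 := by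
        rw [MonObj.comp_one, ← ha, hu, show (Over.homMk Y.hom rfl : (Over.map j).obj Y ⟶ E) =
          Over.homMk (pullback.snd P.hom e ≫ e) rfl from rfl,
          he ((Over.map j).obj Y) (pullback.snd P.hom e) (Category.assoc _ _ _).symm a]
        exact mul_eq_left.1 (show toBC j (1 : _ ⟶ H) * toBC j 1 = toBC j 1 by rw [← toBC_mul, _root_.one_mul])
      exact congrArg (fun k => k.left) h2
    -- descend to the residue field
    obtain ⟨c, hc⟩ : ∃ c : Spec (CommRingCat.of K) ⟶ Spec (E.left.residueField (e p)),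
        c ≫ E.left.fromSpecResidueField (e p) = e := by
      have hp : p = IsLocalRing.closedPoint K := Subsingleton.elim _ _
      subst hp
      exact ⟨Spec.map (E.left.descResidueField (Scheme.stalkClosedPointTo e)),
        Scheme.descResidueField_stalkClosedPointTo_fromSpecResidueField K E.left e⟩
    haveI : Flat c := inferInstance
    haveI : Surjective c := inferInstance
    exact map_eq_one_of_ff u (E.left.fromSpecResidueField (e p)) c (by rw [hc]; exact hK)

/-- **An extension of a group with connected fibres by a group of multiplicative type is central.** -/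
theorem central_of_extension {E H U : Over S} [GrpObj E] [GrpObj H] [GrpObj U] (p : E ⟶ U) [IsMonHom p]
    [Surjective p.left] [Flat p.left] [QuasiCompact p.left] (i : H ⟶ E) [IsMonHom i] (hker : AlgGrp.IsKernel i p)
    (hH : SGA3x.IsMultTypeFT H) (hU : ∀ s : S, _root_.IsConnected (U.hom.base ⁻¹' {s})) :
    ∀ (X : Over S) (h : X ⟶ H) (e : X ⟶ E), (h ≫ i) * e = e * (h ≫ i) := by
  have hH' := locally_of_isMultTypeFT' H hH
  have hη : ∀ {X : Over S}, toUnit X ≫ η[U] = (1 : X ⟶ U) := fun {X} => (Hom.one_def).symm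
  have hker' : IsPullback i (toUnit H) p η[U] := hker
  haveI : Mono i := ⟨fun {X} a b h => hker'.hom_ext h (toUnit_unique _ _)⟩
  obtain ⟨c, hc⟩ : ∃ c : H ⊗ E ⟶ H, c ≫ i = snd H E * (fst H E ≫ i) * (snd H E)⁻¹ := by
    refine ⟨hker'.lift _ (toUnit _) ?_, hker'.lift_fst _ _ _⟩
    rw [MonObj.mul_comp, MonObj.mul_comp, GrpObj.inv_comp, Category.assoc, hker'.w, ← Category.assoc,
      comp_toUnit, hη, _root_.mul_one, mul_inv_cancel]
  have hc' : ∀ (X : Over S) (a : X ⟶ H) (e : X ⟶ E), (lift a e ≫ c) ≫ i = e * (a ≫ i) * e⁻¹ := by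
    intro X a e
    rw [Category.assoc, hc]
    simp [MonObj.comp_mul, GrpObj.comp_inv]
  let d : H ⊗ E ⟶ H := c * (fst H E)⁻¹
  have hd' : ∀ (X : Over S) (a : X ⟶ H) (e : X ⟶ E), lift a e ≫ d = (lift a e ≫ c) * a⁻¹ := by
    intro X a e
    simp [d, MonObj.comp_mul, GrpObj.comp_inv]
  have hd : ∀ (X : Over S) (a b : X ⟶ H) (e : X ⟶ E),
      lift (a * b) e ≫ d = (lift a e ≫ d) * (lift b e ≫ d) := by
    intro X a b e
    have h1 : lift (a * b) e ≫ c = (lift a e ≫ c) * (lift b e ≫ c) := by
      refine (cancel_mono i).1 ?_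
      rw [MonObj.mul_comp, hc', hc', hc', MonObj.mul_comp]
      group
    rw [hd', hd', hd', h1, _root_.mul_inv_rev, comm_points_scheme H hH' b⁻¹ a⁻¹]
    simp only [_root_.mul_assoc]
    rw [← _root_.mul_assoc (lift b e ≫ c), comm_points_scheme H hH' (lift b e ≫ c) a⁻¹, _root_.mul_assoc]
  obtain ⟨L, hLc, hL1, hL2⟩ := exists_centralizing_locus hH d hd
  have hcen : ∀ (X : Over S) (e : X ⟶ E), Set.range e.left ⊆ (L : Set E.left) → ∀ a : X ⟶ H,
      e * (a ≫ i) * e⁻¹ = a ≫ i := by
    intro X e he a
    have := hL1 X e he a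
    rw [hd', mul_inv_eq_one] at this
    rw [← hc', this]
  -- the locus contains the unit
  have hone : ∀ q : ↥(𝟙_ (Over S)).left, η[E].left q ∈ L := by
    intro q
    let K := (𝟙_ (Over S)).left.residueField q
    have hq : (𝟙_ (Over S)).left.fromSpecResidueField q (IsLocalRing.closedPoint K) = q :=
      (𝟙_ (Over S)).left.fromSpecResidueField_apply q _
    have h := hL2 K ((𝟙_ (Over S)).left.fromSpecResidueField q ≫ η[E].left) (fun X x hx a => by
      let e : X ⟶ E := Over.homMk (x ≫ (𝟙_ (Over S)).left.fromSpecResidueField q ≫ η[E].left)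
        (by rw [Category.assoc]; exact hx)
      have he : e = 1 := by
        let x' : X ⟶ 𝟙_ (Over S) := Over.homMk (x ≫ (𝟙_ (Over S)).left.fromSpecResidueField q) (by
          rw [← hx, Category.assoc, Category.assoc, Over.w η[E]])
        rw [Hom.one_def, toUnit_unique (toUnit X) x']
        exact Over.OverMorphism.ext (Category.assoc _ _ _).symm
      show lift a e ≫ d = 1
      rw [hd', mul_inv_eq_one]
      refine (cancel_mono i).1 ?_
      rw [hc', he, _root_.one_mul, inv_one, _root_.mul_one]) (IsLocalRing.closedPoint K)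
    rw [Scheme.Hom.comp_apply] at h
    exact (congrArg (fun w => η[E].left w ∈ L) hq).mp h
  -- saturation
  have hsat : ∀ e e' : E.left, p.left e = p.left e' → e ∈ L → e' ∈ L := by
    intro e e' hee he
    obtain ⟨z, hz1, hz2⟩ := Scheme.Pullback.exists_preimage_pullback (f := p.left) (g := p.left) e e' hee
    let Q := pullback p.left p.left
    let K := Q.residueField z
    let k := Q.fromSpecResidueField z
    have hk : ∀ t, k t = z := fun t => Q.fromSpecResidueField_apply z t
    have h := hL2 K (k ≫ pullback.snd p.left p.left) (fun X x hx a => by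
      have hw : (x ≫ k ≫ pullback.fst p.left p.left) ≫ E.hom = X.hom := by
        rw [← hx, Category.assoc, Category.assoc, Category.assoc]
        congr 2
        rw [← Over.w p, pullback.condition_assoc]
      let e₁ : X ⟶ E := Over.homMk (x ≫ k ≫ pullback.fst p.left p.left) hw
      let e₂ : X ⟶ E := Over.homMk (x ≫ k ≫ pullback.snd p.left p.left) (by rw [Category.assoc]; exact hx)
      show lift a e₂ ≫ d = 1
      have hp : e₁ ≫ p = e₂ ≫ p := by
        apply Over.OverMorphism.ext
        show (x ≫ k ≫ pullback.fst p.left p.left) ≫ p.left = (x ≫ k ≫ pullback.snd p.left p.left) ≫ p.left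
        simp only [Category.assoc, pullback.condition]
      obtain ⟨b, hb⟩ : ∃ b : X ⟶ H, b ≫ i = e₁⁻¹ * e₂ := ⟨hker'.lift _ (toUnit _) (by
        rw [MonObj.mul_comp, GrpObj.inv_comp, hp, inv_mul_cancel, hη]), hker'.lift_fst _ _ _⟩
      have h1 := hcen X e₁ (by
        rintro _ ⟨t, rfl⟩
        show (x ≫ k ≫ pullback.fst p.left p.left) t ∈ L
        rw [Scheme.Hom.comp_apply, Scheme.Hom.comp_apply]
        exact (congrArg (fun w => pullback.fst p.left p.left w ∈ L) (hk (x t))).mpr (hz1.symm ▸ he)) a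
      rw [hd', mul_inv_eq_one]
      refine (cancel_mono i).1 ?_
      rw [hc', show e₂ = e₁ * (b ≫ i) from by rw [hb, mul_inv_cancel_left]]
      have h2 : (b ≫ i) * (a ≫ i) = (a ≫ i) * (b ≫ i) := by
        rw [← MonObj.mul_comp, ← MonObj.mul_comp, comm_points_scheme H hH' b a]
      calc e₁ * (b ≫ i) * (a ≫ i) * (e₁ * (b ≫ i))⁻¹
          = e₁ * ((b ≫ i) * (a ≫ i) * (b ≫ i)⁻¹) * e₁⁻¹ := by group
        _ = a ≫ i := by rw [h2, mul_inv_cancel_right, h1]) (IsLocalRing.closedPoint K)
    rw [Scheme.Hom.comp_apply] at h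
    exact hz2 ▸ (congrArg (fun w => pullback.snd p.left p.left w ∈ L) (hk _)).mp h
  have hpre : p.left ⁻¹' (p.left '' (L : Set E.left)) = L :=
    Set.Subset.antisymm (fun e' ⟨e, he, hee⟩ => hsat e e' hee he) (Set.subset_preimage_image _ _)
  have hqm := Flat.isQuotientMap_of_surjective p.left
  let W : Set U.left := p.left '' (L : Set E.left)
  have hW : IsClopen W := by
    refine ⟨?_, ?_⟩
    · rw [← hqm.isClosed_preimage, hpre]; exact hLc
    · rw [← hqm.isOpen_preimage, hpre]; exact L.2
  have hall : ∀ e : E.left, e ∈ L := by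
    intro e
    let s := U.hom (p.left e)
    obtain ⟨q, hq⟩ : ∃ q : ↥(𝟙_ (Over S)).left, (𝟙_ (Over S)).hom q = s := ⟨s, rfl⟩
    have hmem : U.hom (p.left (η[E].left q)) = s := by
      rw [← Scheme.Hom.comp_apply, ← Scheme.Hom.comp_apply, Over.w p, Over.w η[E], hq]
    have h1 := (hU s).isPreconnected.subset_isClopen hW ⟨p.left (η[E].left q), hmem, ⟨_, hone q, rfl⟩⟩
      (show p.left e ∈ U.hom.base ⁻¹' {s} from rfl)
    exact hpre.le h1
  intro X h e
  have h1 := hcen X e (fun t _ => hall t) h
  rw [mul_inv_eq_iff_eq_mul] at h1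
  exact h1.symm

end Groth.Agent.MTBridge
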