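import Groth.Agent.MTBridge.Cocycle
import Groth.Agent.MultT.Dense
import Groth.Agent.S5242
import Groth.Agent.S4599
import Mathlib

/-!
# Two homomorphisms from a group of multiplicative type equal on the closed fibre of a local base
-/

set_option autoImplicit false
set_option linter.style.haveILetI false
set_option linter.unusedSectionVars false
set_option backward.isDefEq.respectTransparency false
set_option maxHeartbeats 1000000
set_option synthInstance.maxHeartbeats 400000

universe u

open CategoryTheory Limits MonoidalCategory CartesianMonoidalCategory AlgebraicGeometry TensorProduct Opposite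
open TopologicalSpace WithConv
open scoped CategoryTheory.Obj MonObj

noncomputable section

namespace Groth.Agent.MTBridge

variable {R A : Type u} [CommRing R] [CommRing A] [HopfAlgebra R A]
  {G : Over (Spec (CommRingCat.of R))} [GrpObj G]

/-- The ideal of coincidence of two points which agree at all points with values in fields. -/
theorem exists_eq_ideal [LocallyOfFiniteType G.hom] {S : Type u} [CommRing S] [Algebra R S] (x y : Pt G S)
    (hfield : ∀ (L : Type u) [Field L] [Algebra R L] (h : S →ₐ[R] L), spMap h ≫ x = spMap h ≫ y) :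
    ∃ J : Ideal S, J.FG ∧ ∀ (T : Type u) [CommRing T] [Algebra R T] (h : S →ₐ[R] T),
      spMap h ≫ x = spMap h ≫ y ↔ J ≤ RingHom.ker h := by
  let p := pullback.lift x.left y.left ((Over.w x).trans (Over.w y).symm)
  let f := pullback.snd (pullback.diagonal G.hom) p
  have hdiag : LocallyOfFinitePresentation (pullback.diagonal G.hom) := Groth.Agent.S4599.result G.hom
  haveI : IsImmersion f := MorphismProperty.pullback_snd _ _ inferInstance
  haveI hfp : LocallyOfFinitePresentation f := MorphismProperty.pullback_snd _ _ hdiag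
  have hfx : pullback.fst (pullback.diagonal G.hom) p = f ≫ x.left := by
    have := congrArg (fun m => m ≫ pullback.fst G.hom G.hom) (pullback.condition (f := pullback.diagonal G.hom) (g := p))
    simpa [p, f] using this
  have hfy : pullback.fst (pullback.diagonal G.hom) p = f ≫ y.left := by
    have := congrArg (fun m => m ≫ pullback.snd G.hom G.hom) (pullback.condition (f := pullback.diagonal G.hom) (g := p))
    simpa [p, f] using this
  have hxy : f ≫ x.left = f ≫ y.left := hfx.symm.trans hfy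
  have huniv : ∀ {Z : Scheme.{u}} (m : Z ⟶ Spec (CommRingCat.of S)), m ≫ x.left = m ≫ y.left → ∃ l, l ≫ f = m := by
    intro Z m hm
    refine ⟨pullback.lift (m ≫ x.left) m ?_, pullback.lift_snd _ _ _⟩
    apply pullback.hom_ext <;> simp [p, hm]
  have hsurj : ∀ t : ↥(Spec (CommRingCat.of S)), t ∈ Set.range f := by
    intro t
    let P : PrimeSpectrum S := t
    let h : S →ₐ[R] P.asIdeal.ResidueField := IsScalarTower.toAlgHom R S P.asIdeal.ResidueField
    have h1 := congrArg (fun m => m.left) (hfield _ h)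
    simp only [Over.comp_left, spMap_left] at h1
    obtain ⟨l, hl⟩ := huniv _ h1
    refine ⟨l (⊥ : PrimeSpectrum P.asIdeal.ResidueField), ?_⟩
    rw [← Scheme.Hom.comp_apply, hl]
    exact PrimeSpectrum.ext (by
      show (⊥ : Ideal P.asIdeal.ResidueField).comap (algebraMap S P.asIdeal.ResidueField) = P.asIdeal
      exact Ideal.ker_algebraMap_residueField _)
  haveI hcl : IsClosedImmersion f := IsClosedImmersion.of_isPreimmersion f (by
    rw [Set.eq_univ_of_forall hsurj]; exact isClosed_univ)
  obtain ⟨J, e, he⟩ := IsClosedImmersion.Spec_iff.1 hcl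
  let mk := Ideal.Quotient.mk J
  have hmk : Spec.map (CommRingCat.ofHom mk) ≫ x.left = Spec.map (CommRingCat.ofHom mk) ≫ y.left := by
    rw [he, Category.assoc, Category.assoc] at hxy
    exact (cancel_epi e.hom).1 hxy
  refine ⟨J, ?_, fun T _ _ h => ⟨fun heq => ?_, fun hle => ?_⟩⟩
  · haveI : LocallyOfFinitePresentation (Spec.map (CommRingCat.ofHom mk)) := by
      rw [show Spec.map (CommRingCat.ofHom mk) = e.inv ≫ f by rw [he, e.inv_hom_id_assoc]]
      infer_instance
    have h1 : mk.FinitePresentation :=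
      (HasRingHomProperty.Spec_iff (P := @LocallyOfFinitePresentation)).1 ‹_›
    haveI : Algebra.FinitePresentation S (S ⧸ J) := h1
    have := Algebra.FinitePresentation.ker_fG_of_surjective (Ideal.Quotient.mkₐ S J) Ideal.Quotient.mk_surjective
    simpa using this
  · have h1 := congrArg (fun m => m.left) heq
    simp only [Over.comp_left, spMap_left] at h1
    obtain ⟨l, hl⟩ := huniv _ h1
    obtain ⟨φ, hφ⟩ := Spec.map_surjective (l ≫ e.hom)
    have h2 : h.toRingHom = φ.hom.comp mk := by
      refine congrArg CommRingCat.Hom.hom (Spec.map_injective (a₁ := CommRingCat.ofHom h.toRingHom)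
        (a₂ := CommRingCat.ofHom mk ≫ φ) ?_)
      rw [Spec.map_comp, hφ, Category.assoc, ← he, hl]
    intro s hs
    rw [RingHom.mem_ker]
    show h.toRingHom s = 0
    rw [h2, RingHom.comp_apply, Ideal.Quotient.eq_zero_iff_mem.2 hs, map_zero]
  · apply Over.OverMorphism.ext
    show Spec.map _ ≫ x.left = Spec.map _ ≫ y.left
    have h2 : h.toRingHom = (Ideal.Quotient.lift J h.toRingHom fun s hs => hle hs).comp mk :=
      RingHom.ext fun s => rfl
    rw [h2, CommRingCat.ofHom_comp, Spec.map_comp, Category.assoc, Category.assoc, hmk]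

theorem ker_bA {B T : Type u} [CommRing B] [Algebra R B] [CommRing T] [Algebra R T] (g : B →ₐ[R] T)
    (hg : Function.Surjective g) : RingHom.ker (bA A g) = (RingHom.ker g).map (inB R A B) :=
  Algebra.TensorProduct.rTensor_ker (R := R) (C := A) g hg

/-- A family of coordinates turns an ideal of `B ⊗ A` into an ideal of the base. -/
theorem exists_coord_ideal [Module.Finite R A] [Module.Projective R A] {B : Type u} [CommRing B] [Algebra R B]
    (J : Ideal (B ⊗[R] A)) (hJ : J.FG) :
    ∃ K : Ideal B, K.FG ∧ ∀ I : Ideal B, J ≤ I.map (inB R A B) ↔ K ≤ I := by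
  classical
  obtain ⟨n, π, co, -, -, hπ⟩ := Module.Finite.exists_comp_eq_id_of_projective B (B ⊗[R] A)
  obtain ⟨F, rfl⟩ := hJ
  refine ⟨Ideal.span ↑((F ×ˢ (Finset.univ : Finset (Fin n))).image fun k => co k.1 k.2), ⟨_, rfl⟩, fun I => ?_⟩
  have hmap : I.map (inB R A B) = I.map (algebraMap B (B ⊗[R] A)) := rfl
  rw [hmap]
  constructor
  · intro h
    refine Ideal.span_le.2 fun v hv => ?_
    obtain ⟨⟨s, i⟩, hk, rfl⟩ := Finset.mem_image.1 (Finset.mem_coe.1 hv)
    have hs : s ∈ I • (⊤ : Submodule B (B ⊗[R] A)) := by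
      rw [Ideal.smul_top_eq_map]
      exact h (Ideal.subset_span (Finset.mem_product.1 hk).1)
    have h1 : co s i ∈ (I • (⊤ : Submodule B (B ⊗[R] A))).map ((LinearMap.proj i).comp co) := ⟨s, hs, rfl⟩
    rw [Submodule.map_smul''] at h1
    exact (Submodule.smul_mono le_rfl le_top : _ ≤ I • (⊤ : Submodule B B)) h1 |> fun h2 => by
      simpa [Ideal.smul_eq_mul] using h2
  · intro h
    refine Ideal.span_le.2 fun s hs => ?_
    have h1 : π (co s) = s := LinearMap.congr_fun hπ s
    rw [SetLike.mem_coe, ← h1, show co s = ∑ i, co s i • Pi.single i (1 : B) from by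
      ext j; simp [Finset.sum_apply, Pi.single_apply], map_sum]
    refine Ideal.sum_mem _ fun i _ => ?_
    rw [map_smul, Algebra.smul_def]
    exact Ideal.mul_mem_right _ _ (Ideal.mem_map_of_mem _ (h (Ideal.subset_span
      (Finset.mem_coe.2 (Finset.mem_image.2 ⟨(s, i), Finset.mem_product.2 ⟨hs, Finset.mem_univ _⟩, rfl⟩)))))

/-- The finite case. -/
theorem char_eq_finite [LocallyOfFiniteType G.hom] (hA : SGA3b.IsMultType R A) [Module.Finite R A] {B : Type u}
    [CommRing B] [Algebra R B] [IsLocalRing B] (x y : Pt G (B ⊗[R] A)) (hx : IsChar x) (hy : IsChar y)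
    (hcomm : ∀ (L : Type u) [CommRing L] [Algebra R L] (h : B ⊗[R] A →ₐ[R] L),
      (∀ b ∈ IsLocalRing.maximalIdeal B, h (b ⊗ₜ 1) = 0) → ∀ p : Pt G L, (spMap h ≫ x) * p = p * (spMap h ≫ x))
    (hclosed : spMap (bA A (Ideal.Quotient.mkₐ R (IsLocalRing.maximalIdeal B))) ≫ x =
      spMap (bA A (Ideal.Quotient.mkₐ R (IsLocalRing.maximalIdeal B))) ≫ y)
    (hfield : ∀ (L : Type u) [Field L] [Algebra R L] (h : B ⊗[R] A →ₐ[R] L), spMap h ≫ x = spMap h ≫ y) :
    x = y := by
  classical
  haveI : Module.Projective R A := Groth.Agent.MultT.projective hA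
  obtain ⟨J, hJ, hJu⟩ := exists_eq_ideal x y hfield
  obtain ⟨K, hKfg, hK⟩ := exists_coord_ideal J hJ
  have hker : ∀ (T : Type u) [CommRing T] [Algebra R T] (g : B →ₐ[R] T), Function.Surjective g →
      (spMap (bA A g) ≫ x = spMap (bA A g) ≫ y ↔ K ≤ RingHom.ker g) := fun T _ _ g hg => by
    rw [hJu, ker_bA g hg, hK]
  set m := IsLocalRing.maximalIdeal B with hm
  have hKm : K ≤ m := fun b hb => by
    have := (hker _ _ Ideal.Quotient.mk_surjective).1 hclosed hb
    exact Ideal.Quotient.eq_zero_iff_mem.1 this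
  -- a chart at the unit
  let e : Pt G B := 1
  let cl : ↥(Spec (CommRingCat.of B)) := IsLocalRing.closedPoint B
  obtain ⟨U, hU, hclU, -⟩ := exists_isAffineOpen_mem_and_subset (x := e.left cl) (U := ⊤) trivial
  let C : Type u := Γ(G.left, U)
  let c : Spec (CommRingCat.of C) ⟶ G.left := hU.fromSpec
  have hr : Set.range e.left ⊆ Set.range c := by
    rintro _ ⟨z, rfl⟩
    rw [show Set.range c = (U : Set G.left) from hU.range_fromSpec]
    exact ((IsLocalRing.specializes_closedPoint (z : PrimeSpectrum B)).map e.left.continuous).mem_open U.2 hclU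
  let θe : C →+* B := (Spec.preimage (IsOpenImmersion.lift c e.left hr)).hom
  have he : IsChart c (1 : Pt G B) θe := by
    show e.left = _
    rw [CommRingCat.ofHom_hom, Spec.map_preimage, IsOpenImmersion.lift_fac]
  have hfin : ∃ G₀ : Finset C, Subring.closure ((G₀ : Set C) ∪ Set.range (Spec.preimage (c ≫ G.hom)).hom) = ⊤ := by
    have h1 : (Spec.preimage (c ≫ G.hom)).hom.FiniteType := by
      refine (HasRingHomProperty.Spec_iff (P := @LocallyOfFiniteType)).1 ?_
      rw [Spec.map_preimage]
      infer_instance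
    letI := (Spec.preimage (c ≫ G.hom)).hom.toAlgebra
    obtain ⟨G₀, hG₀⟩ := h1.out
    refine ⟨G₀, ?_⟩
    have h2 := congrArg Subalgebra.toSubring hG₀
    rw [Algebra.adjoin_eq_ring_closure, Algebra.top_toSubring] at h2
    rw [Set.union_comm]
    exact h2
  -- reduce modulo `K²`
  let B₂ := B ⧸ K * K
  let m₂ : B →ₐ[R] (B ⧸ K * K) := Ideal.Quotient.mkₐ R (K * K)
  let I : Ideal (B ⧸ K * K) := K.map m₂
  have hI : I * I = ⊥ := by
    rw [← Ideal.map_mul, Ideal.map_eq_bot_iff_le_ker]
    exact fun b hb => Ideal.Quotient.eq_zero_iff_mem.2 hb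
  have hQ : NakHyp c (m.map m₂) := by
    refine Or.inr ⟨Or.inl hfin, le_sInf fun M ⟨_, hM⟩ => ?_⟩
    haveI := hM
    rw [Ideal.map_le_iff_le_comap]
    exact (IsLocalRing.eq_maximalIdeal (Ideal.comap_isMaximal_of_surjective m₂ Ideal.Quotient.mk_surjective)).ge
  have key : spMap (bA A m₂) ≫ x = spMap (bA A m₂) ≫ y := by
    refine eq_of_sq_zero hA (spMap (bA A m₂) ≫ x) (spMap (bA A m₂) ≫ y) (hx.res m₂) (hy.res m₂) (m.map m₂) hQ
      (fun L _ _ h hh p => ?_) (m₂.toRingHom.comp θe) ?_ I hI ?_
    · rw [spMap_assoc]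
      refine hcomm L _ (fun b hb => ?_) p
      rw [AlgHom.comp_apply, show bA A m₂ (b ⊗ₜ[R] (1 : A)) = m₂ b ⊗ₜ[R] (1 : A) by simp [bA]]
      exact hh _ (Ideal.mem_map_of_mem _ hb)
    · have := he.res m₂
      rwa [MonObj.comp_one] at this
    · rw [spMap_assoc, spMap_assoc, bA_comp]
      refine (hker _ _ ((Ideal.Quotient.mk_surjective).comp Ideal.Quotient.mk_surjective)).2 fun b hb => ?_
      exact Ideal.Quotient.eq_zero_iff_mem.2 (Ideal.mem_map_of_mem m₂ hb)
  have hK2 : K ≤ K • K := fun b hb => Ideal.Quotient.eq_zero_iff_mem.1 ((hker _ m₂ Ideal.Quotient.mk_surjective).1 key hb)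
  have hK0 : K = ⊥ := Submodule.eq_bot_of_le_smul_of_le_jacobson_bot K K hKfg hK2
    (by rw [IsLocalRing.jacobson_eq_maximalIdeal ⊥ bot_ne_top]; exact hKm)
  have := (hker B (AlgHom.id R B) Function.surjective_id).2 (by rw [hK0]; exact bot_le)
  rwa [show bA A (AlgHom.id R B) = AlgHom.id R (B ⊗[R] A) from Algebra.TensorProduct.map_id, spMap_id,
    Category.id_comp, Category.id_comp] at this

section Change

variable {A' : Type u} [CommRing A'] [HopfAlgebra R A'] (π : A →ₐc[R] A') (B : Type u) [CommRing B] [Algebra R B]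

/-- Change of group. -/
def gA : B ⊗[R] A →ₐ[R] B ⊗[R] A' := Algebra.TensorProduct.map (AlgHom.id R B) (π : A →ₐ[R] A')

theorem IsChar.change {x : Pt G (B ⊗[R] A)} (h : IsChar x) : IsChar (spMap (gA π B) ≫ x) := by
  let gW : W2 R A B →ₐ[R] W2 R A' B := Algebra.TensorProduct.map (AlgHom.id R B)
    (Algebra.TensorProduct.map (π : A →ₐ[R] A') (π : A →ₐ[R] A'))
  have h1 : (eI1 R A' B).comp (gA π B) = gW.comp (eI1 R A B) := by ext <;> simp [gA, gW, eI1]
  have h2 : (eI2 R A' B).comp (gA π B) = gW.comp (eI2 R A B) := by ext <;> simp [gA, gW, eI2]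
  have h3 : (eD R A' B).comp (gA π B) = gW.comp (eD R A B) := by
    have hπ : (Bialgebra.comulAlgHom R A').comp (π : A →ₐ[R] A') =
        (Algebra.TensorProduct.map (π : A →ₐ[R] A') (π : A →ₐ[R] A')).comp (Bialgebra.comulAlgHom R A) :=
      (BialgHom.map_comp_comulAlgHom π).symm
    refine Algebra.TensorProduct.ext ?_ ?_
    · ext b; simp [gA, gW, eD]
    · ext a
      have e1 := AlgHom.congr_fun hπ a
      simp only [AlgHom.comp_apply, Bialgebra.comulAlgHom_apply] at e1
      simp [gA, gW, eD]
      exact congrArg (fun z => (1 : B) ⊗ₜ[R] z) e1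
  unfold IsChar at *
  rw [spMap_assoc, spMap_assoc, spMap_assoc, h1, h2, h3, ← spMap_assoc, ← spMap_assoc, ← spMap_assoc, h,
    MonObj.comp_mul]

theorem gA_bA {B B' : Type u} [CommRing B] [Algebra R B] [CommRing B'] [Algebra R B'] (g : B →ₐ[R] B') :
    (bA A' g).comp (gA π B) = (gA π B').comp (bA A g) := by
  ext <;> simp [gA, bA]

end Change

/-- **Two homomorphisms out of a group of multiplicative type over a local base, one of which is central on the
closed fibre, are equal as soon as they are equal on the closed fibre and at all points with values in fields.** -/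
theorem char_eq [LocallyOfFiniteType G.hom] (hA : SGA3b.IsMultType R A) [Algebra.FiniteType R A] {B : Type u}
    [CommRing B] [Algebra R B] [IsLocalRing B] (x y : Pt G (B ⊗[R] A)) (hx : IsChar x) (hy : IsChar y)
    (hcomm : ∀ (L : Type u) [CommRing L] [Algebra R L] (h : B ⊗[R] A →ₐ[R] L),
      (∀ b ∈ IsLocalRing.maximalIdeal B, h (b ⊗ₜ 1) = 0) → ∀ p : Pt G L, (spMap h ≫ x) * p = p * (spMap h ≫ x))
    (hclosed : spMap (bA A (Ideal.Quotient.mkₐ R (IsLocalRing.maximalIdeal B))) ≫ x =
      spMap (bA A (Ideal.Quotient.mkₐ R (IsLocalRing.maximalIdeal B))) ≫ y)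
    (hfield : ∀ (L : Type u) [Field L] [Algebra R L] (h : B ⊗[R] A →ₐ[R] L), spMap h ≫ x = spMap h ≫ y) :
    x = y := by
  obtain ⟨J, -, hJ⟩ := exists_eq_ideal x y hfield
  haveI : Coalgebra.IsCocomm R A := Groth.Agent.MultT.isCocomm hA
  have htor : ∀ n : ℕ, 0 < n → J ≤ (SGA3b.torsionIdeal R A n).map
      (Algebra.TensorProduct.includeRight : A →ₐ[R] B ⊗[R] A) := by
    intro n hn
    let T := SGA3b.torsionIdeal R A n
    haveI : T.IsHopfIdeal R := Groth.Agent.MultT.isHopfIdeal_torsion n
    obtain ⟨hT, hTf⟩ := Groth.Agent.S5242.result R A inferInstance hA n hn T rfl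
    haveI := hTf
    let π : A →ₐc[R] A ⧸ T := Bialgebra.Quotient.mkBialgHom T
    have h1 : spMap (gA π B) ≫ x = spMap (gA π B) ≫ y := by
      refine char_eq_finite hT _ _ (hx.change π B) (hy.change π B) (fun L _ _ h hh p => ?_) ?_ (fun L _ _ h => ?_)
      · rw [spMap_assoc]
        refine hcomm L _ (fun b hb => ?_) p
        rw [AlgHom.comp_apply, show gA π B (b ⊗ₜ[R] (1 : A)) = b ⊗ₜ[R] (1 : A ⧸ T) by simp [gA]]
        exact hh b hb
      · rw [spMap_assoc, spMap_assoc, gA_bA, ← spMap_assoc, ← spMap_assoc, hclosed]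
      · rw [spMap_assoc, spMap_assoc]
        exact hfield L _
    have h2 := (hJ _ _).1 h1
    have hk := Algebra.TensorProduct.lTensor_ker (R := R) (A := B) (Ideal.Quotient.mkₐ R T)
      (Ideal.Quotient.mkₐ_surjective R T)
    rw [show RingHom.ker (Ideal.Quotient.mkₐ R T) = T from Ideal.mk_ker] at hk
    exact h2.trans hk.le
  have hJ0 : J = ⊥ := by
    refine eq_bot_iff.2 fun z hz => ?_
    haveI : Algebra.FiniteType B (B ⊗[R] A) := Algebra.FiniteType.baseChange B
    obtain ⟨k, hk⟩ := Groth.Agent.MultT.dense_torsion (R := B) (A := B ⊗[R] A)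
      (Groth.Agent.MultT.isMultType_baseChange hA B) 1 z fun n hn => ⟨0, by
        rw [pow_zero, one_mul]
        refine (Ideal.map_le_iff_le_comap.2 ?_ : _ ≤ SGA3b.torsionIdeal B (B ⊗[R] A) n) (htor n hn hz)
        refine Ideal.map_le_iff_le_comap.2 fun v hv => ?_
        rw [Ideal.mem_comap, Ideal.mem_comap]
        show (1 : B) ⊗ₜ[R] SGA3b.powConv R A n v ∈ _
        rw [← Groth.Agent.VerschComp.powConv_one_tmul]
        refine Ideal.mem_map_of_mem _ (RingHom.mem_ker.2 ?_)
        have : Coalgebra.counit (R := R) v = 0 := hv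
        simp [this]⟩
    simpa using hk
  have := (hJ _ (AlgHom.id R (B ⊗[R] A))).2 (by rw [hJ0]; exact bot_le)
  rwa [spMap_id, Category.id_comp, Category.id_comp] at this

end Groth.Agent.MTBridge
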