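import Groth.Agent.MTBridge.TransporterSub
import Groth.Agent.MTBridge.TwoHom
import Mathlib

/-!
# Groups of multiplicative type are flat
-/

set_option autoImplicit false
set_option backward.isDefEq.respectTransparency false

universe u

open CategoryTheory Limits AlgebraicGeometry

namespace Groth.Agent.MTBridge

/-- Groups of multiplicative type of finite type are flat. -/
theorem flat_of_isMultTypeFT {S : Scheme.{u}} (H : Over S) [GrpObj H] (hH : SGA3x.IsMultTypeFT H) :
    Flat H.hom := by
  let 𝒰 := Scheme.openCoverOfIsOpenCover S (fun V : S.affineOpens => V.1) (iSup_affineOpens_eq_top S)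
  refine IsZariskiLocalAtTarget.of_openCover 𝒰 fun V => ?_
  show Flat (pullback.snd H.hom V.1.ι)
  haveI : IsAffine (V.1 : Scheme.{u}) := V.2
  obtain ⟨A, _, _, hA, hft, ⟨e⟩⟩ := exists_hopf (Red.bc V.2.fromSpec H) (isMultTypeFT_bc H V.2.fromSpec hH)
  haveI : Module.Flat Γ(S, V.1) A := Groth.Agent.MultT.flat hA
  have h1 : Flat (Spec.map (CommRingCat.ofHom (algebraMap Γ(S, V.1) A))) :=
    Flat.SpecMap_iff.2 (RingHom.flat_algebraMap_iff.2 inferInstance)
  haveI : IsIso e.hom.hom.hom.left :=
    inferInstanceAs (IsIso ((Over.forget _).map ((Grp.forget _).map e.hom)))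
  have h2 : Flat (pullback.snd H.hom V.2.fromSpec) := by
    rw [show pullback.snd H.hom V.2.fromSpec = e.hom.hom.hom.left ≫ Spec.map (CommRingCat.ofHom (algebraMap Γ(S, V.1) A))
      from (Over.w e.hom.hom.hom).symm]
    infer_instance
  let c : pullback H.hom V.1.ι ⟶ pullback H.hom V.2.fromSpec :=
    pullback.map H.hom V.1.ι H.hom V.2.fromSpec (𝟙 _) V.2.isoSpec.hom (𝟙 _) (by simp)
      ((Category.comp_id _).trans V.2.isoSpec_hom_fromSpec.symm)
  haveI : IsIso c := pullback.map_isIso ..
  have hc : c ≫ pullback.snd H.hom V.2.fromSpec = pullback.snd H.hom V.1.ι ≫ V.2.isoSpec.hom := pullback.lift_snd _ _ _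
  rw [show pullback.snd H.hom V.1.ι = c ≫ pullback.snd H.hom V.2.fromSpec ≫ V.2.isoSpec.inv by
    rw [← Category.assoc, hc, Category.assoc, Iso.hom_inv_id, Category.comp_id]]
  infer_instance

end Groth.Agent.MTBridge
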