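import Groth.Agent.MTBridge.TwoHom
import Groth.Agent.MultT.HomLift
import Mathlib

/-!
# Lifting of homomorphisms between groups of multiplicative type along nilpotent ideals, on points
-/

set_option autoImplicit false
set_option linter.style.haveILetI false
set_option linter.unusedSectionVars false
set_option backward.isDefEq.respectTransparency false
set_option maxHeartbeats 1000000
set_option synthInstance.maxHeartbeats 400000

universe u

open CategoryTheory Limits MonoidalCategory CartesianMonoidalCategory AlgebraicGeometry TensorProduct Opposite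
open TopologicalSpace WithConv
open scoped CategoryTheory.Obj MonObj

noncomputable section

namespace Groth.Agent.MTBridge

variable {R A A' : Type u} [CommRing R] [CommRing A] [HopfAlgebra R A] [CommRing A'] [HopfAlgebra R A']

/-- A point of `Spec A'` over `E ⊗ A` is multiplicative when it is compatible with comultiplications. -/
def IsHomPoint (E : Type u) [CommRing E] [Algebra R E] (φ : A' →ₐ[R] E ⊗[R] A) : Prop :=
  ∀ c, Coalgebra.comul (R := E) (φ c) =
    Algebra.TensorProduct.productMap
      ((Algebra.TensorProduct.includeLeft : E ⊗[R] A →ₐ[R] (E ⊗[R] A) ⊗[E] (E ⊗[R] A)).comp φ)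
      (((Algebra.TensorProduct.includeRight : E ⊗[R] A →ₐ[E] (E ⊗[R] A) ⊗[E] (E ⊗[R] A)).restrictScalars R).comp φ)
      (Coalgebra.comul (R := R) c)

theorem distrib_eI_mul (E : Type u) [CommRing E] [Algebra R E] (v w : E ⊗[R] A) :
    TensorProduct.AlgebraTensorModule.distribBaseChange R E A A (eI1 R A E v * eI2 R A E w) = v ⊗ₜ[E] w := by
  induction v using TensorProduct.induction_on with
  | zero => simp
  | add p q hp hq => simp only [map_add, add_mul, hp, hq, TensorProduct.add_tmul]
  | tmul s a =>
    induction w using TensorProduct.induction_on with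
    | zero => simp
    | add p q hp hq => simp only [map_add, mul_add, hp, hq, TensorProduct.tmul_add]
    | tmul t b =>
      simp only [eI1, eI2, Algebra.TensorProduct.map_tmul, AlgHom.id_apply, Algebra.TensorProduct.includeLeft_apply,
        Algebra.TensorProduct.includeRight_apply, Algebra.TensorProduct.tmul_mul_tmul, mul_one, one_mul,
        TensorProduct.AlgebraTensorModule.distribBaseChange_tmul]
      rw [show (s * t) ⊗ₜ[R] a = t • (s ⊗ₜ[R] a) by rw [TensorProduct.smul_tmul', smul_eq_mul, mul_comm],
        TensorProduct.smul_tmul, TensorProduct.smul_tmul', smul_eq_mul, mul_one]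

theorem distrib_eD (E : Type u) [CommRing E] [Algebra R E] (v : E ⊗[R] A) :
    TensorProduct.AlgebraTensorModule.distribBaseChange R E A A (eD R A E v) = Coalgebra.comul (R := E) v := by
  induction v using TensorProduct.induction_on with
  | zero => simp
  | add p q hp hq => simp only [map_add, hp, hq]
  | tmul s a =>
    rw [TensorProduct.comul_tmul, CommSemiring.comul_apply]
    simp only [eD, Algebra.TensorProduct.map_tmul, AlgHom.id_apply, Bialgebra.comulAlgHom_apply]
    induction Coalgebra.comul (R := R) a using TensorProduct.induction_on with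
    | zero => simp
    | add p q hp hq => simp only [TensorProduct.tmul_add, map_add, hp, hq]
    | tmul p q =>
      rw [TensorProduct.AlgebraTensorModule.distribBaseChange_tmul,
        TensorProduct.AlgebraTensorModule.tensorTensorTensorComm_tmul]
      rw [show s ⊗ₜ[R] p = s • ((1 : E) ⊗ₜ[R] p) by rw [TensorProduct.smul_tmul', smul_eq_mul, mul_one],
        TensorProduct.smul_tmul, TensorProduct.smul_tmul', smul_eq_mul, mul_one]

theorem isChar_iff (E : Type u) [CommRing E] [Algebra R E] (φ : A' →ₐ[R] E ⊗[R] A) :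
    IsChar (G := (specGrp R A').X) (A := A) (pt (toConv φ)) ↔ IsHomPoint E φ := by
  let L := TensorProduct.AlgebraTensorModule.distribBaseChange R E A A
  have key : ∀ c, L ((toConv ((eI1 R A E).comp φ) * toConv ((eI2 R A E).comp φ)).ofConv c) =
      Algebra.TensorProduct.productMap
        ((Algebra.TensorProduct.includeLeft : E ⊗[R] A →ₐ[R] (E ⊗[R] A) ⊗[E] (E ⊗[R] A)).comp φ)
        (((Algebra.TensorProduct.includeRight : E ⊗[R] A →ₐ[E] (E ⊗[R] A) ⊗[E] (E ⊗[R] A)).restrictScalars R).comp φ)
        (Coalgebra.comul (R := R) c) := by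
    intro c
    rw [AlgHom.convMul_apply]
    induction Coalgebra.comul (R := R) c using TensorProduct.induction_on with
    | zero => simp
    | add p q hp hq => simp only [map_add, hp, hq]
    | tmul p q =>
      simp [L, distrib_eI_mul, Algebra.TensorProduct.tmul_mul_tmul]
  unfold IsChar IsHomPoint
  rw [spMap_pt, spMap_pt, spMap_pt, ← map_mul, (Spec.mapMulEquiv (R := R) (S := A')).injective.eq_iff]
  constructor
  · intro h c
    rw [← key, ← h, ← distrib_eD]
    rfl
  · intro h
    refine ofConv_injective (AlgHom.ext fun c => L.injective ?_)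
    rw [key, ← h, ← distrib_eD]
    rfl

theorem IsChar.comp {G G' : Over (Spec (CommRingCat.of R))} [GrpObj G] [GrpObj G'] {B : Type u} [CommRing B]
    [Algebra R B] {x : Pt G (B ⊗[R] A)} (hx : IsChar x) (u : G ⟶ G') [IsMonHom u] : IsChar (x ≫ u) := by
  unfold IsChar at *
  rw [← Category.assoc, hx, ← Category.assoc, ← Category.assoc, MonObj.mul_comp]

theorem IsChar.of_comp {G G' : Over (Spec (CommRingCat.of R))} [GrpObj G] [GrpObj G'] {B : Type u} [CommRing B]
    [Algebra R B] {x : Pt G (B ⊗[R] A)} (u : G ⟶ G') [IsMonHom u] [Mono u] (hx : IsChar (x ≫ u)) : IsChar x := by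
  unfold IsChar at *
  rw [← cancel_mono u, MonObj.mul_comp, Category.assoc, hx, Category.assoc, Category.assoc]

/-- The unit is the value of a character at the unit. -/
theorem IsChar.counit {G : Over (Spec (CommRingCat.of R))} [GrpObj G] {B : Type u} [CommRing B]
    [Algebra R B] {x : Pt G (B ⊗[R] A)} (hx : IsChar x) :
    spMap (Algebra.TensorProduct.productMap (AlgHom.id R B)
      ((Algebra.ofId R B).comp (Bialgebra.counitAlgHom R A))) ≫ x = 1 := by
  let e : B ⊗[R] A →ₐ[R] B := Algebra.TensorProduct.productMap (AlgHom.id R B)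
    ((Algebra.ofId R B).comp (Bialgebra.counitAlgHom R A))
  let e2 : W2 R A B →ₐ[R] B := Algebra.TensorProduct.productMap (AlgHom.id R B)
    (Algebra.TensorProduct.productMap ((Algebra.ofId R B).comp (Bialgebra.counitAlgHom R A))
      ((Algebra.ofId R B).comp (Bialgebra.counitAlgHom R A)))
  have h1 : e2.comp (eI1 R A B) = e := by ext <;> simp [e, e2, eI1]
  have h2 : e2.comp (eI2 R A B) = e := by ext <;> simp [e, e2, eI2]
  have h3 : e2.comp (eD R A B) = e := by
    refine Algebra.TensorProduct.ext ?_ ?_
    · ext b; simp [e, e2, eD]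
    · ext a
      have key : ∀ t : A ⊗[R] A, Algebra.TensorProduct.productMap ((Algebra.ofId R B).comp (Bialgebra.counitAlgHom R A))
          ((Algebra.ofId R B).comp (Bialgebra.counitAlgHom R A)) t =
          algebraMap R B (Coalgebra.counit (R := R) (TensorProduct.rid R A
            ((Coalgebra.counit (R := R)).lTensor A t))) := by
        intro t
        induction t using TensorProduct.induction_on with
        | zero => simp
        | add p q hp hq => simp only [map_add, hp, hq]
        | tmul p q =>
          simp only [Algebra.TensorProduct.productMap_apply_tmul, AlgHom.comp_apply, Bialgebra.counitAlgHom_apply,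
            Algebra.ofId_apply, LinearMap.lTensor_tmul, TensorProduct.rid_tmul, map_smul, smul_eq_mul, ← map_mul]
          rw [mul_comm]
      simp [e, e2, eD, key, Algebra.ofId_apply]
  have h4 := congrArg (fun p => spMap e2 ≫ p) hx
  simp only [MonObj.comp_mul, spMap_assoc, h1, h2, h3] at h4
  exact left_eq_mul.1 h4

theorem bA_eq_chStage {B B' : Type u} [CommRing B] [Algebra R B] [CommRing B'] [Algebra R B'] (g : B →ₐ[R] B')
    (z : B ⊗[R] A) : bA A g z = Groth.Agent.MultT.chStage g A z := rfl

/-- **Homomorphisms between groups of multiplicative type lift along nilpotent ideals**, on points. -/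
theorem exists_char_lift (hA : SGA3b.IsMultType R A) (hA' : SGA3b.IsMultType R A') (E : Type u) [CommRing E]
    [Algebra R E] (I : Ideal E) (hI : ∀ x ∈ I, IsNilpotent x) (φ : A' →ₐ[R] (E ⧸ I) ⊗[R] A)
    (hφ : IsChar (G := (specGrp R A').X) (A := A) (pt (toConv φ))) :
    ∃ ψ : A' →ₐ[R] E ⊗[R] A, IsChar (G := (specGrp R A').X) (A := A) (pt (toConv ψ)) ∧
      (bA A (Ideal.Quotient.mkₐ R I)).comp ψ = φ := by
  let E₁ := E ⧸ I
  have hφ' := (isChar_iff _ φ).1 hφ
  let F₀ : (E ⧸ I) ⊗[R] A' →ₐ[E ⧸ I] (E ⧸ I) ⊗[R] A :=
    Algebra.TensorProduct.lift (Algebra.ofId _ _) φ fun _ _ => Commute.all _ _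
  have hε := hφ.counit
  rw [spMap_pt] at hε
  have hε' : ∀ c, Coalgebra.counit (R := E ⧸ I) (φ c) = algebraMap R (E ⧸ I) (Coalgebra.counit (R := R) c) := by
    intro c
    have h1 := congrArg (fun f : WithConv (A' →ₐ[R] (E ⧸ I)) => f.ofConv c)
      ((Spec.mapMulEquiv (R := R) (S := A') (T := E ⧸ I)).injective (hε.trans (map_one _).symm))
    simp only [ofConv_toConv, AlgHom.comp_apply, AlgHom.convOne_apply] at h1
    refine Eq.trans ?_ h1
    induction φ c using TensorProduct.induction_on with
    | zero => simp
    | add p q hp hq => simp only [map_add, hp, hq]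
    | tmul e a => simp [Algebra.ofId_apply, Algebra.smul_def, mul_comm]
  let F : (E ⧸ I) ⊗[R] A' →ₐc[E ⧸ I] (E ⧸ I) ⊗[R] A :=
    BialgHom.ofAlgHom F₀ (Algebra.TensorProduct.ext (Subsingleton.elim _ _) (AlgHom.ext fun c => by
        simp [F₀, hε', Algebra.algebraMap_eq_smul_one]))
      (Algebra.TensorProduct.ext (Subsingleton.elim _ _) (AlgHom.ext fun c => by
        simp only [AlgHom.comp_apply, AlgHom.coe_restrictScalars', Algebra.TensorProduct.includeRight_apply,
          Bialgebra.comulAlgHom_apply, F₀, Algebra.TensorProduct.lift_tmul, map_one, one_mul]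
        rw [hφ' c, ← distrib_eD]
        simp only [eD, Algebra.TensorProduct.map_tmul, AlgHom.id_apply, Bialgebra.comulAlgHom_apply]
        induction Coalgebra.comul (R := R) c using TensorProduct.induction_on with
        | zero => simp
        | add p q hp hq => simp only [TensorProduct.tmul_add, map_add, hp, hq]
        | tmul p q =>
          rw [TensorProduct.AlgebraTensorModule.distribBaseChange_tmul]
          simp [Algebra.TensorProduct.tmul_mul_tmul, ← Algebra.TensorProduct.one_def]))
  let φ₀ : (E ⧸ I) ⊗[E] (E ⊗[R] A') →ₐc[E ⧸ I] (E ⧸ I) ⊗[E] (E ⊗[R] A) :=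
    ((Groth.Agent.MultT.bcTrans R E (E ⧸ I) A).symm : _ →ₐc[E ⧸ I] _).comp
      (F.comp (Groth.Agent.MultT.bcTrans R E (E ⧸ I) A' : _ →ₐc[E ⧸ I] _))
  obtain ⟨θ, hθ⟩ := Groth.Agent.MultT.exists_hom_lift_nil φ₀ hI
    (Groth.Agent.MultT.isMultType_baseChange hA E) (Groth.Agent.MultT.isMultType_baseChange hA' E)
  let ψ : A' →ₐ[R] E ⊗[R] A := ((θ : E ⊗[R] A' →ₐ[E] E ⊗[R] A).restrictScalars R).comp
    Algebra.TensorProduct.includeRight
  refine ⟨ψ, (isChar_iff _ ψ).2 fun c => ?_, AlgHom.ext fun c => ?_⟩
  · show Coalgebra.comul (R := E) (θ ((1 : E) ⊗ₜ[R] c)) = _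
    rw [← CoalgHomClass.map_comp_comul_apply θ, ← distrib_eD]
    simp only [eD, Algebra.TensorProduct.map_tmul, AlgHom.id_apply, Bialgebra.comulAlgHom_apply]
    induction Coalgebra.comul (R := R) c using TensorProduct.induction_on with
    | zero => simp
    | add p q hp hq => simp only [TensorProduct.tmul_add, map_add, hp, hq]
    | tmul p q =>
      rw [TensorProduct.AlgebraTensorModule.distribBaseChange_tmul]
      simp [ψ, Algebra.TensorProduct.tmul_mul_tmul]
  · have h1 := hθ ((1 : E) ⊗ₜ[R] c)
    have h2 := congrArg (Groth.Agent.MultT.bcTrans R E (E ⧸ I) A) h1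
    simp only [φ₀, BialgHom.comp_apply, BialgEquiv.coe_coe, BialgEquiv.apply_symm_apply] at h2
    simp only [Groth.Agent.MultT.bcTrans_one_tmul] at h2
    have h3 : Groth.Agent.MultT.chStage (IsScalarTower.toAlgHom R E (E ⧸ I)) A' ((1 : E) ⊗ₜ[R] c) =
        (1 : E ⧸ I) ⊗ₜ[R] c := by
      simp
    rw [h3] at h2
    have h4 : F ((1 : E ⧸ I) ⊗ₜ[R] c) = φ c := by
      show F₀ _ = _
      simp [F₀, ← Algebra.TensorProduct.one_def]
    rw [h4] at h2
    exact h2.symm

end Groth.Agent.MTBridge
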