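import Groth.Agent.MTBridge.ActTrivGeo
import Groth.Agent.MTBridge.ChartsAll
import Groth.Agent.MTBridge.CharLift
import Mathlib

/-!
# Subgroups of multiplicative type which agree modulo a nilpotent ideal
-/

set_option autoImplicit false
set_option linter.style.haveILetI false
set_option backward.isDefEq.respectTransparency false
set_option maxHeartbeats 1000000
set_option synthInstance.maxHeartbeats 400000

universe u

open CategoryTheory Limits MonoidalCategory CartesianMonoidalCategory AlgebraicGeometry TensorProduct Opposite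
open TopologicalSpace WithConv
open scoped CategoryTheory.Obj MonObj

noncomputable section

namespace Groth.Agent.MTBridge

/-- A multiplicative point over `E` gives a homomorphism of Hopf algebras over `E`. -/
theorem exists_bialgHom_of_isChar {R A A' : Type u} [CommRing R] [CommRing A] [HopfAlgebra R A] [CommRing A']
    [HopfAlgebra R A'] {E : Type u} [CommRing E] [Algebra R E] (φ : A' →ₐ[R] E ⊗[R] A)
    (hφ : IsChar (G := (specGrp R A').X) (A := A) (pt (toConv φ))) :
    ∃ F : E ⊗[R] A' →ₐc[E] E ⊗[R] A, ∀ c, F ((1 : E) ⊗ₜ c) = φ c := by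
  have hφ' := (isChar_iff _ φ).1 hφ
  let F₀ : E ⊗[R] A' →ₐ[E] E ⊗[R] A :=
    Algebra.TensorProduct.lift (Algebra.ofId _ _) φ fun _ _ => Commute.all _ _
  have hε := hφ.counit
  rw [spMap_pt] at hε
  have hε' : ∀ c, Coalgebra.counit (R := E) (φ c) = algebraMap R E (Coalgebra.counit (R := R) c) := by
    intro c
    have h1 := congrArg (fun f : WithConv (A' →ₐ[R] E) => f.ofConv c)
      ((Spec.mapMulEquiv (R := R) (S := A') (T := E)).injective (hε.trans (map_one _).symm))
    simp only [ofConv_toConv, AlgHom.comp_apply, AlgHom.convOne_apply] at h1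
    refine Eq.trans ?_ h1
    induction φ c using TensorProduct.induction_on with
    | zero => simp
    | add p q hp hq => simp only [map_add, hp, hq]
    | tmul e a => simp [Algebra.ofId_apply, Algebra.smul_def, mul_comm]
  refine ⟨BialgHom.ofAlgHom F₀ (Algebra.TensorProduct.ext (Subsingleton.elim _ _) (AlgHom.ext fun c => by
        simp [F₀, hε', Algebra.algebraMap_eq_smul_one]))
      (Algebra.TensorProduct.ext (Subsingleton.elim _ _) (AlgHom.ext fun c => by
        simp only [AlgHom.comp_apply, AlgHom.coe_restrictScalars', Algebra.TensorProduct.includeRight_apply,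
          Bialgebra.comulAlgHom_apply, F₀, Algebra.TensorProduct.lift_tmul, map_one, one_mul]
        rw [hφ' c, ← distrib_eD]
        simp only [eD, Algebra.TensorProduct.map_tmul, AlgHom.id_apply, Bialgebra.comulAlgHom_apply]
        induction Coalgebra.comul (R := R) c using TensorProduct.induction_on with
        | zero => simp
        | add p q hp hq => simp only [TensorProduct.tmul_add, map_add, hp, hq]
        | tmul p q =>
          rw [TensorProduct.AlgebraTensorModule.distribBaseChange_tmul]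
          simp [Algebra.TensorProduct.tmul_mul_tmul, ← Algebra.TensorProduct.one_def])), fun c => ?_⟩
  show F₀ _ = _
  simp [F₀, ← Algebra.TensorProduct.one_def]

/-- The morphism of groups of a homomorphism of Hopf algebras. -/
theorem exists_hom_of_bialgHom {R A B : Type u} [CommRing R] [CommRing A] [HopfAlgebra R A] [CommRing B]
    [HopfAlgebra R B] (f : B →ₐc[R] A) :
    ∃ u : (specGrp R A).X ⟶ (specGrp R B).X, IsMonHom u ∧
      u.left = Spec.map (CommRingCat.ofHom (f : B →ₐ[R] A).toRingHom) := by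
  let q : specGrp R A ⟶ specGrp R B :=
    (hopfSpec (CommRingCat.of R)).map (CommHopfAlgCat.ofHom (R := R) (X := B) (Y := A) f).op
  exact ⟨q.hom.hom, q.hom.isMonHom_hom, rfl⟩

section

variable {R : Type u} [CommRing R] (J : Ideal R) {G H H' : Over (Spec (CommRingCat.of R))}
  [GrpObj G] [GrpObj H] [GrpObj H'] (i : H ⟶ G) (i' : H' ⟶ G)

/-- `Spec (R/J)`. -/
abbrev qJ : Spec (CommRingCat.of (R ⧸ J)) ⟶ Spec (CommRingCat.of R) :=
  Spec.map (CommRingCat.ofHom (Ideal.Quotient.mk J))

/-- Subgroups which coincide over a closed subscheme have the same points there. -/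
theorem transfer (ψ : Red.bc (qJ J) H ⟶ Red.bc (qJ J) H')
    (hψ : ψ ≫ (Over.pullback (qJ J)).map i' = (Over.pullback (qJ J)).map i)
    (Y : Over (Spec (CommRingCat.of R))) (p : Y ⟶ Over.mk (qJ J)) (h : Y ⟶ H) :
    ∃ h' : Y ⟶ H', h' ≫ i' = h ≫ i := by
  obtain ⟨ε⟩ : Nonempty ((Over.map (qJ J)).obj (Over.mk p.left) ≅ Y) :=
    ⟨Over.isoMk (Iso.refl _) (by simpa using (Over.w p).symm)⟩
  refine ⟨ε.inv ≫ fromBC (qJ J) (toBC (qJ J) (ε.hom ≫ h) ≫ ψ), ?_⟩
  have key : fromBC (qJ J) (toBC (qJ J) (ε.hom ≫ h) ≫ ψ) ≫ i' = (ε.hom ≫ h) ≫ i := by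
    refine ((Over.mapPullbackAdj (qJ J)).homEquiv _ G).injective ?_
    show toBC (qJ J) _ = toBC (qJ J) _
    rw [toBC_comp, toBC_fromBC, Category.assoc, hψ, toBC_comp (G := G) (H := H)]
  rw [Category.assoc, key, Category.assoc, Iso.inv_hom_id_assoc]

/-- A lift of an identification over a nilpotent thickening. -/
theorem exists_hom_lift_sub (hJ : IsNilpotent J)
    (hH : TwC.Locally (Spec (CommRingCat.of R)) TwC.Topology.fpqc (fun S' f => ∃ (M : Type) (_ : AddCommGroup M),
      Nonempty (Grp.mk (Red.bc f H) ≅ Grp.mk (Red.DS S' M))))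
    (hH' : TwC.Locally (Spec (CommRingCat.of R)) TwC.Topology.fpqc (fun S' f => ∃ (M : Type) (_ : AddCommGroup M),
      Nonempty (Grp.mk (Red.bc f H') ≅ Grp.mk (Red.DS S' M))))
    [IsMonHom i] [IsMonHom i'] [Mono i'] (ψ : Red.bc (qJ J) H ⟶ Red.bc (qJ J) H')
    (hψ : ψ ≫ (Over.pullback (qJ J)).map i' = (Over.pullback (qJ J)).map i) :
    ∃ u : H ⟶ H', IsMonHom u ∧
      ∀ (Y : Over (Spec (CommRingCat.of R))) (_ : Y ⟶ Over.mk (qJ J)) (h : Y ⟶ H), h ≫ u ≫ i' = h ≫ i := by
  obtain ⟨A, _, _, hA, ⟨e⟩⟩ := exists_hopf_of_locally H hH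
  obtain ⟨B, _, _, hB, ⟨e'⟩⟩ := exists_hopf_of_locally H' hH'
  let j : (specGrp R A).X ⟶ G := e.inv.hom.hom ≫ i
  let j' : (specGrp R B).X ⟶ G := e'.inv.hom.hom ≫ i'
  haveI : IsMonHom j := inferInstanceAs (IsMonHom (e.inv.hom.hom ≫ i))
  haveI : IsMonHom j' := inferInstanceAs (IsMonHom (e'.inv.hom.hom ≫ i'))
  haveI : IsIso e'.inv.hom.hom := ((Grp.forget _).mapIso e').isIso_inv
  haveI : Mono j' := mono_comp _ _
  -- the universal point
  let T₀ : Type u := (R ⧸ J) ⊗[R] A
  let p₀ : (Spec (CommRingCat.of T₀)).asOver (Spec (CommRingCat.of R)) ⟶ Over.mk (qJ J) :=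
    Over.homMk (Spec.map (CommRingCat.ofHom (algebraMap (R ⧸ J) T₀))) (by
      show Spec.map (CommRingCat.ofHom (algebraMap (R ⧸ J) T₀)) ≫ Spec.map (CommRingCat.ofHom (Ideal.Quotient.mk J)) =
        Spec.map (CommRingCat.ofHom (algebraMap R T₀))
      rw [← Spec.map_comp, ← CommRingCat.ofHom_comp]
      rfl)
  let x₀ : Pt (specGrp R A).X T₀ := pt (toConv (Algebra.TensorProduct.includeRight : A →ₐ[R] T₀))
  obtain ⟨y, hy⟩ := transfer J i i' ψ hψ _ p₀ (x₀ ≫ e.inv.hom.hom)
  obtain ⟨φ, hφ⟩ := (Spec.mapMulEquiv (R := R) (S := B) (T := T₀)).surjective (y ≫ e'.hom.hom.hom)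
  have he' : e'.hom.hom.hom ≫ e'.inv.hom.hom = 𝟙 _ := ((Grp.forget _).mapIso e').hom_inv_id
  have hφj : pt φ ≫ j' = x₀ ≫ j := by
    rw [show pt φ = y ≫ e'.hom.hom.hom from hφ, Category.assoc, show e'.hom.hom.hom ≫ j' = i' from by
      simp only [j', reassoc_of% he'], hy, Category.assoc]
  have hchar : IsChar (G := (specGrp R B).X) (A := A) (pt (toConv φ.ofConv)) := by
    refine IsChar.of_comp j' ?_
    rw [show pt (toConv φ.ofConv) ≫ j' = x₀ ≫ j from hφj]
    exact isChar_universal j (R ⧸ J)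
  obtain ⟨F, hF⟩ := exists_bialgHom_of_isChar φ.ofConv hchar
  have hJn : ∀ x ∈ J, IsNilpotent x := fun x hx => by
    obtain ⟨n, hn⟩ := hJ
    refine ⟨n, ?_⟩
    have := Ideal.pow_mem_pow hx n
    rwa [hn, Ideal.zero_eq_bot, Ideal.mem_bot] at this
  obtain ⟨f, hf⟩ := Groth.Agent.MultT.exists_hom_lift_nil F hJn hA hB
  obtain ⟨u₀, hu₀, hu₀l⟩ := exists_hom_of_bialgHom f
  refine ⟨e.hom.hom.hom ≫ u₀ ≫ e'.inv.hom.hom,
    inferInstanceAs (IsMonHom (e.hom.hom.hom ≫ u₀ ≫ e'.inv.hom.hom)), fun Y p h => ?_⟩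
  have he : e.hom.hom.hom ≫ e.inv.hom.hom = 𝟙 _ := ((Grp.forget _).mapIso e).hom_inv_id
  have hu : x₀ ≫ u₀ = pt φ := by
    apply Over.OverMorphism.ext
    rw [Over.comp_left, hu₀l]
    show Spec.map _ ≫ Spec.map _ = Spec.map _
    rw [← Spec.map_comp, ← CommRingCat.ofHom_comp]
    refine congrArg (fun g => Spec.map (CommRingCat.ofHom g)) (RingHom.ext fun c => ?_)
    exact ((hF c).symm.trans (hf c)).symm
  -- every point factors through the universal one
  let k : Y.left ⟶ Spec (CommRingCat.of T₀) := pullback.lift p.left (h ≫ e.hom.hom.hom).left (by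
      show p.left ≫ _ = (h ≫ e.hom.hom.hom).left ≫ (specGrp R A).X.hom
      rw [Over.w]
      exact Over.w p) ≫ (pullbackSpecIso R (R ⧸ J) A).hom
  have hk1 : k ≫ x₀.left = (h ≫ e.hom.hom.hom).left := by
    show k ≫ Spec.map (CommRingCat.ofHom (Algebra.TensorProduct.includeRight : A →ₐ[R] T₀).toRingHom) = _
    simp only [k, Category.assoc]
    erw [pullbackSpecIso_hom_snd, pullback.lift_snd]
  let b : Y ⟶ (Spec (CommRingCat.of T₀)).asOver (Spec (CommRingCat.of R)) := Over.homMk k (by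
    show k ≫ _ = Y.hom
    rw [← Over.w x₀, ← Category.assoc, hk1]
    exact Over.w (h ≫ e.hom.hom.hom))
  have hb : b ≫ x₀ = h ≫ e.hom.hom.hom := Over.OverMorphism.ext hk1
  calc h ≫ (e.hom.hom.hom ≫ u₀ ≫ e'.inv.hom.hom) ≫ i'
      = (h ≫ e.hom.hom.hom) ≫ u₀ ≫ j' := by simp only [j', Category.assoc]
    _ = b ≫ (x₀ ≫ u₀) ≫ j' := by rw [← hb]; simp only [Category.assoc]
    _ = b ≫ x₀ ≫ j := by rw [hu, hφj]
    _ = h ≫ i := by rw [← Category.assoc, hb]; simp only [j, Category.assoc, reassoc_of% he]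

/-- A homomorphism from a group of multiplicative type which is trivial over a thickening is trivial. -/
theorem hom_eq_one (hJ : IsNilpotent J)
    (hH : TwC.Locally (Spec (CommRingCat.of R)) TwC.Topology.fpqc (fun S' f => ∃ (M : Type) (_ : AddCommGroup M),
      Nonempty (Grp.mk (Red.bc f H) ≅ Grp.mk (Red.DS S' M))))
    (d : H ⟶ G) [IsMonHom d]
    (h0 : ∀ (Y : Over (Spec (CommRingCat.of R))) (_ : Y ⟶ Over.mk (qJ J)) (h : Y ⟶ H), h ≫ d = 1) :
    d = 1 := by
  let a : AlgGrp.Action H G :=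
    { act := (fst H G ≫ d) * snd H G
      one_act := by
        simp [MonObj.comp_mul, whiskerRight_fst_assoc, IsMonHom.one_hom]
        rw [show fst (𝟙_ (Over (Spec (CommRingCat.of R)))) G = toUnit _ from toUnit_unique _ _, ← Hom.one_def]
        simp [leftUnitor_hom]
      mul_act := by
        simp [MonObj.comp_mul, whiskerRight_fst_assoc, IsMonHom.mul_hom]
        have e : tensorHom d d ≫ MonObj.mul (X := G) = (fst H H ≫ d) * (snd H H ≫ d) := by
          rw [Hom.mul_def]; congr 1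
        simp [e, MonObj.comp_mul, _root_.mul_assoc] }
  haveI : IsClosedImmersion (qJ J) := IsClosedImmersion.spec_of_surjective _ Ideal.Quotient.mk_surjective
  have hnil : ∀ x : Spec (CommRingCat.of R), ∃ U : (Spec (CommRingCat.of R)).affineOpens,
      x ∈ (U : (Spec (CommRingCat.of R)).Opens) ∧ IsNilpotent ((qJ J).ker.ideal U) := by
    intro x
    refine ⟨⟨⊤, isAffineOpen_top _⟩, trivial, ?_⟩
    obtain ⟨n, hn⟩ := hJ
    let σ := (Scheme.ΓSpecIso (CommRingCat.of R)).inv.hom
    have hle : (qJ J).ker.ideal ⟨⊤, isAffineOpen_top _⟩ ≤ J.map σ := by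
      intro r hr
      rw [Scheme.Hom.ker_apply] at hr
      have h1 : r = σ ((Scheme.ΓSpecIso (CommRingCat.of R)).hom.hom r) :=
        ((Scheme.ΓSpecIso (CommRingCat.of R)).commRingCatIsoToRingEquiv.symm_apply_apply r).symm
      rw [h1]
      refine Ideal.mem_map_of_mem _ (Ideal.Quotient.eq_zero_iff_mem.1 ?_)
      have h2 := congr($(Scheme.ΓSpecIso_naturality (CommRingCat.ofHom (Ideal.Quotient.mk J))) r)
      have h3 : (Scheme.Hom.app (qJ J) ⊤).hom r = 0 := hr
      exact h2.symm.trans ((congrArg _ h3).trans (map_zero (Scheme.ΓSpecIso (CommRingCat.of (R ⧸ J))).hom.hom))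
    exact ⟨n, le_bot_iff.1 ((pow_le_pow_left' hle n).trans (by rw [← Ideal.map_pow, hn, Ideal.zero_eq_bot, Ideal.map_bot]))⟩
  have key := act_trivial (qJ J) hnil H G hH a (fun Y p g x => by
    simp only [a, MonObj.comp_mul, lift_fst_assoc, lift_snd]
    rw [h0 Y p g, one_mul]) H (𝟙 H) 1
  simpa only [a, MonObj.comp_mul, lift_fst_assoc, lift_snd, Category.id_comp, mul_one] using key

end

end Groth.Agent.MTBridge
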