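import Groth.Agent.MTBridge.Centralizer
import Groth.Agent.MTBridge.SubEqNil
import Groth.Agent.MultT.AlgFP
import Mathlib

/-!
# Transporters of subgroups of multiplicative type
-/

set_option autoImplicit false
set_option linter.style.haveILetI false
set_option backward.isDefEq.respectTransparency false
set_option maxHeartbeats 800000
set_option synthInstance.maxHeartbeats 400000

universe u

open CategoryTheory Limits MonoidalCategory CartesianMonoidalCategory AlgebraicGeometry Opposite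
open scoped CategoryTheory.Obj MonObj

noncomputable section

namespace Groth.Agent.MTBridge

/-- Transporters of subgroups lift, affine base. -/
theorem exists_incl_lift_spec {R : Type u} [CommRing R] {H H' G : Over (Spec (CommRingCat.of R))} [GrpObj H]
    [GrpObj H'] [GrpObj G] {J : Ideal R} (hJ : J ^ 2 = ⊥)
    (hH : TwC.Locally (Spec (CommRingCat.of R)) TwC.Topology.fpqc (fun S' f => ∃ (M : Type) (_ : AddCommGroup M), Nonempty (Grp.mk (Red.bc f H) ≅ Grp.mk (Red.DS S' M))))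
    (hH' : TwC.Locally (Spec (CommRingCat.of R)) TwC.Topology.fpqc (fun S' f => ∃ (M : Type) (_ : AddCommGroup M), Nonempty (Grp.mk (Red.bc f H') ≅ Grp.mk (Red.DS S' M))))
    (hG : Smooth G.hom) (i : H ⟶ G) [IsMonHom i] (i' : H' ⟶ G) [IsMonHom i'] [Mono i']
    (g₀ : Over.mk (qJ J) ⟶ G)
    (h0 : ∀ (X : Over (Spec (CommRingCat.of R))) (p : X ⟶ Over.mk (qJ J)) (h : X ⟶ H),
      ∃ h' : X ⟶ H', (p ≫ g₀) * (h ≫ i) * (p ≫ g₀)⁻¹ = h' ≫ i') :
    ∃ g : 𝟙_ (Over (Spec (CommRingCat.of R))) ⟶ G, toUnit (Over.mk (qJ J)) ≫ g = g₀ ∧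
      ∀ (X : Over (Spec (CommRingCat.of R))) (h : X ⟶ H),
        ∃ h' : X ⟶ H', (toUnit X ≫ g) * (h ≫ i) * (toUnit X ≫ g)⁻¹ = h' ≫ i' := by
  haveI := hG
  obtain ⟨l, hl1, hl2⟩ := Groth.Agent.InfLift.isFormallySmoothHom_of_smooth G.hom R J hJ g₀.left (𝟙 _)
    (by rw [Category.comp_id]; exact (Over.w g₀).symm)
  let g' : 𝟙_ (Over (Spec (CommRingCat.of R))) ⟶ G := Over.homMk l hl2
  have hg' : toUnit (Over.mk (qJ J)) ≫ g' = g₀ := Over.OverMorphism.ext hl1
  haveI := isMonHom_conj i g'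
  let i₁ : H ⟶ G := (toUnit H ≫ g') * i * (toUnit H ≫ g')⁻¹
  have hi₁ : ∀ (X : Over (Spec (CommRingCat.of R))) (p : X ⟶ Over.mk (qJ J)) (h : X ⟶ H),
      h ≫ i₁ = (p ≫ g₀) * (h ≫ i) * (p ≫ g₀)⁻¹ := by
    intro X p h
    simp only [i₁, MonObj.comp_mul, GrpObj.comp_inv, ← Category.assoc, comp_toUnit]
    rw [← hg', ← Category.assoc, comp_toUnit]
  obtain ⟨ψ₀, hψ₀⟩ := h0 _ (mapToMk (qJ J) (Red.bc (qJ J) H)) (fromBC (qJ J) (𝟙 _))
  obtain ⟨v, hv, hvi⟩ := exists_hom_lift_sub J i₁ i' ⟨2, hJ⟩ hH hH' (toBC (qJ J) ψ₀) (by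
    apply ((Over.mapPullbackAdj (qJ J)).homEquiv _ G).symm.injective
    show fromBC (qJ J) _ = fromBC (qJ J) _
    rw [fromBC_comp_map, fromBC_toBC, ← Category.id_comp ((Over.pullback (qJ J)).map i₁), fromBC_comp_map,
      hi₁ _ (mapToMk (qJ J) _), hψ₀])
  haveI := hv
  obtain ⟨g, hg, hconj⟩ := exists_conj_nil (J := J) ⟨2, hJ⟩ hH hG i (v ≫ i') g₀ (fun X p h => by
    rw [hvi X p h, hi₁ X p h])
  exact ⟨g, hg, fun X h => ⟨h ≫ v, by rw [Category.assoc]; exact (hconj X h).symm⟩⟩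

variable {S : Scheme.{u}}

/-- Groups of multiplicative type of finite type are of finite presentation. -/
theorem locallyOfFinitePresentation_of_isMultTypeFT (H : Over S) [GrpObj H] (hH : SGA3x.IsMultTypeFT H) :
    LocallyOfFinitePresentation H.hom := by
  let 𝒰 := Scheme.openCoverOfIsOpenCover S (fun V : S.affineOpens => V.1) (iSup_affineOpens_eq_top S)
  refine IsZariskiLocalAtTarget.of_openCover 𝒰 fun V => ?_
  show LocallyOfFinitePresentation (pullback.snd H.hom V.1.ι)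
  haveI : IsAffine (V.1 : Scheme.{u}) := V.2
  obtain ⟨A, _, _, hA, hft, ⟨e⟩⟩ := exists_hopf (Red.bc V.2.fromSpec H) (isMultTypeFT_bc H V.2.fromSpec hH)
  haveI := hft
  haveI := Groth.Agent.MultT.finitePresentation_algebra hA
  have h1 : LocallyOfFinitePresentation (Spec.map (CommRingCat.ofHom (algebraMap Γ(S, V.1) A))) := by
    rw [HasRingHomProperty.Spec_iff (P := @LocallyOfFinitePresentation)]
    exact RingHom.finitePresentation_algebraMap.2 inferInstance
  haveI : IsIso e.hom.hom.hom.left :=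
    inferInstanceAs (IsIso ((Over.forget _).map ((Grp.forget _).map e.hom)))
  have h2 : LocallyOfFinitePresentation (pullback.snd H.hom V.2.fromSpec) := by
    rw [show pullback.snd H.hom V.2.fromSpec = e.hom.hom.hom.left ≫ Spec.map (CommRingCat.ofHom (algebraMap Γ(S, V.1) A))
      from (Over.w e.hom.hom.hom).symm]
    infer_instance
  let c : pullback H.hom V.1.ι ⟶ pullback H.hom V.2.fromSpec :=
    pullback.map H.hom V.1.ι H.hom V.2.fromSpec (𝟙 _) V.2.isoSpec.hom (𝟙 _) (by simp)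
      ((Category.comp_id _).trans V.2.isoSpec_hom_fromSpec.symm)
  haveI : IsIso c := pullback.map_isIso ..
  have hc : c ≫ pullback.snd H.hom V.2.fromSpec = pullback.snd H.hom V.1.ι ≫ V.2.isoSpec.hom := pullback.lift_snd _ _ _
  rw [show pullback.snd H.hom V.1.ι = c ≫ pullback.snd H.hom V.2.fromSpec ≫ V.2.isoSpec.inv by
    rw [← Category.assoc, hc, Category.assoc, Iso.hom_inv_id, Category.comp_id]]
  infer_instance

/-- Transporters of subgroups lift along square-zero extensions. -/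
theorem exists_transporterLE_lift {H H' G : Over S} [GrpObj H] [GrpObj H'] [GrpObj G]
    (hH : TwC.Locally S TwC.Topology.fpqc (fun S' f => ∃ (M : Type) (_ : AddCommGroup M), Nonempty (Grp.mk (Red.bc f H) ≅ Grp.mk (Red.DS S' M))))
    (hH' : TwC.Locally S TwC.Topology.fpqc (fun S' f => ∃ (M : Type) (_ : AddCommGroup M), Nonempty (Grp.mk (Red.bc f H') ≅ Grp.mk (Red.DS S' M))))
    (hG : Smooth G.hom) (i : H ⟶ G) [IsMonHom i] (i' : H' ⟶ G) [IsMonHom i'] [Mono i']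
    (A : Type u) [CommRing A] (I : Ideal A) (hI : I ^ 2 = ⊥) (b : Spec (CommRingCat.of A) ⟶ S)
    (g₀ : (Over.map b).obj (Over.mk (qJ I)) ⟶ G)
    (h0 : ∀ (X' : Over S) (x : X' ⟶ (Over.map b).obj (Over.mk (qJ I))) (h : X' ⟶ H),
      ∃ h' : X' ⟶ H', (x ≫ g₀) * (h ≫ i) * (x ≫ g₀)⁻¹ = h' ≫ i') :
    ∃ g : (Over.map b).obj (𝟙_ (Over (Spec (CommRingCat.of A)))) ⟶ G,
      (Over.map b).map (toUnit _) ≫ g = g₀ ∧
      ∀ (X' : Over S) (x : X' ⟶ (Over.map b).obj (𝟙_ (Over (Spec (CommRingCat.of A))))) (h : X' ⟶ H),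
        ∃ h' : X' ⟶ H', (x ≫ g) * (h ≫ i) * (x ≫ g)⁻¹ = h' ≫ i' := by
  obtain ⟨k, hk, hconj⟩ := exists_incl_lift_spec hI (locally_bc H b hH) (locally_bc H' b hH')
    (MorphismProperty.pullback_snd _ _ hG) ((Over.pullback b).map i) ((Over.pullback b).map i')
    (toBC b g₀) (fun X p h => by
      obtain ⟨h', hh'⟩ := h0 _ ((Over.map b).map p) (fromBC b h)
      refine ⟨toBC b h', ?_⟩
      apply ((Over.mapPullbackAdj b).homEquiv X G).symm.injective
      show fromBC b _ = fromBC b _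
      rw [fromBC_comp_map, fromBC_toBC, fromBC_mul, fromBC_mul, fromBC_inv, fromBC_comp_map, fromBC_comp, fromBC_toBC]
      exact hh')
  refine ⟨fromBC b k, ?_, fun X' x h => ?_⟩
  · rw [← fromBC_comp, hk, fromBC_toBC]
  · let ε : (Over.map b).obj (Over.mk x.left) ≅ X' := Over.isoMk (Iso.refl _) (by simpa using (Over.w x).symm)
    obtain ⟨h', hh'⟩ := hconj (Over.mk x.left) (toBC b (ε.hom ≫ h))
    have h1 := congrArg (fromBC b) hh'
    rw [fromBC_comp_map, fromBC_mul, fromBC_mul, fromBC_inv, fromBC_comp_map, fromBC_toBC,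
      fromBC_comp] at h1
    have h2 : (Over.map b).map (toUnit (Over.mk x.left)) = ε.hom ≫ x := by
      apply Over.OverMorphism.ext
      simp [ε]
    rw [h2] at h1
    refine ⟨ε.inv ≫ fromBC b h', (cancel_epi ε.hom).1 ?_⟩
    simp only [MonObj.comp_mul, GrpObj.comp_inv, Category.assoc, Iso.hom_inv_id_assoc] at h1 ⊢
    exact h1

/-- The transporter of one subgroup into another is closed and smooth. -/
theorem exists_transporterLE (H₁ H₂ G : Over S) [GrpObj H₁] [GrpObj H₂] [GrpObj G]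
    (hH₁ : SGA3x.IsMultTypeFT H₁) (hH₂ : SGA3x.IsMultTypeFT H₂) (hG : Smooth G.hom) (hGa : IsAffineHom G.hom)
    (i₁ : H₁ ⟶ G) [IsMonHom i₁] (i₂ : H₂ ⟶ G) [IsMonHom i₂] [Mono i₂] :
    ∃ (C : Over S) (c : C ⟶ G), IsClosedImmersion c.left ∧ LocallyOfFinitePresentation c.left ∧ Smooth C.hom ∧
      ∀ (X : Over S) (g : X ⟶ G), (∃ z : X ⟶ C, z ≫ c = g) ↔
        ∀ (X' : Over S) (x : X' ⟶ X) (h : X' ⟶ H₁), ∃ h' : X' ⟶ H₂,
          (x ≫ g) * (h ≫ i₁) * (x ≫ g)⁻¹ = h' ≫ i₂ := by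
  haveI := hG
  haveI := hGa
  haveI := isAffineHom H₁ hH₁
  haveI := isClosedImmersion_of_mono (locally_of_isMultTypeFT' H₂ hH₂) hGa i₂
  haveI : LocallyOfFinitePresentation i₂.left := by
    haveI : LocallyOfFinitePresentation (i₂.left ≫ G.hom) := by
      rw [Over.w i₂]; exact locallyOfFinitePresentation_of_isMultTypeFT H₂ hH₂
    exact Groth.Agent.LimDesc.lfp_of_comp i₂.left G.hom
  obtain ⟨T, j, hj, hjf, hT⟩ := exists_closed_transporter_incl
    (isEssentiallyFree H₁ (locally_of_isMultTypeFT' H₁ hH₁)) i₁ i₂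
  haveI := hj
  refine ⟨T, j, hj, hjf, smooth_of_lift j fun A _ I hI b g₀ h0 => ?_, hT⟩
  obtain ⟨g, hg, hg'⟩ := exists_transporterLE_lift (locally_of_isMultTypeFT' H₁ hH₁)
    (locally_of_isMultTypeFT' H₂ hH₂) hG i₁ i₂ A I hI b g₀ ((hT _ _).1 h0)
  exact ⟨g, hg, (hT _ _).2 hg'⟩

end Groth.Agent.MTBridge
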