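import Groth.Prelude.Def_SGA3x
import Groth.Agent.FinHopf.GrpScheme
import Groth.Agent.MultT.BaseChange
import Mathlib

/-!
# Affine group schemes and Hopf algebras: morphisms and base change
-/

set_option autoImplicit false
set_option linter.style.haveILetI false
set_option backward.isDefEq.respectTransparency.types false

universe u

open CategoryTheory Limits MonoidalCategory CartesianMonoidalCategory AlgebraicGeometry TensorProduct Opposite
open scoped CategoryTheory.Obj

noncomputable section

namespace Groth.Agent.MTBridge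

/-- Iterated base change of groups. -/
def bcComp {S S' S'' : Scheme.{u}} (f : S' ⟶ S) (g : S'' ⟶ S') (H : Over S) [GrpObj H] :
    Grp.mk (Red.bc (g ≫ f) H) ≅ Grp.mk (Red.bc g (Red.bc f H)) :=
  (Functor.mapGrpNatIso (Over.pullbackComp g f)).app (Grp.mk H) ≪≫
    (Functor.mapGrpCompIso (F := Over.pullback f) (G := Over.pullback g)).app (Grp.mk H)

/-- Base change of an isomorphism of groups. -/
def bcMapIso {S S' : Scheme.{u}} (f : S' ⟶ S) {H H' : Over S} [GrpObj H] [GrpObj H']
    (e : Grp.mk H ≅ Grp.mk H') : Grp.mk (Red.bc f H) ≅ Grp.mk (Red.bc f H') :=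
  (Over.pullback f).mapGrp.mapIso e

/-- Base change along equal morphisms. -/
def bcCongr {S S' : Scheme.{u}} {f f' : S' ⟶ S} (h : f = f') (H : Over S) [GrpObj H] :
    Grp.mk (Red.bc f H) ≅ Grp.mk (Red.bc f' H) :=
  eqToIso (by subst h; rfl)

/-- The spectrum of a Hopf algebra as a group. -/
abbrev specGrp (R A : Type u) [CommRing R] [CommRing A] [HopfAlgebra R A] :
    Grp (Over (Spec (CommRingCat.of R))) :=
  Grp.mk ((Spec (CommRingCat.of A)).asOver (Spec (CommRingCat.of R)))

/-- An isomorphism of bialgebras gives an isomorphism of groups. -/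
theorem nonempty_specGrp_iso {R A B : Type u} [CommRing R] [CommRing A] [HopfAlgebra R A] [CommRing B]
    [HopfAlgebra R B] (e : B ≃ₐc[R] A) : Nonempty (specGrp R A ≅ specGrp R B) :=
  ⟨(hopfSpec (CommRingCat.of R)).mapIso (CommHopfAlgCat.isoMk (R := R) (X := A) (Y := B) (e.symm)).op.symm⟩

/-- An isomorphism of groups comes from one of bialgebras. -/
theorem nonempty_bialgEquiv {R A B : Type u} [CommRing R] [CommRing A] [HopfAlgebra R A] [CommRing B]
    [HopfAlgebra R B] (e : specGrp R A ≅ specGrp R B) : Nonempty (B ≃ₐc[R] A) :=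
  ⟨CommHopfAlgCat.ofIso
    ((hopfSpec.fullyFaithful (R := CommRingCat.of R)).preimageIso
      (X := op (CommHopfAlgCat.of R A)) (Y := op (CommHopfAlgCat.of R B)) e).unop⟩

/-- Base change of the spectrum of a Hopf algebra. -/
theorem nonempty_bc_specGrp (R R' A : Type u) [CommRing R] [CommRing R'] [Algebra R R'] [CommRing A]
    [HopfAlgebra R A] :
    Nonempty (Grp.mk (Red.bc (Spec.map (CommRingCat.ofHom (algebraMap R R')))
      ((Spec (CommRingCat.of A)).asOver (Spec (CommRingCat.of R)))) ≅ specGrp R' (R' ⊗[R] A)) := by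
  let e := pullbackSymmetry _ _ ≪≫ pullbackSpecIso' R R' A
  let φ := e.hom.asOver (Spec (CommRingCat.of R'))
  haveI hφ : IsMonHom φ := inferInstance
  haveI : IsIso φ := by
    haveI : IsIso ((Over.forget _).map φ) := inferInstanceAs (IsIso e.hom)
    exact isIso_of_reflects_iso φ (Over.forget _)
  haveI : IsMonHom (asIso φ).hom := hφ
  let i : (Grp.mk ((pullback (Spec (CommRingCat.of A) ↘ Spec (CommRingCat.of R))
      (Spec (CommRingCat.of R') ↘ Spec (CommRingCat.of R))).asOver (Spec (CommRingCat.of R')))) ≅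
      specGrp R' (R' ⊗[R] A) := @Grp.mkIso' _ _ _ _ _ (asIso φ) _ _ hφ
  exact ⟨i⟩

end Groth.Agent.MTBridge
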