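import Groth.Agent.MTBridge.TransporterEq
import Mathlib.AlgebraicGeometry.Morphisms.FlatMono
import Mathlib

/-!
# Normalizers of subgroups of multiplicative type
-/

set_option autoImplicit false
set_option linter.style.haveILetI false
set_option backward.isDefEq.respectTransparency false
set_option maxHeartbeats 800000
set_option synthInstance.maxHeartbeats 400000

universe u

open CategoryTheory Limits MonoidalCategory CartesianMonoidalCategory AlgebraicGeometry Opposite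
open scoped CategoryTheory.Obj MonObj

noncomputable section

namespace Groth.Agent.MTBridge

variable {S : Scheme.{u}}

/-- The normalizer. -/
theorem exists_normalizer (H G : Over S) [GrpObj H] [GrpObj G] (hH : SGA3x.IsMultTypeFT H) (hG : Smooth G.hom)
    (hGa : IsAffineHom G.hom) (i : H ⟶ G) [IsMonHom i] [Mono i] :
    ∃ (N : Over S) (_ : GrpObj N) (j : N ⟶ G), Red.IsNormalizerOf i j ∧ IsClosedImmersion j.left ∧ Smooth N.hom := by
  obtain ⟨T, j, hj, hsm, hT⟩ := exists_transporterEq H H G hH hH hG hGa i i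
  haveI := hj
  haveI : Mono j := (Over.forget S).mono_of_mono_map (inferInstanceAs (Mono j.left))
  have hT' : ∀ (X : Over S) (g : X ⟶ G), (∃ z, z ≫ j = g) ↔ ∀ (X' : Over S) (x : X' ⟶ X) (h : X' ⟶ H),
      (∃ h' : X' ⟶ H, (x ≫ g) * (h ≫ i) * (x ≫ g)⁻¹ = h' ≫ i) ∧
      (∃ h' : X' ⟶ H, (x ≫ g)⁻¹ * (h ≫ i) * (x ≫ g) = h' ≫ i) := fun X g => (hT X g).trans
    ⟨fun h X' x a => ⟨(h X' x).1 a, (h X' x).2 a⟩, fun h X' x => ⟨fun a => (h X' x a).1, fun a => (h X' x a).2⟩⟩
  obtain ⟨hTg, hjm⟩ := exists_grpObj_of_div j ((hT' _ _).2 fun X' x a => by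
      rw [show x ≫ η[G] = (1 : X' ⟶ G) by rw [Hom.one_def, toUnit_unique (toUnit X') x]]
      exact ⟨⟨a, by simp⟩, ⟨a, by simp⟩⟩) (fun T' k₁ k₂ => (hT' _ _).2 fun X' x a => by
    have p₁ := (hT' _ (k₁ ≫ j)).1 ⟨k₁, rfl⟩ X' x
    have p₂ := (hT' _ (k₂ ≫ j)).1 ⟨k₂, rfl⟩ X' x
    simp only [MonObj.comp_mul, GrpObj.comp_inv, _root_.mul_inv_rev, _root_.inv_inv]
    constructor
    · obtain ⟨a', ha'⟩ := (p₂ a).1
      obtain ⟨a'', ha''⟩ := (p₁ a').2
      exact ⟨a'', by rw [← ha'', ← ha']; simp only [_root_.mul_assoc]⟩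
    · obtain ⟨a', ha'⟩ := (p₁ a).1
      obtain ⟨a'', ha''⟩ := (p₂ a').2
      exact ⟨a'', by rw [← ha'', ← ha']; simp only [_root_.mul_assoc]⟩)
  exact ⟨T, hTg, j, ⟨hjm, inferInstance, hT'⟩, hj, hsm⟩

/-- A normalizing point which centralizes modulo a square-zero ideal centralizes, affine base. -/
theorem centralizes_of_nil {R : Type u} [CommRing R] {H G : Over (Spec (CommRingCat.of R))} [GrpObj H] [GrpObj G]
    {J : Ideal R} (hJ : J ^ 2 = ⊥)
    (hH : TwC.Locally (Spec (CommRingCat.of R)) TwC.Topology.fpqc (fun S' f => ∃ (M : Type) (_ : AddCommGroup M), Nonempty (Grp.mk (Red.bc f H) ≅ Grp.mk (Red.DS S' M))))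
    (i : H ⟶ G) [IsMonHom i] [Mono i] (g : 𝟙_ (Over (Spec (CommRingCat.of R))) ⟶ G)
    (hn : ∀ (X : Over (Spec (CommRingCat.of R))) (h : X ⟶ H),
      ∃ h' : X ⟶ H, (toUnit X ≫ g) * (h ≫ i) * (toUnit X ≫ g)⁻¹ = h' ≫ i)
    (h0 : ∀ (X : Over (Spec (CommRingCat.of R))) (_ : X ⟶ Over.mk (qJ J)) (h : X ⟶ H),
      (toUnit X ≫ g) * (h ≫ i) * (toUnit X ≫ g)⁻¹ = h ≫ i) :
    ∀ (X : Over (Spec (CommRingCat.of R))) (h : X ⟶ H),
      (toUnit X ≫ g) * (h ≫ i) * (toUnit X ≫ g)⁻¹ = h ≫ i := by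
  obtain ⟨k, hk⟩ := hn H (𝟙 H)
  rw [Category.id_comp] at hk
  haveI := isMonHom_conj i g
  haveI : IsMonHom k := by
    haveI : IsMonHom (k ≫ i) := by rw [← hk]; infer_instance
    exact ⟨(cancel_mono i).1 (by rw [Category.assoc, IsMonHom.one_hom (f := k ≫ i), IsMonHom.one_hom (f := i)]),
      (cancel_mono i).1 (by
        rw [Category.assoc, IsMonHom.mul_hom (f := k ≫ i), Category.assoc, IsMonHom.mul_hom (f := i),
          ← tensorHom_comp_tensorHom, Category.assoc])⟩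
  have hk' : ∀ (X : Over (Spec (CommRingCat.of R))) (h : X ⟶ H),
      h ≫ k ≫ i = (toUnit X ≫ g) * (h ≫ i) * (toUnit X ≫ g)⁻¹ := by
    intro X h
    rw [← hk]
    simp only [MonObj.comp_mul, GrpObj.comp_inv, ← Category.assoc, comp_toUnit]
  have hk1 : k = 𝟙 H := endo_eq_id J ⟨2, hJ⟩ H hH k fun X p h => (cancel_mono i).1 (by
    rw [Category.assoc, hk', h0 X p h])
  intro X h
  rw [← hk', hk1, Category.id_comp]

/-- The centralizer is open and closed in the normalizer. -/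
theorem centralizer_clopen (H G Z N : Over S) [GrpObj H] [GrpObj G] [GrpObj Z] [GrpObj N]
    (hH : SGA3x.IsMultTypeFT H) (hG : Smooth G.hom) (hGa : IsAffineHom G.hom) (i : H ⟶ G) [IsMonHom i] [Mono i]
    (j : Z ⟶ G) (k : N ⟶ G) (hj : Red.IsCentralizerOf i j) (hk : Red.IsNormalizerOf i k) :
    ∃ f : Z ⟶ N, f ≫ k = j ∧ IsOpenImmersion f.left ∧ IsClosedImmersion f.left := by
  have hH' := locally_of_isMultTypeFT' H hH
  obtain ⟨-, hjmono, hjp⟩ := hj
  obtain ⟨-, hkmono, hkp⟩ := hk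
  haveI := hjmono
  haveI := hkmono
  obtain ⟨f, hf⟩ := (hkp Z j).2 fun X' x h => by
    have e := (hjp Z j).1 ⟨𝟙 Z, Category.id_comp j⟩ X' x h
    exact ⟨⟨h, by rw [e]; group⟩, ⟨h, by rw [_root_.mul_assoc, ← e]; group⟩⟩
  obtain ⟨Z₀, _, j₀, ⟨-, hj₀m, hj₀p⟩, hj₀c, hZ₀⟩ := exists_centralizer H G hH' hG hGa i
  obtain ⟨N₀, _, k₀, ⟨-, hk₀m, hk₀p⟩, hk₀c, hN₀⟩ := exists_normalizer H G hH hG hGa i
  haveI := hj₀m
  haveI := hk₀m
  obtain ⟨a, ha⟩ := (hj₀p Z j).2 ((hjp Z j).1 ⟨𝟙 Z, Category.id_comp j⟩)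
  obtain ⟨a', ha'⟩ := (hjp Z₀ j₀).2 ((hj₀p Z₀ j₀).1 ⟨𝟙 _, Category.id_comp j₀⟩)
  obtain ⟨c, hc⟩ := (hk₀p N k).2 ((hkp N k).1 ⟨𝟙 N, Category.id_comp k⟩)
  obtain ⟨c', hc'⟩ := (hkp N₀ k₀).2 ((hk₀p N₀ k₀).1 ⟨𝟙 _, Category.id_comp k₀⟩)
  haveI : IsIso a := ⟨a', (cancel_mono j).1 (by rw [Category.assoc, ha', ha, Category.id_comp]),
    (cancel_mono j₀).1 (by rw [Category.assoc, ha, ha', Category.id_comp])⟩
  haveI : IsIso c := ⟨c', (cancel_mono k).1 (by rw [Category.assoc, hc', hc, Category.id_comp]),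
    (cancel_mono k₀).1 (by rw [Category.assoc, hc, hc', Category.id_comp])⟩
  haveI : IsIso a.left := inferInstanceAs (IsIso ((Over.forget S).map a))
  haveI : IsIso c.left := inferInstanceAs (IsIso ((Over.forget S).map c))
  haveI : IsClosedImmersion j.left := by rw [← ha, Over.comp_left]; infer_instance
  haveI : IsClosedImmersion k.left := by rw [← hc, Over.comp_left]; infer_instance
  haveI : Smooth Z.hom := by rw [← Over.w a]; infer_instance
  haveI : Smooth N.hom := by rw [← Over.w c]; infer_instance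
  haveI : IsClosedImmersion f.left := by
    haveI : IsClosedImmersion (f.left ≫ k.left) := by rw [← Over.comp_left, hf]; infer_instance
    exact IsClosedImmersion.of_comp f.left k.left
  haveI : LocallyOfFinitePresentation f.left := by
    haveI : LocallyOfFinitePresentation (f.left ≫ N.hom) := by rw [Over.w f]; infer_instance
    exact Groth.Agent.LimDesc.lfp_of_comp f.left N.hom
  have hfs : Smooth f.left := by
    refine Groth.Agent.InfLift.smooth_of_isFormallySmoothHom f.left fun A _ I hI a b hab => ?_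
    let b' := b ≫ N.hom
    let n : (Over.map b').obj (𝟙_ (Over (Spec (CommRingCat.of A)))) ⟶ N := Over.homMk b (Category.id_comp _).symm
    let z₀ : (Over.map b').obj (Over.mk (qJ I)) ⟶ Z := Over.homMk a (by
      show a ≫ Z.hom = qJ I ≫ b'
      rw [← Over.w f, ← Category.assoc, ← hab, Category.assoc])
    have h0 : (Over.map b').map (toUnit (Over.mk (qJ I))) ≫ n = z₀ ≫ f := Over.OverMorphism.ext hab
    let gR : 𝟙_ (Over (Spec (CommRingCat.of A))) ⟶ Red.bc b' G := toBC b' (n ≫ k)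
    have hgR : ∀ (X : Over (Spec (CommRingCat.of A))), fromBC b' (toUnit X ≫ gR) =
        (Over.map b').map (toUnit X) ≫ n ≫ k := fun X => by rw [fromBC_comp, fromBC_toBC]
    have hcen := centralizes_of_nil hI (locally_bc H b' hH') ((Over.pullback b').map i) gR (fun X h => by
      obtain ⟨h', hh'⟩ := ((hkp _ (n ≫ k)).1 ⟨n, rfl⟩ _ ((Over.map b').map (toUnit X)) (fromBC b' h)).1
      refine ⟨toBC b' h', ?_⟩
      apply ((Over.mapPullbackAdj b').homEquiv X G).symm.injective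
      show fromBC b' _ = fromBC b' _
      rw [fromBC_mul, fromBC_mul, fromBC_inv, fromBC_comp_map, fromBC_comp_map, hgR, fromBC_toBC]
      exact hh') (fun X p h => by
      apply ((Over.mapPullbackAdj b').homEquiv X G).symm.injective
      show fromBC b' _ = fromBC b' _
      rw [fromBC_mul, fromBC_mul, fromBC_inv, fromBC_comp_map, hgR,
        show toUnit X = p ≫ toUnit (Over.mk (qJ I)) from toUnit_unique _ _, Functor.map_comp, Category.assoc,
        reassoc_of% h0, hf, mul_inv_eq_iff_eq_mul]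
      exact (hjp _ (z₀ ≫ j)).1 ⟨z₀, rfl⟩ _ ((Over.map b').map p) (fromBC b' h))
    obtain ⟨z, hz⟩ := (hjp _ (n ≫ k)).2 fun X' x h => by
      let ε : (Over.map b').obj (Over.mk x.left) ≅ X' := Over.isoMk (Iso.refl _) (by simpa using (Over.w x).symm)
      have h2 : (Over.map b').map (toUnit (Over.mk x.left)) = ε.hom ≫ x := by
        apply Over.OverMorphism.ext
        simp [ε]
      have h1 := congrArg (fromBC b') (hcen (Over.mk x.left) (toBC b' (ε.hom ≫ h)))
      rw [fromBC_mul, fromBC_mul, fromBC_inv, fromBC_comp_map, fromBC_toBC, hgR, h2] at h1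
      refine (cancel_epi ε.hom).1 ?_
      simp only [MonObj.comp_mul, Category.assoc] at h1 ⊢
      exact mul_inv_eq_iff_eq_mul.1 h1
    have hzf : z ≫ f = n := (cancel_mono k).1 (by rw [Category.assoc, hf, hz])
    have hzl : z.left ≫ f.left = b := congrArg (fun w => w.left) hzf
    exact ⟨z.left, (cancel_mono f.left).1 (by rw [Category.assoc, hzl]; exact hab), hzl⟩
  haveI := hfs
  exact ⟨f, hf, IsOpenImmersion.of_flat_of_mono f.left, inferInstance⟩

end Groth.Agent.MTBridge
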