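import Groth.Agent.MTBridge.CommNhd
import Groth.Agent.S5256
import Mathlib

/-!
# A homomorphism central on a connected fibre is central nearby
-/

set_option autoImplicit false
set_option linter.style.haveILetI false
set_option linter.unusedSectionVars false
set_option backward.isDefEq.respectTransparency false
set_option maxHeartbeats 1000000
set_option synthInstance.maxHeartbeats 400000

universe u

open CategoryTheory Limits MonoidalCategory CartesianMonoidalCategory AlgebraicGeometry TensorProduct Opposite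
open TopologicalSpace WithConv
open scoped CategoryTheory.Obj MonObj

noncomputable section

namespace Groth.Agent.MTBridge

variable {S : Scheme.{u}} {H G : Over S} [GrpObj H] [GrpObj G]

theorem geometricallyIrreducible_of_connectedSpace [LocallyOfFiniteType G.hom]
    (hconn : ∀ t : S, ConnectedSpace ↥(pullback G.hom (S.fromSpecResidueField t))) :
    GeometricallyIrreducible G.hom := by
  refine Groth.Agent.GrpField.geometricallyIrreducible_of_connected_fibres G fun t => ?_
  haveI : ConnectedSpace ↥(G.hom.fiber t) := hconn t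
  exact isConnected_iff_connectedSpace.2
    ((G.hom.fiberHomeo t).surjective.connectedSpace (G.hom.fiberHomeo t).continuous)

/-- A unit section of a group scheme. -/
theorem unit_hom_apply (G : Over S) [GrpObj G] (s : S) : G.hom ((1 : Over.mk (𝟙 S) ⟶ G).left s) = s := by
  rw [← Scheme.Hom.comp_apply, Over.w]
  rfl

theorem unit_range (G : Over S) [GrpObj G] (Y : Over S) (W : G.left.Opens)
    (h : Set.range Y.hom ⊆ (1 : Over.mk (𝟙 S) ⟶ G).left ⁻¹' W) :
    Set.range (1 : Y ⟶ G).left ⊆ (W : Set G.left) := by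
  have e : (Over.homMk Y.hom (Category.comp_id _) : Y ⟶ Over.mk (𝟙 S)) ≫ (1 : Over.mk (𝟙 S) ⟶ G) = 1 :=
    MonObj.comp_one _
  rw [← e, Over.comp_left]
  rintro _ ⟨y, rfl⟩
  exact h ⟨y, rfl⟩

/-- **S5295.** -/
theorem exists_central_nhd (hH : SGA3x.IsMultTypeFT H) [LocallyOfFinitePresentation G.hom] [QuasiCompact G.hom]
    [QuasiSeparated G.hom] (hconn : ∀ t : S, ConnectedSpace ↥(pullback G.hom (S.fromSpecResidueField t)))
    (u : H ⟶ G) [IsMonHom u] (s : S)
    (hs : ∀ (X : Over (Spec (S.residueField s))) (g : X ⟶ Red.bc (S.fromSpecResidueField s) G)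
      (h : X ⟶ Red.bc (S.fromSpecResidueField s) H),
      g * (h ≫ (Over.pullback (S.fromSpecResidueField s)).map u) =
        (h ≫ (Over.pullback (S.fromSpecResidueField s)).map u) * g) :
    ∃ U : S.Opens, s ∈ U ∧ ∀ (X : Over S) (_ : X ⟶ Over.mk U.ι) (g : X ⟶ G) (h : X ⟶ H),
      g * (h ≫ u) = (h ≫ u) * g := by
  haveI := geometricallyIrreducible_of_connectedSpace (G := G) hconn
  let e : Over.mk (𝟙 S) ⟶ G := 1
  obtain ⟨W, htW, hW⟩ := exists_comm_nhd hH u (e.left s) (by rw [show G.hom (e.left s) = s from unit_hom_apply G s]; exact hs)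
  let U : S.Opens := e.left ⁻¹ᵁ W
  have hgp : ∀ (K : Type u) [Field K] (w : Spec (CommRingCat.of K) ⟶ S), w (IsLocalRing.closedPoint K) ∈ U →
      ∀ (Y : Over S) (a : Y.left ⟶ Spec (CommRingCat.of K)), a ≫ w = Y.hom → ∀ (g : Y ⟶ G) (h : Y ⟶ H),
        g * (h ≫ u) = (h ≫ u) * g := fun K _ w hw Y a ha g h =>
    comm_fibre u W hW K w ⟨e.left (w (IsLocalRing.closedPoint K)), hw, unit_hom_apply G _⟩ Y a ha g h
  haveI : LocallyOfFinitePresentation (Red.bc U.ι G).hom := by
    show LocallyOfFinitePresentation (pullback.snd G.hom U.ι)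
    infer_instance
  haveI : QuasiCompact (Red.bc U.ι G).hom := by
    show QuasiCompact (pullback.snd G.hom U.ι)
    infer_instance
  haveI : QuasiSeparated (Red.bc U.ι G).hom := by
    show QuasiSeparated (pullback.snd G.hom U.ι)
    infer_instance
  have hc := Groth.Agent.S5256.result (Red.bc U.ι H) (Red.bc U.ι G) (isMultTypeFT_bc H U.ι hH)
    ((Over.pullback U.ι).map u) (fun t X g h => by
      let gt := (U : Scheme.{u}).fromSpecResidueField t
      obtain ⟨g₁, rfl⟩ := ((Over.mapPullbackAdj gt).homEquiv X (Red.bc U.ι G)).surjective g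
      obtain ⟨h₁, rfl⟩ := ((Over.mapPullbackAdj gt).homEquiv X (Red.bc U.ι H)).surjective h
      obtain ⟨g₂, rfl⟩ := ((Over.mapPullbackAdj U.ι).homEquiv ((Over.map gt).obj X) G).surjective g₁
      obtain ⟨h₂, rfl⟩ := ((Over.mapPullbackAdj U.ι).homEquiv ((Over.map gt).obj X) H).surjective h₁
      have h1 := hgp _ (gt ≫ U.ι) (by
        rw [Scheme.Hom.comp_apply]
        exact (congrArg (fun p => U.ι p ∈ U) (Scheme.fromSpecResidueField_apply t _)).mpr t.2) _ X.hom (Category.assoc _ _ _).symm g₂ h₂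
      show toBC gt (toBC U.ι g₂) * (toBC gt (toBC U.ι h₂) ≫ _) = (toBC gt (toBC U.ι h₂) ≫ _) * toBC gt (toBC U.ι g₂)
      rw [← toBC_comp gt, ← toBC_mul gt, ← toBC_mul gt, ← toBC_comp U.ι, ← toBC_mul U.ι, ← toBC_mul U.ι, h1])
  exact ⟨U, htW, fun X q g h => comm_of_factor U.ι u hc X q.left (Over.w q) g h⟩

end Groth.Agent.MTBridge
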