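import Groth.Agent.MTBridge.NormalizerMT
import Groth.Agent.SmSect.Basic
import Mathlib

/-!
# Homomorphisms and subgroups conjugate on geometric fibres are conjugate etale-locally
-/

set_option autoImplicit false
set_option linter.style.haveILetI false
set_option backward.isDefEq.respectTransparency false
set_option maxHeartbeats 800000
set_option synthInstance.maxHeartbeats 400000

universe u

open CategoryTheory Limits MonoidalCategory CartesianMonoidalCategory AlgebraicGeometry Opposite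
open scoped CategoryTheory.Obj MonObj

noncomputable section

namespace Groth.Agent.MTBridge

variable {S : Scheme.{u}}

theorem toBC_precomp {T : Scheme.{u}} (j : T ⟶ S) {X X' : Over T} {G : Over S} (b : X' ⟶ X)
    (a : (Over.map j).obj X ⟶ G) : toBC j ((Over.map j).map b ≫ a) = b ≫ toBC j a :=
  (Over.mapPullbackAdj j).homEquiv_naturality_left b a

theorem toBC_inv {T : Scheme.{u}} (j : T ⟶ S) {X : Over T} {G : Over S} [GrpObj G] (a : (Over.map j).obj X ⟶ G) :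
    toBC j a⁻¹ = (toBC j a)⁻¹ :=
  map_inv (MonoidHom.mk' (fun x : (Over.map j).obj X ⟶ G => toBC j x) (toBC_mul j)) a

theorem exists_toBC {T : Scheme.{u}} (j : T ⟶ S) {X : Over T} {G : Over S} (h : X ⟶ Red.bc j G) :
    ∃ a : (Over.map j).obj X ⟶ G, toBC j a = h :=
  ⟨((Over.mapPullbackAdj j).homEquiv X G).symm h, ((Over.mapPullbackAdj j).homEquiv X G).apply_symm_apply h⟩

/-- An etale neighbourhood with a point of a smooth scheme having a point over the geometric point. -/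
theorem exists_etale_point {T : Over S} [Smooth T.hom] (s : S) (t : Over.mk (Red.geomPt s) ⟶ T) :
    ∃ (S' : Scheme.{u}) (e : S' ⟶ S), Etale e ∧ s ∈ Set.range e.base ∧
      Nonempty ((Over.map e).obj (𝟙_ (Over S')) ⟶ T) := by
  let K := AlgebraicClosure (S.residueField s)
  let c : Spec (CommRingCat.of K) := IsLocalRing.closedPoint K
  obtain ⟨S', e, s', he, hs', h, hh⟩ := Groth.Agent.SmSect.exists_etale_section T.hom (t.left c)
  refine ⟨S', e, he, ⟨s', ?_⟩, ⟨Over.homMk h (by simpa using hh)⟩⟩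
  rw [hs']
  show (t.left ≫ T.hom) c = s
  rw [Over.w t]
  show (Spec.map _ ≫ S.fromSpecResidueField s) c = s
  rw [Scheme.Hom.comp_apply]
  exact S.fromSpecResidueField_apply s _

/-- Homomorphisms conjugate at a geometric point are conjugate on an etale neighbourhood. -/
theorem exists_etale_conj_hom (H G : Over S) [GrpObj H] [GrpObj G] (hH : SGA3x.IsMultTypeFT H) (hG : Smooth G.hom)
    (hGa : IsAffineHom G.hom) (u₁ u₂ : H ⟶ G) [IsMonHom u₁] [IsMonHom u₂] (s : S)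
    (hs : ∃ g : Over.mk (Red.geomPt s) ⟶ G, ∀ (X : Over S) (p : X ⟶ Over.mk (Red.geomPt s)) (h : X ⟶ H),
      h ≫ u₂ = (p ≫ g) * (h ≫ u₁) * (p ≫ g)⁻¹) :
    ∃ (S' : Scheme.{u}) (e : S' ⟶ S), Etale e ∧ s ∈ Set.range e.base ∧
      ∃ g : 𝟙_ (Over S') ⟶ Red.bc e G, ∀ (X : Over S') (h : X ⟶ Red.bc e H),
        h ≫ (Over.pullback e).map u₂ = (toUnit X ≫ g) * (h ≫ (Over.pullback e).map u₁) * (toUnit X ≫ g)⁻¹ := by
  have hH' := locally_of_isMultTypeFT' H hH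
  haveI := hG
  haveI := hGa
  haveI := isAffineHom H hH
  obtain ⟨T, j, hj, hjf, hT⟩ := exists_closed_transporter_hom (isEssentiallyFree H hH') u₁ u₂
  haveI := hj
  haveI : Smooth T.hom := smooth_of_lift j fun A _ I hI b g₀ h0 => by
    obtain ⟨g, hg, hg'⟩ := exists_transporter_lift hH' hG u₁ u₂ A I hI b g₀ ((hT _ _).1 h0)
    exact ⟨g, hg, (hT _ _).2 hg'⟩
  obtain ⟨g₀, hg₀⟩ := hs
  obtain ⟨t, -⟩ := (hT _ g₀).2 fun X x h => (hg₀ X x h).symm
  obtain ⟨S', e, he, hse, ⟨σ⟩⟩ := exists_etale_point s t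
  refine ⟨S', e, he, hse, toBC e (σ ≫ j), fun X h => ?_⟩
  obtain ⟨a, rfl⟩ := exists_toBC e h
  rw [← toBC_comp, ← toBC_comp, ← toBC_precomp, ← toBC_inv, ← toBC_mul, ← toBC_mul]
  exact congrArg (toBC e) (((hT _ (σ ≫ j)).1 ⟨σ, rfl⟩) _ ((Over.map e).map (toUnit X)) a).symm

/-- Subgroups conjugate at a geometric point are conjugate on an etale neighbourhood. -/
theorem exists_etale_conj_sub (H₁ H₂ G : Over S) [GrpObj H₁] [GrpObj H₂] [GrpObj G]
    (hH₁ : SGA3x.IsMultTypeFT H₁) (hH₂ : SGA3x.IsMultTypeFT H₂) (hG : Smooth G.hom) (hGa : IsAffineHom G.hom)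
    (i₁ : H₁ ⟶ G) [IsMonHom i₁] [Mono i₁] (i₂ : H₂ ⟶ G) [IsMonHom i₂] [Mono i₂] (s : S)
    (hs : ∃ g : Over.mk (Red.geomPt s) ⟶ G, ∀ (X : Over S) (p : X ⟶ Over.mk (Red.geomPt s)),
      (∀ a : X ⟶ H₁, ∃ b : X ⟶ H₂, (p ≫ g) * (a ≫ i₁) * (p ≫ g)⁻¹ = b ≫ i₂) ∧
      (∀ b : X ⟶ H₂, ∃ a : X ⟶ H₁, (p ≫ g)⁻¹ * (b ≫ i₂) * (p ≫ g) = a ≫ i₁)) :
    ∃ (S' : Scheme.{u}) (e : S' ⟶ S), Etale e ∧ s ∈ Set.range e.base ∧ ∃ g : 𝟙_ (Over S') ⟶ Red.bc e G,
      SGA3x.ConjBy ((Over.pullback e).map i₁) ((Over.pullback e).map i₂) g := by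
  obtain ⟨T, j, hj, hsm, hT⟩ := exists_transporterEq H₁ H₂ G hH₁ hH₂ hG hGa i₁ i₂
  haveI := hsm
  obtain ⟨g₀, hg₀⟩ := hs
  obtain ⟨t, -⟩ := (hT _ g₀).2 fun X x => hg₀ X x
  obtain ⟨S', e, he, hse, ⟨σ⟩⟩ := exists_etale_point s t
  refine ⟨S', e, he, hse, toBC e (σ ≫ j), ?_⟩
  have hc := (hT _ (σ ≫ j)).1 ⟨σ, rfl⟩
  have f1 : ∀ (X : Over S') (h : X ⟶ Red.bc e H₁), ∃ h' : X ⟶ Red.bc e H₂,
      (toUnit X ≫ toBC e (σ ≫ j)) * (h ≫ (Over.pullback e).map i₁) * (toUnit X ≫ toBC e (σ ≫ j))⁻¹ =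
        h' ≫ (Over.pullback e).map i₂ := by
    intro X h
    obtain ⟨a, rfl⟩ := exists_toBC e h
    obtain ⟨b, hb⟩ := (hc _ ((Over.map e).map (toUnit X))).1 a
    refine ⟨toBC e b, ?_⟩
    rw [← toBC_comp, ← toBC_comp, ← toBC_precomp, ← toBC_inv, ← toBC_mul, ← toBC_mul]
    exact congrArg (toBC e) hb
  have f2 : ∀ (X : Over S') (h : X ⟶ Red.bc e H₂), ∃ h' : X ⟶ Red.bc e H₁,
      (toUnit X ≫ toBC e (σ ≫ j))⁻¹ * (h ≫ (Over.pullback e).map i₂) * (toUnit X ≫ toBC e (σ ≫ j)) =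
        h' ≫ (Over.pullback e).map i₁ := by
    intro X h
    obtain ⟨a, rfl⟩ := exists_toBC e h
    obtain ⟨b, hb⟩ := (hc _ ((Over.map e).map (toUnit X))).2 a
    refine ⟨toBC e b, ?_⟩
    rw [← toBC_comp, ← toBC_comp, ← toBC_precomp, ← toBC_inv, ← toBC_mul, ← toBC_mul]
    exact congrArg (toBC e) hb
  generalize toBC e (σ ≫ j) = g at f1 f2
  obtain ⟨φ, hφ⟩ := f1 _ (𝟙 _)
  obtain ⟨ψ, hψ⟩ := f2 _ (𝟙 _)
  rw [Category.id_comp] at hφ hψ
  refine ⟨⟨φ, ψ, ?_, ?_⟩, hφ⟩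
  · refine (cancel_mono ((Over.pullback e).map i₁)).1 ?_
    rw [Category.assoc, ← hψ, Category.id_comp]
    simp only [MonObj.comp_mul, GrpObj.comp_inv, ← Category.assoc, comp_toUnit]
    rw [← hφ]
    group
  · refine (cancel_mono ((Over.pullback e).map i₂)).1 ?_
    rw [Category.assoc, ← hφ, Category.id_comp]
    simp only [MonObj.comp_mul, GrpObj.comp_inv, ← Category.assoc, comp_toUnit]
    rw [← hψ]
    group

end Groth.Agent.MTBridge
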