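import Groth.Agent.MTBridge.CentralNhd
import Groth.Agent.MultT.Basic2
import Mathlib

/-!
# A normal subgroup of multiplicative type of a group with connected fibres is central
-/

set_option autoImplicit false
set_option linter.style.haveILetI false
set_option linter.unusedSectionVars false
set_option backward.isDefEq.respectTransparency false
set_option maxHeartbeats 1000000
set_option synthInstance.maxHeartbeats 400000

universe u

open CategoryTheory Limits MonoidalCategory CartesianMonoidalCategory AlgebraicGeometry TensorProduct Opposite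
open TopologicalSpace WithConv
open scoped CategoryTheory.Obj MonObj

noncomputable section

namespace Groth.Agent.MTBridge

variable {S : Scheme.{u}} {H G : Over S} [GrpObj H] [GrpObj G]

/-- Centrality may be checked at points over fields. -/
theorem central_of_fibres (hH : SGA3x.IsMultTypeFT H) [LocallyOfFiniteType G.hom] (u : H ⟶ G) [IsMonHom u]
    (hcentral : ∀ (Y : Over S) (K : Type u) [Field K] (b : Y.left ⟶ Spec (CommRingCat.of K))
      (w : Spec (CommRingCat.of K) ⟶ S), b ≫ w = Y.hom → ∀ (p : Y ⟶ G) (q : Y ⟶ H),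
      p * (q ≫ u) = (q ≫ u) * p) : ∀ (X : Over S) (g : X ⟶ G) (h : X ⟶ H), g * (h ≫ u) = (h ≫ u) * g := by
  intro X g h
  apply Over.OverMorphism.ext
  refine hom_ext_fromSpecStalk _ _ fun t => ?_
  let T : Type u := X.left.presheaf.stalk t
  let m : Spec (CommRingCat.of T) ⟶ X.left := X.left.fromSpecStalk t
  let f : Spec (CommRingCat.of T) ⟶ S := m ≫ X.hom
  obtain ⟨V, hV, hxV, -⟩ := exists_isAffineOpen_mem_and_subset
    (x := f (IsLocalRing.closedPoint T)) (U := ⊤) trivial
  let R : Type u := Γ(S, V)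
  let j : Spec (CommRingCat.of R) ⟶ S := hV.fromSpec
  have hr : Set.range f ⊆ Set.range j := by
    rintro _ ⟨z, rfl⟩
    rw [show Set.range j = (V : Set S) from hV.range_fromSpec]
    exact ((IsLocalRing.specializes_closedPoint (z : PrimeSpectrum T)).map f.continuous).mem_open V.2 hxV
  let φ : R →+* T := (Spec.preimage (IsOpenImmersion.lift j f hr)).hom
  letI : Algebra R T := φ.toAlgebra
  have hφ : Spec.map (CommRingCat.ofHom (algebraMap R T)) ≫ j = f := by
    rw [RingHom.algebraMap_toAlgebra, CommRingCat.ofHom_hom, Spec.map_preimage, IsOpenImmersion.lift_fac]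
  obtain ⟨A, _, _, hA, hAf, ⟨e⟩⟩ := exists_hopf (Red.bc j H) (isMultTypeFT_bc H j hH)
  haveI := hAf
  haveI : LocallyOfFiniteType (Red.bc j G).hom := by
    show LocallyOfFiniteType (pullback.snd G.hom j)
    infer_instance
  let v : (specGrp R A).X ⟶ Red.bc j G := e.inv.hom.hom ≫ (Over.pullback j).map u
  haveI : IsMonHom v := inferInstanceAs (IsMonHom (e.inv.hom.hom ≫ (Over.pullback j).map u))
  let mX : (Over.map j).obj ((Spec (CommRingCat.of T)).asOver (Spec (CommRingCat.of R))) ⟶ X :=
    Over.homMk m hφ.symm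
  have hfib' : ∀ (K : Type u) [Field K] [Algebra R K] (T : Type u) [CommRing T] [Algebra R T] [Algebra K T]
      [IsScalarTower R K T] (p : Pt (Red.bc j G) T) (q : Pt (specGrp R A).X T),
      p * (q ≫ v) = (q ≫ v) * p := by
    intro K _ _ T _ _ _ _ p q
    let b := (Over.mapPullbackAdj j).homEquiv ((Spec (CommRingCat.of T)).asOver (Spec (CommRingCat.of R)))
    have h1 := hcentral _ K (Spec.map (CommRingCat.ofHom (algebraMap K T)))
      (Spec.map (CommRingCat.ofHom (algebraMap R K)) ≫ j) (by
        show Spec.map (CommRingCat.ofHom (algebraMap K T)) ≫ Spec.map (CommRingCat.ofHom (algebraMap R K)) ≫ j =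
          Spec.map (CommRingCat.ofHom (algebraMap R T)) ≫ j
        rw [← Category.assoc, ← Spec.map_comp, ← CommRingCat.ofHom_comp, ← IsScalarTower.algebraMap_eq])
      ((b G).symm p) ((b H).symm (q ≫ e.inv.hom.hom))
    have h2 := congrArg (toBC j) h1
    rw [toBC_mul, toBC_mul, toBC_comp] at h2
    simp only [toBC, b, Equiv.apply_symm_apply, Category.assoc] at h2
    exact h2
  have key := central_affine hA v hfib' (T := T) (toBC j (mX ≫ g)) (toBC j (mX ≫ h) ≫ e.hom.hom.hom)
  have he : e.hom.hom.hom ≫ e.inv.hom.hom = 𝟙 _ := ((Grp.forget _).mapIso e).hom_inv_id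
  simp only [v, Category.assoc, reassoc_of% he] at key
  rw [← toBC_comp, ← toBC_mul, ← toBC_mul] at key
  have key2 := ((Over.mapPullbackAdj j).homEquiv _ G).injective key
  rw [Category.assoc, ← MonObj.comp_mul, ← MonObj.comp_mul] at key2
  exact congrArg (fun w => w.left) key2

theorem mul_comm_pt {R A T : Type u} [CommRing R] [CommRing A] [HopfAlgebra R A] [CommRing T] [Algebra R T]
    (hA : SGA3b.IsMultType R A) (p q : Pt (specGrp R A).X T) : p * q = q * p := by
  haveI : Coalgebra.IsCocomm R A := Groth.Agent.MultT.isCocomm hA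
  obtain ⟨φ, rfl⟩ : ∃ φ, pt φ = p := (Spec.mapMulEquiv (R := R) (S := A) (T := T)).surjective p
  obtain ⟨ψ, rfl⟩ : ∃ ψ, pt ψ = q := (Spec.mapMulEquiv (R := R) (S := A) (T := T)).surjective q
  show Spec.mapMulEquiv φ * Spec.mapMulEquiv ψ = Spec.mapMulEquiv ψ * Spec.mapMulEquiv φ
  rw [← map_mul, ← map_mul, mul_comm]

/-- Points near the unit centralize a normal subgroup of multiplicative type. -/
theorem exists_nhd_unit (hH : SGA3x.IsMultTypeFT H) [LocallyOfFiniteType G.hom] (i : H ⟶ G) [IsMonHom i] [Mono i]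
    (hn : AlgGrp.IsNormalHom i) (s : S) :
    ∃ W : G.left.Opens, (1 : Over.mk (𝟙 S) ⟶ G).left s ∈ W ∧ ∀ (Y : Over S) (g : Y ⟶ G),
      Set.range g.left ⊆ (W : Set G.left) → ∀ h : Y ⟶ H, g * (h ≫ i) = (h ≫ i) * g := by
  let e₀ : Over.mk (𝟙 S) ⟶ G := 1
  let t : G.left := e₀.left s
  obtain ⟨V, hV, htV, -⟩ := exists_isAffineOpen_mem_and_subset (x := t) (U := ⊤) trivial
  let C : Type u := Γ(G.left, V)
  let cV : Spec (CommRingCat.of C) ⟶ G.left := hV.fromSpec
  obtain ⟨P', hP⟩ : t ∈ Set.range cV := by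
    rw [show Set.range cV = (V : Set G.left) from hV.range_fromSpec]; exact htV
  let P : PrimeSpectrum C := P'
  let j : Spec (CommRingCat.of C) ⟶ S := cV ≫ G.hom
  obtain ⟨A, _, _, hA, hAf, ⟨e⟩⟩ := exists_hopf (Red.bc j H) (isMultTypeFT_bc H j hH)
  haveI := hAf
  haveI : Module.Flat C A := Groth.Agent.MultT.flat hA
  let v : (specGrp C A).X ⟶ Red.bc j G := e.inv.hom.hom ≫ (Over.pullback j).map i
  haveI : IsMonHom v := inferInstanceAs (IsMonHom (e.inv.hom.hom ≫ (Over.pullback j).map i))
  haveI : Mono v := by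
    haveI : IsIso e.inv.hom.hom := inferInstanceAs (IsIso ((Grp.forget _).map e.inv))
    show Mono (e.inv.hom.hom ≫ (Over.pullback j).map i)
    infer_instance
  haveI : LocallyOfFiniteType (specGrp C A).X.hom := by
    show LocallyOfFiniteType (Spec.map (CommRingCat.ofHom (algebraMap C A)))
    exact (HasRingHomProperty.Spec_iff (P := @LocallyOfFiniteType)).2 (RingHom.finiteType_algebraMap.2 hAf)
  have he : e.hom.hom.hom ≫ e.inv.hom.hom = 𝟙 _ := ((Grp.forget _).mapIso e).hom_inv_id
  let B := Localization.AtPrime P.asIdeal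
  let q : Pt (specGrp C A).X (B ⊗[C] A) := pt (toConv Algebra.TensorProduct.includeRight)
  let x : Pt (Red.bc j G) (B ⊗[C] A) := q ≫ v
  let gB : Pt (Red.bc j G) (B ⊗[C] A) := spMap (inB C A B) ≫ spMap (Algebra.ofId C B) ≫ tautPoint cV
  -- the conjugate of the universal point
  let b := (Over.mapPullbackAdj j).homEquiv ((Spec (CommRingCat.of (B ⊗[C] A))).asOver (Spec (CommRingCat.of C)))
  obtain ⟨n', hn'⟩ := hn _ ((b G).symm gB) ((b H).symm (q ≫ e.inv.hom.hom))
  let z : Pt (specGrp C A).X (B ⊗[C] A) := toBC j n' ≫ e.hom.hom.hom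
  have hzv : z ≫ v = gB * x * gB⁻¹ := by
    rw [eq_mul_inv_iff_mul_eq]
    rw [mul_inv_eq_iff_eq_mul] at hn'
    have h2 := congrArg (toBC j) hn'
    rw [toBC_mul, toBC_mul, toBC_comp, toBC_comp] at h2
    simp only [toBC, b, Equiv.apply_symm_apply, Category.assoc] at h2
    simp only [z, v, Category.assoc, reassoc_of% he]
    exact h2.symm
  have hz : IsChar z := IsChar.of_comp v (by rw [hzv]; exact (isChar_universal v B).conj _)
  have hq : IsChar q := by
    have := isChar_universal (𝟙 (specGrp C A).X) B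
    rwa [Category.comp_id] at this
  -- the unit at the residue field of `s`
  let L : Type u := S.residueField s
  let l₀ : Spec (CommRingCat.of L) ⟶ G.left := S.fromSpecResidueField s ≫ e₀.left
  have hl₀ : ∀ p, l₀ p = t := fun p => by
    show (S.fromSpecResidueField s ≫ e₀.left) p = t
    rw [Scheme.Hom.comp_apply]
    exact congrArg (fun k => e₀.left k) (Scheme.fromSpecResidueField_apply s p)
  have hlr : Set.range l₀ ⊆ Set.range cV := by
    rintro _ ⟨p, rfl⟩
    rw [hl₀]; exact ⟨P', hP⟩
  let σ : C →+* L := (Spec.preimage (IsOpenImmersion.lift cV l₀ hlr)).hom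
  letI : Algebra C L := σ.toAlgebra
  have hσ : Spec.map (CommRingCat.ofHom (algebraMap C L)) ≫ cV = l₀ := by
    rw [RingHom.algebraMap_toAlgebra, CommRingCat.ofHom_hom, Spec.map_preimage, IsOpenImmersion.lift_fac]
  have hker : RingHom.ker (algebraMap C L) = P.asIdeal := by
    let cp : ↥(Spec (CommRingCat.of L)) := IsLocalRing.closedPoint L
    have h1 : cV ((Spec.map (CommRingCat.ofHom (algebraMap C L))) cp) = cV P' := by
      rw [← Scheme.Hom.comp_apply, hσ, hl₀, hP]
    have h2 : ((Spec.map (CommRingCat.ofHom (algebraMap C L))) cp : PrimeSpectrum C) = P :=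
      cV.isOpenEmbedding.injective h1
    rw [← h2]
    show RingHom.ker (algebraMap C L) = (IsLocalRing.maximalIdeal L).comap (algebraMap C L)
    rw [IsLocalRing.maximalIdeal_eq_bot]
    rfl
  let ψB : B →ₐ[C] L := IsLocalization.liftAlgHom (M := P.asIdeal.primeCompl) (f := Algebra.ofId C L) fun c =>
    isUnit_iff_ne_zero.2 fun h => c.2 (hker.le (RingHom.mem_ker.2 h))
  let κ := B ⧸ IsLocalRing.maximalIdeal B
  letI : Field (B ⧸ IsLocalRing.maximalIdeal B) := Ideal.Quotient.field _
  let ψ : κ →ₐ[C] L := Ideal.Quotient.liftₐ (IsLocalRing.maximalIdeal B) ψB fun a ha => by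
    by_contra hne
    have : IsUnit a := by
      obtain ⟨⟨c, d⟩, rfl⟩ := IsLocalization.mk'_surjective P.asIdeal.primeCompl a
      rw [IsLocalization.AtPrime.isUnit_mk'_iff B P.asIdeal]
      intro hc
      apply hne
      rw [IsLocalization.liftAlgHom_apply, IsLocalization.lift_mk'_spec]
      simpa using RingHom.mem_ker.1 (hker.ge hc)
    exact ha this
  have hinj : Function.Injective (bA A ψ) :=
    Module.Flat.rTensor_preserves_injective_linearMap (M := A) ψ.toLinearMap (RingHom.injective ψ.toRingHom)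
  have hgL : spMap (Algebra.ofId C L) ≫ tautPoint cV = 1 := by
    simp only [tautPoint, toBC]
    rw [← Adjunction.homEquiv_naturality_left]
    have h1 : (Over.map j).map (spMap (Algebra.ofId C L)) ≫
        (Over.homMk cV (by
          show cV ≫ G.hom = Spec.map (CommRingCat.ofHom (algebraMap C C)) ≫ cV ≫ G.hom
          rw [Algebra.algebraMap_self, CommRingCat.ofHom_id, Spec.map_id, Category.id_comp]) :
            (Over.map j).obj ((Spec (CommRingCat.of C)).asOver (Spec (CommRingCat.of C))) ⟶ G) = 1 := by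
      rw [← MonObj.comp_one (M := G)
        (Over.homMk (((Over.map j).obj ((Spec (CommRingCat.of L)).asOver (Spec (CommRingCat.of C)))).hom)
          (Category.comp_id _) : (Over.map j).obj ((Spec (CommRingCat.of L)).asOver (Spec (CommRingCat.of C))) ⟶
            Over.mk (𝟙 S))]
      apply Over.OverMorphism.ext
      show Spec.map (CommRingCat.ofHom (algebraMap C L)) ≫ cV =
        (Spec.map (CommRingCat.ofHom (algebraMap C L)) ≫ j) ≫ e₀.left
      simp only [j, ← Category.assoc, hσ, l₀]
      simp only [Category.assoc]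
      rw [show e₀.left ≫ G.hom ≫ e₀.left = e₀.left from by rw [← Category.assoc, Over.w e₀]; simp]
    rw [h1, Adjunction.homEquiv_unit, Functor.map_one, MonObj.comp_one]
  have hqz : q = z := by
    refine char_eq_local hA (Or.inl inferInstance) q z hq hz (fun L _ _ f _ p => mul_comm_pt hA _ _) ?_
    let mk : B →ₐ[C] κ := Ideal.Quotient.mkₐ C (IsLocalRing.maximalIdeal B)
    obtain ⟨φ, hφ⟩ : ∃ φ, pt φ = spMap (bA A mk) ≫ z :=
      (Spec.mapMulEquiv (R := C) (S := A) (T := κ ⊗[C] A)).surjective _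
    obtain ⟨φ', hφ'⟩ : ∃ φ, pt φ = spMap (bA A mk) ≫ q :=
      (Spec.mapMulEquiv (R := C) (S := A) (T := κ ⊗[C] A)).surjective _
    have h1 : spMap (bA A ψ) ≫ pt φ' = spMap (bA A ψ) ≫ pt φ := by
      rw [hφ, hφ', spMap_assoc, spMap_assoc, ← cancel_mono v, Category.assoc, Category.assoc, hzv,
        MonObj.comp_mul, MonObj.comp_mul, GrpObj.comp_inv]
      have h2 : spMap ((bA A ψ).comp (bA A mk)) ≫ gB = 1 := by
        simp only [gB, spMap_assoc]
        rw [show ((bA A ψ).comp (bA A mk)).comp ((inB C A B).comp (Algebra.ofId C B)) =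
          (inB C A L).comp (Algebra.ofId C L) from Subsingleton.elim _ _, ← spMap_assoc, hgL, MonObj.comp_one]
      rw [h2, inv_one, one_mul, mul_one]
    rw [spMap_pt, spMap_pt] at h1
    have h2 := (Spec.mapMulEquiv (R := C) (S := A) (T := L ⊗[C] A)).injective h1
    rw [← hφ', ← hφ]
    refine congrArg pt (ofConv_injective (AlgHom.ext fun a => hinj ?_))
    exact congrArg (fun k => k.ofConv a) h2
  have hxy : x = gB * x * gB⁻¹ := by rw [← hzv, ← hqz]
  obtain ⟨W, hW₁, hW₂⟩ := exists_nhd_of_local i cV P e hxy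
  exact ⟨W, (congrArg (fun k => k ∈ W) hP).mp hW₁, hW₂⟩

/-- **S5255.** -/
theorem normal_central (hH : SGA3x.IsMultTypeFT H) [LocallyOfFiniteType G.hom]
    (hconn : ∀ t : S, ConnectedSpace ↥(pullback G.hom (S.fromSpecResidueField t))) (i : H ⟶ G) [IsMonHom i] [Mono i]
    (hn : AlgGrp.IsNormalHom i) : ∀ (X : Over S) (g : X ⟶ G) (h : X ⟶ H), g * (h ≫ i) = (h ≫ i) * g := by
  haveI := geometricallyIrreducible_of_connectedSpace (G := G) hconn
  refine central_of_fibres hH i fun Y K _ b w hb p q => ?_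
  obtain ⟨W, hW₁, hW₂⟩ := exists_nhd_unit hH i hn (w (IsLocalRing.closedPoint K))
  exact comm_fibre i W hW₂ K w ⟨_, hW₁, unit_hom_apply G _⟩ Y b hb p q

end Groth.Agent.MTBridge
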