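import Groth.Agent.MTBridge.Hom
import Groth.Prelude.Def_Red2
import Groth.Agent.MultT.Basic2
import Mathlib

/-!
# No nontrivial homomorphisms from groups of multiplicative type to the additive group
-/

set_option autoImplicit false
set_option linter.style.haveILetI false
set_option backward.isDefEq.respectTransparency.types false
set_option maxHeartbeats 800000
set_option synthInstance.maxHeartbeats 400000

universe u

open CategoryTheory Limits MonoidalCategory CartesianMonoidalCategory AlgebraicGeometry TensorProduct Opposite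
open TopologicalSpace WithConv
open scoped CategoryTheory.Obj MonObj

noncomputable section

namespace Groth.Agent.MTBridge

open Groth.Agent.MultT

/-- A Hopf algebra of multiplicative type has no nonzero primitive elements. -/
theorem primitive_eq_zero {R A : Type u} [CommRing R] [CommRing A] [HopfAlgebra R A] (hA : SGA3b.IsMultType R A)
    (x : A) (hx : Coalgebra.comul (R := R) x = x ⊗ₜ 1 + 1 ⊗ₜ x) : x = 0 := by
  classical
  by_contra hne
  obtain ⟨m, hm, hle⟩ := Ideal.exists_le_maximal (Submodule.colon (⊥ : Submodule R A) ({x} : Set A))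
    (fun ht => hne (by
      have h1 : (1 : R) ∈ Submodule.colon (⊥ : Submodule R A) ({x} : Set A) := ht ▸ Submodule.mem_top
      simpa [Submodule.mem_colon_singleton] using h1))
  obtain ⟨c, hflat, q, hq, hqm⟩ := exists_charts hA m hm.isPrime
  have hcf : ∀ l : c.M, cfM c.S l (c.j x) = 0 := by
    intro l
    have h1 := congrArg (fun f : WithConv (A →ₗ[R] c.S) => f.ofConv x) (c.cf_mul_self l)
    simp only [LinearMap.convMul_apply, hx, map_add, TensorProduct.map_tmul, LinearMap.mul'_apply] at h1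
    have h2 : c.cf l (1 : A) = if (1 : c.M) = l then 1 else 0 := by
      rw [Chart.cf_apply, map_one, MonoidAlgebra.one_def, cfM_single]
    simp only [h2] at h1
    by_cases h : (1 : c.M) = l
    · simp only [if_pos h, mul_one, one_mul, Chart.cf_apply, add_eq_left] at h1
      exact h1
    · simp only [if_neg h, mul_zero, zero_mul, add_zero, Chart.cf_apply] at h1
      exact h1.symm
  have hj : c.j x = 0 := cfM_ext fun l => by rw [hcf, map_zero]
  have hzero : (1 : c.S) ⊗ₜ[R] x = 0 := c.bij.1 (by simp [hj])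
  obtain ⟨r, hr, hr0⟩ := exists_smul_eq_zero_of_tmul hzero q
  exact hr (hqm ▸ hle (Submodule.mem_colon_singleton.2 ((Submodule.mem_bot R).2 hr0)))

/-- A bialgebra map out of the base change of a symmetric algebra into a multiplicative type Hopf algebra is
trivial. -/
theorem bialgHom_sym_eq {Z R A P : Type u} [CommRing Z] [CommRing R] [Algebra Z R] [CommRing A] [HopfAlgebra R A]
    [AddCommGroup P] [Module Z P] (hA : SGA3b.IsMultType R A) (f : R ⊗[Z] SymmetricAlgebra Z P →ₐc[R] A) :
    (f : R ⊗[Z] SymmetricAlgebra Z P →ₐ[R] A) =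
      (Algebra.ofId R A).comp (Bialgebra.counitAlgHom R (R ⊗[Z] SymmetricAlgebra Z P)) := by
  letI : Algebra Z A := ((algebraMap R A).comp (algebraMap Z R)).toAlgebra
  haveI : IsScalarTower Z R A := .of_algebraMap_eq fun _ => rfl
  refine Algebra.TensorProduct.ext (AlgHom.ext fun r => ?_) (SymmetricAlgebra.algHom_ext (LinearMap.ext fun y => ?_))
  · show f (r ⊗ₜ[Z] 1) = algebraMap R A (Coalgebra.counit (R := R) (r ⊗ₜ[Z] (1 : SymmetricAlgebra Z P)))
    rw [show r ⊗ₜ[Z] (1 : SymmetricAlgebra Z P) = algebraMap R (R ⊗[Z] SymmetricAlgebra Z P) r from rfl,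
      Bialgebra.counit_algebraMap]
    exact AlgHomClass.commutes f r
  · show f ((1 : R) ⊗ₜ[Z] SymmetricAlgebra.ι Z P y) =
      algebraMap R A (Coalgebra.counit (R := R) ((1 : R) ⊗ₜ[Z] SymmetricAlgebra.ι Z P y))
    have hcu : Coalgebra.counit (R := Z) (SymmetricAlgebra.ι Z P y) = 0 := by simp
    rw [TensorProduct.counit_tmul, hcu, zero_smul, map_zero]
    refine primitive_eq_zero hA _ ?_
    rw [← CoalgHomClass.map_comp_comul_apply f, TensorProduct.comul_tmul,
      show Coalgebra.comul (R := Z) (SymmetricAlgebra.ι Z P y) =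
        SymmetricAlgebra.ι Z P y ⊗ₜ 1 + 1 ⊗ₜ SymmetricAlgebra.ι Z P y by simp]
    simp [TensorProduct.tmul_add, CommSemiring.comul_apply]
    rw [show f ((1 : R) ⊗ₜ[Z] (1 : SymmetricAlgebra Z P)) = 1 from map_one f]

/-- A homomorphism to an additive group over an affine base. -/
theorem eq_one_affine {Z R A P : Type u} [CommRing Z] [CommRing R] [Algebra Z R] [CommRing A] [HopfAlgebra R A]
    [AddCommGroup P] [Module Z P] (hA : SGA3b.IsMultType R A)
    {G : Over (Spec (CommRingCat.of R))} [GrpObj G]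
    (e : Grp.mk G ≅ Grp.mk (Red.bc (Spec.map (CommRingCat.ofHom (algebraMap Z R)))
      ((Spec (CommRingCat.of (SymmetricAlgebra Z P))).asOver (Spec (CommRingCat.of Z)))))
    (u : (specGrp R A).X ⟶ G) [IsMonHom u] : u = 1 := by
  obtain ⟨e'⟩ := nonempty_bc_specGrp Z R (SymmetricAlgebra Z P)
  let i : Grp.mk G ≅ specGrp R (R ⊗[Z] SymmetricAlgebra Z P) := e ≪≫ e'
  haveI : IsIso i.hom.hom.hom := inferInstanceAs (IsIso ((Grp.forget _).map i.hom))
  rw [← cancel_mono i.hom.hom.hom, MonObj.one_comp]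
  obtain ⟨f, hf⟩ := exists_bialgHom (u ≫ i.hom.hom.hom)
  apply Over.OverMorphism.ext
  rw [hf, bialgHom_sym_eq hA f]
  exact congrArg (fun x => x.left)
    (map_one (Spec.mapMulEquiv (R := R) (S := R ⊗[Z] SymmetricAlgebra Z P) (T := A)))

/-- **S8392.** -/
theorem eq_one_Ga (S : Scheme.{u}) (H : Over S) [GrpObj H] (hH : SGA3x.IsMultTypeFT H) (u : H ⟶ Red.Ga S)
    [IsMonHom u] : u = 1 := by
  refine hom_ext_affine u 1 fun V hV => ?_
  obtain ⟨A, _, _, hA, -, ⟨e⟩⟩ := exists_hopf (Red.bc hV.fromSpec H) (isMultTypeFT_bc H hV.fromSpec hH)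
  haveI : IsIso e.inv.hom.hom := inferInstanceAs (IsIso ((Grp.forget _).map e.inv))
  haveI : IsMonHom (e.inv.hom.hom ≫ (Over.pullback hV.fromSpec).map u) := inferInstance
  rw [show (Over.pullback hV.fromSpec).map (1 : H ⟶ Red.Ga S) = 1 from Functor.map_one _,
    ← cancel_epi e.inv.hom.hom, MonObj.comp_one]
  letI : Algebra (ULift.{u} ℤ) Γ(S, V) :=
    ((Int.castRingHom Γ(S, V)).comp (ULift.ringEquiv : ULift.{u} ℤ ≃+* ℤ).toRingHom).toAlgebra
  exact eq_one_affine (Z := ULift.{u} ℤ) (P := ULift.{u} ℤ) hA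
    ((bcComp (Limits.IsTerminal.from specULiftZIsTerminal S) hV.fromSpec Red.GaZ).symm ≪≫
      bcCongr (specULiftZIsTerminal.hom_ext _ _) Red.GaZ) _

end Groth.Agent.MTBridge
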