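import Groth.Agent.MTBridge.Spread
import Groth.Agent.MTBridge.TrivLocus
import Mathlib

/-!
# Two subgroups of multiplicative type equal on a fibre, one of which is central there, are equal nearby
-/

set_option autoImplicit false
set_option linter.style.haveILetI false
set_option linter.unusedSectionVars false
set_option backward.isDefEq.respectTransparency false
set_option maxHeartbeats 1000000
set_option synthInstance.maxHeartbeats 400000

universe u

open CategoryTheory Limits MonoidalCategory CartesianMonoidalCategory AlgebraicGeometry TensorProduct Opposite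
open TopologicalSpace WithConv
open scoped CategoryTheory.Obj MonObj

noncomputable section

namespace Groth.Agent.MTBridge

variable {S : Scheme.{u}} {G H₁ H₂ : Over S} [GrpObj G] [GrpObj H₁] [GrpObj H₂]

/-- A point of the first subgroup over a scheme over `T` is one of the second. -/
theorem factor_of_factor {T : Scheme.{u}} (g : T ⟶ S) (i₁ : H₁ ⟶ G) (i₂ : H₂ ⟶ G)
    (ψ : Red.bc g H₁ ⟶ Red.bc g H₂) (hψ : ψ ≫ (Over.pullback g).map i₂ = (Over.pullback g).map i₁)
    (Y : Over S) (a : Y.left ⟶ T) (ha : a ≫ g = Y.hom) (q : Y ⟶ H₁) : ∃ z : Y ⟶ H₂, z ≫ i₂ = q ≫ i₁ := by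
  obtain ⟨ε⟩ : Nonempty ((Over.map g).obj (Over.mk a) ≅ Y) := ⟨Over.isoMk (Iso.refl _) (by simpa using ha.symm)⟩
  let q' : Over.mk a ⟶ Red.bc g H₂ := toBC g (ε.hom ≫ q) ≫ ψ
  let z' := ((Over.mapPullbackAdj g).homEquiv (Over.mk a) H₂).symm q'
  refine ⟨ε.inv ≫ z', ?_⟩
  have h1 : toBC g (z' ≫ i₂) = toBC g ((ε.hom ≫ q) ≫ i₁) := by
    rw [toBC_comp g i₂ z', toBC_comp g i₁ (ε.hom ≫ q)]
    simp only [z', toBC, Equiv.apply_symm_apply, q', Category.assoc, hψ]
  have h2 := ((Over.mapPullbackAdj g).homEquiv (Over.mk a) G).injective h1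
  rw [Category.assoc, h2, Category.assoc, Iso.inv_hom_id_assoc]

/-- **Inclusion near a point.** -/
theorem exists_incl_nhd (hG : IsLocallyNoetherian S ∨ LocallyOfFiniteType G.hom) (h₁ : SGA3x.IsMultTypeFT H₁)
    (h₂ : SGA3x.IsMultTypeFT H₂) (i₁ : H₁ ⟶ G) [IsMonHom i₁] (i₂ : H₂ ⟶ G) [IsMonHom i₂] [IsImmersion i₂.left]
    (s : S) (hc : ∀ (X : Over (Spec (S.residueField s))) (g : X ⟶ Red.bc (S.fromSpecResidueField s) G)
      (h : X ⟶ Red.bc (S.fromSpecResidueField s) H₁),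
      g * (h ≫ (Over.pullback (S.fromSpecResidueField s)).map i₁) =
        (h ≫ (Over.pullback (S.fromSpecResidueField s)).map i₁) * g)
    (ψ : Red.bc (S.fromSpecResidueField s) H₁ ⟶ Red.bc (S.fromSpecResidueField s) H₂)
    (hψ : ψ ≫ (Over.pullback (S.fromSpecResidueField s)).map i₂ = (Over.pullback (S.fromSpecResidueField s)).map i₁) :
    ∃ U : S.Opens, s ∈ U ∧ ∀ (Y : Over S), Set.range Y.hom ⊆ (U : Set S) → ∀ q : Y ⟶ H₁,
      ∃ z : Y ⟶ H₂, z ≫ i₂ = q ≫ i₁ := by
  obtain ⟨V, hV, hsV, -⟩ := exists_isAffineOpen_mem_and_subset (x := s) (U := ⊤) trivial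
  let R : Type u := Γ(S, V)
  let j : Spec (CommRingCat.of R) ⟶ S := hV.fromSpec
  obtain ⟨p', hp⟩ : s ∈ Set.range j := by
    rw [show Set.range j = (V : Set S) from hV.range_fromSpec]; exact hsV
  let p : PrimeSpectrum R := p'
  obtain ⟨A, _, _, hA, hAf, ⟨e₁⟩⟩ := exists_hopf (Red.bc j H₁) (isMultTypeFT_bc H₁ j h₁)
  obtain ⟨A', _, _, hA', hAf', ⟨e₂⟩⟩ := exists_hopf (Red.bc j H₂) (isMultTypeFT_bc H₂ j h₂)
  haveI := hAf
  haveI := hAf'
  let v₁ : (specGrp R A).X ⟶ Red.bc j G := e₁.inv.hom.hom ≫ (Over.pullback j).map i₁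
  let v₂ : (specGrp R A').X ⟶ Red.bc j G := e₂.inv.hom.hom ≫ (Over.pullback j).map i₂
  haveI : IsMonHom v₁ := inferInstanceAs (IsMonHom (e₁.inv.hom.hom ≫ (Over.pullback j).map i₁))
  haveI : IsMonHom v₂ := inferInstanceAs (IsMonHom (e₂.inv.hom.hom ≫ (Over.pullback j).map i₂))
  haveI : IsImmersion v₂.left := by
    haveI : IsImmersion ((Over.pullback j).map i₂).left :=
      MorphismProperty.overPullbackMap j i₂ ‹IsImmersion i₂.left›
    haveI : IsIso e₂.inv.hom.hom.left :=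
      inferInstanceAs (IsIso ((Over.forget _).map ((Grp.forget _).map e₂.inv)))
    show IsImmersion (e₂.inv.hom.hom.left ≫ ((Over.pullback j).map i₂).left)
    infer_instance
  let B := Localization.AtPrime p.asIdeal
  have hlft : LocallyOfFiniteType G.hom → LocallyOfFiniteType (Red.bc j G).hom := fun h => by
    haveI := h
    show LocallyOfFiniteType (pullback.snd G.hom j)
    infer_instance
  have hnoeth : IsLocallyNoetherian S → IsNoetherianRing R := fun h => by
    haveI := h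
    exact IsLocallyNoetherian.component_noetherian ⟨V, hV⟩
  let κ := p.asIdeal.ResidueField
  let p'' : ↥(Spec (CommRingCat.of R)) := p
  let w : Spec (CommRingCat.of κ) ⟶ Spec (S.residueField (j p'')) :=
    Spec.map (Scheme.Spec.residueFieldIso (CommRingCat.of R) p'').hom ≫ Spec.map (j.residueFieldMap p'')
  have hw : w ≫ S.fromSpecResidueField (j p'') = Spec.map (CommRingCat.ofHom (algebraMap R κ)) ≫ j := by
    rw [Category.assoc, Scheme.Hom.SpecMap_residueFieldMap_fromSpecResidueField, ← Category.assoc]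
    congr 1
    rw [← Scheme.Spec.map_residueFieldIso_inv_eq_fromSpecResidueField, ← Spec.map_comp_assoc,
      Iso.inv_hom_id, Spec.map_id, Category.id_comp]
  subst hp
  have hfac : ∀ (T : Type u) [CommRing T] [Algebra R T] (φ : κ →ₐ[R] T),
      ∃ a : ((Over.map j).obj ((Spec (CommRingCat.of T)).asOver (Spec (CommRingCat.of R)))).left ⟶
          Spec (S.residueField (j p'')), a ≫ S.fromSpecResidueField (j p'') =
        ((Over.map j).obj ((Spec (CommRingCat.of T)).asOver (Spec (CommRingCat.of R)))).hom := by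
    intro T _ _ φ
    refine ⟨Spec.map (CommRingCat.ofHom φ.toRingHom) ≫ w, ?_⟩
    show (Spec.map (CommRingCat.ofHom φ.toRingHom) ≫ w) ≫ _ = Spec.map (CommRingCat.ofHom (algebraMap R T)) ≫ j
    rw [Category.assoc, hw, ← Category.assoc, ← Spec.map_comp, ← CommRingCat.ofHom_comp,
      show φ.toRingHom.comp (algebraMap R κ) = algebraMap R T from φ.comp_algebraMap]
  let b := fun (T : Type u) [CommRing T] [Algebra R T] =>
    (Over.mapPullbackAdj j).homEquiv ((Spec (CommRingCat.of T)).asOver (Spec (CommRingCat.of R)))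
  have he₁ : e₁.hom.hom.hom ≫ e₁.inv.hom.hom = 𝟙 _ := ((Grp.forget _).mapIso e₁).hom_inv_id
  have he₂ : e₂.hom.hom.hom ≫ e₂.inv.hom.hom = 𝟙 _ := ((Grp.forget _).mapIso e₂).hom_inv_id
  have hcomm : ∀ (T : Type u) [CommRing T] [Algebra R T] (φ : κ →ₐ[R] T) (g : Pt (Red.bc j G) T)
      (q : Pt (specGrp R A).X T), g * (q ≫ v₁) = (q ≫ v₁) * g := by
    intro T _ _ φ g q
    obtain ⟨a, ha⟩ := hfac T φ
    have h1 := comm_of_factor (S.fromSpecResidueField (j p'')) i₁ hc _ a ha ((b T G).symm g)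
      ((b T H₁).symm (q ≫ e₁.inv.hom.hom))
    have h2 := congrArg (toBC j) h1
    rw [toBC_mul, toBC_mul, toBC_comp] at h2
    simp only [toBC, b, Equiv.apply_symm_apply, Category.assoc] at h2
    exact h2
  have hincl : ∀ (T : Type u) [CommRing T] [Algebra R T] (φ : κ →ₐ[R] T) (q : Pt (specGrp R A).X T),
      InIm v₂ (q ≫ v₁) := by
    intro T _ _ φ q
    obtain ⟨a, ha⟩ := hfac T φ
    obtain ⟨z, hz⟩ := factor_of_factor (S.fromSpecResidueField (j p'')) i₁ i₂ ψ hψ _ a ha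
      ((b T H₁).symm (q ≫ e₁.inv.hom.hom))
    refine ⟨toBC j z ≫ e₂.hom.hom.hom, ?_⟩
    have h2 := congrArg (toBC j) hz
    rw [toBC_comp, toBC_comp] at h2
    simp only [toBC, b, Equiv.apply_symm_apply, Category.assoc] at h2
    simp only [v₁, v₂, Category.assoc, reassoc_of% he₂]
    exact h2.symm
  let x₀ : Pt (Red.bc j G) A := pt (toConv (AlgHom.id R A)) ≫ v₁
  let x : Pt (Red.bc j G) (B ⊗[R] A) := pt (toConv Algebra.TensorProduct.includeRight) ≫ v₁
  have hx₀ : ∀ (T : Type u) [CommRing T] [Algebra R T] (h : A →ₐ[R] T), spMap h ≫ x₀ = pt (toConv h) ≫ v₁ := by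
    intro T _ _ h
    rw [← Category.assoc, spMap_pt]
    simp only [ofConv_toConv, AlgHom.comp_id]
  have hx : InIm v₂ x := by
    refine char_factor_local hA hA' v₂ (hG.symm.imp hlft fun h => ?_) x (isChar_universal v₁ B)
      (fun L _ _ h hh g => ?_) ?_
    · haveI := hnoeth h
      exact IsLocalization.isNoetherianRing p.asIdeal.primeCompl B inferInstance
    · let φ : κ →ₐ[R] L := Ideal.Quotient.liftₐ (IsLocalRing.maximalIdeal B) (h.comp (inB R A B)) hh
      have := hcomm L φ g (spMap h ≫ pt (toConv Algebra.TensorProduct.includeRight))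
      rw [Category.assoc] at this
      exact this.symm
    · let φ : κ →ₐ[R] B ⧸ IsLocalRing.maximalIdeal B := { RingHom.id κ with commutes' := fun r => rfl }
      have := hincl ((B ⧸ IsLocalRing.maximalIdeal B) ⊗[R] A) ((inB R A (B ⧸ IsLocalRing.maximalIdeal B)).comp φ)
        (spMap (bA A (Ideal.Quotient.mkₐ R (IsLocalRing.maximalIdeal B))) ≫
          pt (toConv Algebra.TensorProduct.includeRight))
      rwa [Category.assoc] at this
  obtain ⟨g, hg, hzg⟩ := exists_away_factor v₂ x₀ (hG.symm.imp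
    (fun h => by haveI := hlft h; exact lfp_left hA' v₂)
    fun h => by haveI := hnoeth h; exact Algebra.FiniteType.isNoetherianRing R A) p.asIdeal
    (by rw [hx₀]; exact hx)
  obtain ⟨z₀, hz₀⟩ := hzg
  refine ⟨j ''ᵁ PrimeSpectrum.basicOpen g, ⟨p, hg, rfl⟩, fun Y hY q => ?_⟩
  let Ag := Localization.Away (algebraMap R A g)
  have hYj : Set.range Y.hom ⊆ Set.range j := hY.trans (Set.image_subset_range _ _)
  let l := IsOpenImmersion.lift j Y.hom hYj
  have hl : l ≫ j = Y.hom := IsOpenImmersion.lift_fac _ _ _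
  obtain ⟨ε⟩ : Nonempty ((Over.map j).obj (Over.mk l) ≅ Y) := ⟨Over.isoMk (Iso.refl _) (by simpa using hl.symm)⟩
  let qA : Over.mk l ⟶ (specGrp R A).X := toBC j (ε.hom ≫ q) ≫ e₁.hom.hom.hom
  let c : Spec (CommRingCat.of Ag) ⟶ Spec (CommRingCat.of A) := Spec.map (CommRingCat.ofHom (algebraMap A Ag))
  haveI : IsOpenImmersion c := IsOpenImmersion.of_isLocalization (algebraMap R A g)
  have hrg : Set.range qA.left ⊆ Set.range c := by
    rintro _ ⟨y, rfl⟩
    rw [show Set.range c = (PrimeSpectrum.basicOpen (algebraMap R A g) : Set (PrimeSpectrum A)) from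
      PrimeSpectrum.localization_away_comap_range Ag (algebraMap R A g)]
    obtain ⟨r, hr, hry⟩ := hY ⟨y, rfl⟩
    have h1 : (qA.left ≫ Spec.map (CommRingCat.ofHom (algebraMap R A))) y = l y :=
      congrArg (fun m => m y) (Over.w qA)
    have h2 : l y = r := j.isOpenEmbedding.injective (by
      rw [← Scheme.Hom.comp_apply, hl]; exact hry.symm)
    intro hmem
    have h3 : g ∈ (l y : PrimeSpectrum R).asIdeal := by rw [← h1]; exact hmem
    rw [h2] at h3
    exact hr h3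
  let n := IsOpenImmersion.lift c qA.left hrg
  have hn : n ≫ c = qA.left := IsOpenImmersion.lift_fac _ _ _
  let qg : Over.mk l ⟶ (Spec (CommRingCat.of Ag)).asOver (Spec (CommRingCat.of R)) :=
    Over.homMk n (by
      show n ≫ Spec.map (CommRingCat.ofHom (algebraMap R Ag)) = l
      rw [IsScalarTower.algebraMap_eq R A Ag, CommRingCat.ofHom_comp, Spec.map_comp, ← Category.assoc, hn]
      exact Over.w qA)
  have hqg : qg ≫ spMap (IsScalarTower.toAlgHom R A Ag) = qA := Over.OverMorphism.ext hn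
  let z₁ := (qg ≫ z₀) ≫ e₂.inv.hom.hom
  refine ⟨ε.inv ≫ ((Over.mapPullbackAdj j).homEquiv (Over.mk l) H₂).symm z₁, ?_⟩
  have hid : pt (toConv (AlgHom.id R A)) = 𝟙 (specGrp R A).X := by
    apply Over.OverMorphism.ext
    rw [pt_left]
    show Spec.map (CommRingCat.ofHom (RingHom.id A)) = _
    rw [CommRingCat.ofHom_id, Spec.map_id]
    rfl
  have h1 : toBC j (((Over.mapPullbackAdj j).homEquiv (Over.mk l) H₂).symm z₁ ≫ i₂) =
      toBC j ((ε.hom ≫ q) ≫ i₁) := by
    rw [toBC_comp, toBC_comp, show toBC j (((Over.mapPullbackAdj j).homEquiv (Over.mk l) H₂).symm z₁) = z₁ from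
      Equiv.apply_symm_apply _ _]
    show ((qg ≫ z₀) ≫ e₂.inv.hom.hom) ≫ (Over.pullback j).map i₂ = _
    rw [Category.assoc, Category.assoc]
    rw [show z₀ ≫ e₂.inv.hom.hom ≫ (Over.pullback j).map i₂ =
      spMap (IsScalarTower.toAlgHom R A Ag) ≫ x₀ from hz₀.symm]
    rw [← Category.assoc, hqg]
    simp only [x₀, qA, v₁, hid, Category.id_comp, Category.assoc, reassoc_of% he₁]
  have h2 := ((Over.mapPullbackAdj j).homEquiv (Over.mk l) G).injective h1
  rw [Category.assoc, h2, Category.assoc, Iso.inv_hom_id_assoc]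

/-- A point of the base change coming from the identity. -/
theorem exists_bc_hom {T : Scheme.{u}} (j : T ⟶ S) (i₁ : H₁ ⟶ G) (i₂ : H₂ ⟶ G)
    (h : ∀ (Y : Over S), Set.range Y.hom ⊆ Set.range j → ∀ q : Y ⟶ H₁, ∃ z : Y ⟶ H₂, z ≫ i₂ = q ≫ i₁) :
    ∃ ψ : Red.bc j H₁ ⟶ Red.bc j H₂, ψ ≫ (Over.pullback j).map i₂ = (Over.pullback j).map i₁ := by
  let q : (Over.map j).obj (Red.bc j H₁) ⟶ H₁ := ((Over.mapPullbackAdj j).homEquiv _ _).symm (𝟙 _)
  obtain ⟨z, hz⟩ := h _ (by
    show Set.range ((Red.bc j H₁).hom ≫ j) ⊆ _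
    rintro _ ⟨y, rfl⟩
    exact ⟨(Red.bc j H₁).hom y, rfl⟩) q
  refine ⟨toBC j z, ?_⟩
  rw [← toBC_comp, hz, toBC_comp, show toBC j q = 𝟙 _ from Equiv.apply_symm_apply _ _, Category.id_comp]

/-- **Two subgroups of multiplicative type which are equal on a fibre, central there, are equal near it.** -/
theorem exists_iso_nhd (hG : IsLocallyNoetherian S ∨ LocallyOfFiniteType G.hom) (h₁ : SGA3x.IsMultTypeFT H₁)
    (h₂ : SGA3x.IsMultTypeFT H₂) (i₁ : H₁ ⟶ G) [IsMonHom i₁] [IsImmersion i₁.left] (i₂ : H₂ ⟶ G) [IsMonHom i₂]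
    [IsImmersion i₂.left] (s : S)
    (hc : ∀ (X : Over (Spec (S.residueField s))) (g : X ⟶ Red.bc (S.fromSpecResidueField s) G)
      (h : X ⟶ Red.bc (S.fromSpecResidueField s) H₁),
      g * (h ≫ (Over.pullback (S.fromSpecResidueField s)).map i₁) =
        (h ≫ (Over.pullback (S.fromSpecResidueField s)).map i₁) * g)
    (hs : ∃ ψ : Red.bc (S.fromSpecResidueField s) H₁ ≅ Red.bc (S.fromSpecResidueField s) H₂,
      ψ.hom ≫ (Over.pullback (S.fromSpecResidueField s)).map i₂ = (Over.pullback (S.fromSpecResidueField s)).map i₁) :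
    ∃ U : S.Opens, s ∈ U ∧ ∃ ψ : Red.bc U.ι H₁ ≅ Red.bc U.ι H₂,
      ψ.hom ≫ (Over.pullback U.ι).map i₂ = (Over.pullback U.ι).map i₁ := by
  obtain ⟨ψ, hψ⟩ := hs
  have hinv : ψ.inv ≫ (Over.pullback (S.fromSpecResidueField s)).map i₁ =
      (Over.pullback (S.fromSpecResidueField s)).map i₂ := by rw [← hψ, Iso.inv_hom_id_assoc]
  obtain ⟨U₁, hs₁, hU₁⟩ := exists_incl_nhd hG h₁ h₂ i₁ i₂ s hc ψ.hom hψ
  obtain ⟨U₂, hs₂, hU₂⟩ := exists_incl_nhd hG h₂ h₁ i₂ i₁ s (fun X g h => by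
    rw [← hinv, ← Category.assoc]
    exact hc X g (h ≫ ψ.inv)) ψ.inv hinv
  refine ⟨U₁ ⊓ U₂, ⟨hs₁, hs₂⟩, ?_⟩
  let U := U₁ ⊓ U₂
  have hU : Set.range U.ι = (U : Set S) := Scheme.Opens.range_ι U
  obtain ⟨a, ha⟩ := exists_bc_hom U.ι i₁ i₂ fun Y hY q =>
    hU₁ Y (hY.trans (hU.le.trans Set.inter_subset_left)) q
  obtain ⟨b, hb⟩ := exists_bc_hom U.ι i₂ i₁ fun Y hY q =>
    hU₂ Y (hY.trans (hU.le.trans Set.inter_subset_right)) q
  haveI : IsImmersion ((Over.pullback U.ι).map i₁).left :=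
    MorphismProperty.overPullbackMap U.ι i₁ ‹IsImmersion i₁.left›
  haveI : IsImmersion ((Over.pullback U.ι).map i₂).left :=
    MorphismProperty.overPullbackMap U.ι i₂ ‹IsImmersion i₂.left›
  haveI : Mono ((Over.pullback U.ι).map i₁) := Over.mono_of_mono_left _
  haveI : Mono ((Over.pullback U.ι).map i₂) := Over.mono_of_mono_left _
  refine ⟨⟨a, b, ?_, ?_⟩, ha⟩
  · rw [← cancel_mono ((Over.pullback U.ι).map i₁), Category.assoc, hb, ha, Category.id_comp]
  · rw [← cancel_mono ((Over.pullback U.ι).map i₂), Category.assoc, ha, hb, Category.id_comp]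

end Groth.Agent.MTBridge
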