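import Groth.Agent.MTBridge.SqAvg
import Mathlib

/-!
# Homomorphisms from a group of multiplicative type lift along nilpotent thickenings into smooth groups
-/

set_option autoImplicit false
set_option linter.style.haveILetI false
set_option backward.isDefEq.respectTransparency false
set_option maxHeartbeats 1000000
set_option synthInstance.maxHeartbeats 400000

universe u

open CategoryTheory Limits MonoidalCategory CartesianMonoidalCategory AlgebraicGeometry TensorProduct Opposite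
open TopologicalSpace WithConv
open scoped CategoryTheory.Obj MonObj

noncomputable section

namespace Groth.Agent.MTBridge

/-- Smooth morphisms lift along surjections with nilpotent kernel. -/
theorem exists_lift_of_smooth_nil {X Y : Scheme.{u}} (f : X ⟶ Y) [Smooth f] {B : Type u} [CommRing B] (n : ℕ) :
    ∀ {B' : Type u} [CommRing B'] (φ : B' →+* B) (_ : Function.Surjective φ) (_ : RingHom.ker φ ^ n = ⊥)
      (α : Spec (CommRingCat.of B) ⟶ X) (β : Spec (CommRingCat.of B') ⟶ Y)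
      (_ : Spec.map (CommRingCat.ofHom φ) ≫ β = α ≫ f),
      ∃ g : Spec (CommRingCat.of B') ⟶ X, Spec.map (CommRingCat.ofHom φ) ≫ g = α ∧ g ≫ f = β := by
  induction n with
  | zero =>
    intro B' _ φ hφ hn α β hc
    refine Groth.Agent.InfLift.exists_lift_of_smooth f φ hφ (le_bot_iff.1 ?_) α β hc
    rw [← hn, pow_zero, Ideal.one_eq_top]
    exact le_top
  | succ n ih =>
    intro B' _ φ hφ hn α β hc
    by_cases h1 : n = 0
    · subst h1
      refine Groth.Agent.InfLift.exists_lift_of_smooth f φ hφ (le_bot_iff.1 ?_) α β hc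
      rw [← hn]
      exact Ideal.pow_le_pow_right (by norm_num)
    have hle : RingHom.ker φ ^ n ≤ RingHom.ker φ := Ideal.pow_le_self h1
    let π := Ideal.Quotient.mk (RingHom.ker φ ^ n)
    let φ' := Ideal.Quotient.lift (RingHom.ker φ ^ n) φ fun x hx => hle hx
    have hφ' : φ'.comp π = φ := Ideal.Quotient.lift_comp_mk _ _ _
    have hker : RingHom.ker φ' ^ n = ⊥ := by
      rw [Ideal.ker_quotient_lift, ← Ideal.map_pow, Ideal.map_eq_bot_iff_le_ker, Ideal.mk_ker]
    obtain ⟨g₁, h₁, h₁'⟩ := ih φ' (Ideal.Quotient.lift_surjective_of_surjective _ _ hφ) hker α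
      (Spec.map (CommRingCat.ofHom π) ≫ β) (by
        rw [← Category.assoc, ← Spec.map_comp, ← CommRingCat.ofHom_comp, hφ', hc])
    obtain ⟨g, h₂, h₂'⟩ := Groth.Agent.InfLift.exists_lift_of_smooth f π Ideal.Quotient.mk_surjective
      (le_bot_iff.1 (by rw [Ideal.mk_ker, ← pow_mul, ← hn]; exact Ideal.pow_le_pow_right (by omega)))
      g₁ β h₁'.symm
    refine ⟨g, ?_, h₂'⟩
    rw [← h₁, ← h₂, ← Category.assoc, ← Spec.map_comp, ← CommRingCat.ofHom_comp, hφ']

variable {R : Type u} [CommRing R] {A : Type u} [CommRing A] [HopfAlgebra R A]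
  {G : Over (Spec (CommRingCat.of R))}

theorem exists_pt {T : Type u} [CommRing T] [Algebra R T] (x : Pt (specGrp R A).X T) :
    ∃ φ : A →ₐ[R] T, x = spMap φ := by
  obtain ⟨φ, hφ⟩ := (Spec.mapMulEquiv (R := R) (S := A) (T := T)).surjective x
  exact ⟨φ.ofConv, hφ.symm.trans (Over.OverMorphism.ext rfl)⟩

/-- The universal point killed by an ideal. -/
abbrev quotPt (A : Type u) [CommRing A] [HopfAlgebra R A] (K : Ideal R) :
    Pt (specGrp R A).X (A ⧸ K.map (algebraMap R A)) :=
  spMap (Ideal.Quotient.mkₐ R (K.map (algebraMap R A)))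

/-- Points killed by the ideal come from the universal one. -/
theorem exists_factor_quot {K : Ideal R} {X : Over (Spec (CommRingCat.of R))} (p : X ⟶ Over.mk (qJ K))
    (x : X ⟶ (specGrp R A).X) :
    ∃ b : X ⟶ (Spec (CommRingCat.of (A ⧸ K.map (algebraMap R A)))).asOver (Spec (CommRingCat.of R)),
      b ≫ quotPt A K = x := by
  let T₀ : Type u := (R ⧸ K) ⊗[R] A
  let θ : A ⧸ K.map (algebraMap R A) →+* T₀ := Ideal.Quotient.lift _
    ((Algebra.TensorProduct.includeRight : A →ₐ[R] T₀) : A →+* T₀) (fun a ha => by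
      have h1 := Ideal.mem_map_of_mem ((Algebra.TensorProduct.includeRight : A →ₐ[R] T₀) : A →+* T₀) ha
      rw [Ideal.map_map, AlgHom.comp_algebraMap, IsScalarTower.algebraMap_eq R (R ⧸ K) T₀, ← Ideal.map_map,
        Ideal.Quotient.algebraMap_eq, Ideal.map_quotient_self, Ideal.map_bot, Ideal.mem_bot] at h1
      exact h1)
  let k : X.left ⟶ Spec (CommRingCat.of (A ⧸ K.map (algebraMap R A))) :=
    pullback.lift p.left x.left (by
      show p.left ≫ _ = x.left ≫ (specGrp R A).X.hom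
      rw [Over.w]
      exact Over.w p) ≫ (pullbackSpecIso R (R ⧸ K) A).hom ≫ Spec.map (CommRingCat.ofHom θ)
  have hk : k ≫ (quotPt A K).left = x.left := by
    show k ≫ Spec.map (CommRingCat.ofHom (Ideal.Quotient.mkₐ R (K.map (algebraMap R A))).toRingHom) = _
    simp only [k, Category.assoc]
    rw [← Spec.map_comp, ← CommRingCat.ofHom_comp,
      show θ.comp (Ideal.Quotient.mkₐ R (K.map (algebraMap R A))).toRingHom =
        (Algebra.TensorProduct.includeRight : A →ₐ[R] T₀).toRingHom from RingHom.ext fun a => rfl]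
    erw [pullbackSpecIso_hom_snd, pullback.lift_snd]
  refine ⟨Over.homMk k ?_, Over.OverMorphism.ext hk⟩
  show k ≫ _ = X.hom
  rw [← Over.w (quotPt A K), ← Category.assoc, hk]
  exact Over.w x

theorem exists_qJ_of_killed {K : Ideal R} {T : Type u} [CommRing T] [Algebra R T]
    (hT : ∀ c ∈ K, algebraMap R T c = 0) :
    Nonempty ((Spec (CommRingCat.of T)).asOver (Spec (CommRingCat.of R)) ⟶ Over.mk (qJ K)) := by
  refine ⟨Over.homMk (Spec.map (CommRingCat.ofHom (Ideal.Quotient.lift K (algebraMap R T) hT))) ?_⟩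
  show Spec.map _ ≫ Spec.map _ = Spec.map _
  rw [← Spec.map_comp, ← CommRingCat.ofHom_comp, Ideal.Quotient.lift_comp_mk]

variable [GrpObj G]

/-- `f` is multiplicative on points killed by `K`. -/
def HomMod (K : Ideal R) (f : (specGrp R A).X ⟶ G) : Prop :=
  ∀ (T : Type u) [CommRing T] [Algebra R T], (∀ c ∈ K, algebraMap R T c = 0) →
    ∀ x y : Pt (specGrp R A).X T, (x * y) ≫ f = (x ≫ f) * (y ≫ f)

/-- One step of the lifting. -/
theorem exists_homMod_step (hA : SGA3b.IsMultType R A) (hG : Smooth G.hom) {J K : Ideal R} (hKJ : K ≤ J)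
    (hK : IsNilpotent K) (f : (specGrp R A).X ⟶ G) (hf : HomMod K f) :
    ∃ f' : (specGrp R A).X ⟶ G, HomMod (K ^ 2) f' ∧
      ∀ (T : Type u) [CommRing T] [Algebra R T], (∀ c ∈ J, algebraMap R T c = 0) →
        ∀ x : Pt (specGrp R A).X T, x ≫ f' = x ≫ f := by
  haveI := Groth.Agent.MultT.isCocomm hA
  obtain ⟨l, hl1, hl⟩ := Groth.Agent.MultT.exists_isHaar hA
  haveI : IsCommMonObj (specGrp R A).X :=
    inferInstanceAs (IsCommMonObj ((Spec (CommRingCat.of A)).asOver (Spec (CommRingCat.of R))))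
  have hsq : ∀ {T : Type u} [CommRing T] [Algebra R T], (∀ c ∈ K ^ 2, algebraMap R T c = 0) →
      (K.map (algebraMap R T)) ^ 2 = ⊥ := by
    intro T _ _ h
    rw [← Ideal.map_pow, Ideal.map_eq_bot_iff_le_ker]
    exact fun c hc => h c hc
  let z : ∀ (T : Type u) [CommRing T] [Algebra R T], Pt (specGrp R A).X (T ⊗[R] A) :=
    fun T _ _ => spMap (Algebra.TensorProduct.includeRight : A →ₐ[R] T ⊗[R] A)
  let iL : ∀ (T : Type u) [CommRing T] [Algebra R T], T →ₐ[R] T ⊗[R] A :=
    fun T _ _ => Algebra.TensorProduct.includeLeft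
  let d : ∀ {X : Over (Spec (CommRingCat.of R))}, (X ⟶ (specGrp R A).X) → (X ⟶ (specGrp R A).X) → (X ⟶ G) :=
    fun x y => (x ≫ f) * (y ≫ f) * ((x * y) ≫ f)⁻¹
  let D : ∀ (T : Type u) [CommRing T] [Algebra R T], Pt (specGrp R A).X T → Pt G (T ⊗[R] A) :=
    fun T _ _ x => d (spMap (iL T) ≫ x) (z T)
  have hd0 : ∀ (T : Type u) [CommRing T] [Algebra R T] (x y : Pt (specGrp R A).X T),
      (∀ c ∈ K, algebraMap R T c = 0) → d x y = 1 := fun T _ _ x y hT => by
    simp only [d, hf T hT x y, mul_inv_cancel]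
  have hdc : ∀ {X X' : Over (Spec (CommRingCat.of R))} (b : X' ⟶ X) (x y : X ⟶ (specGrp R A).X),
      b ≫ d x y = d (b ≫ x) (b ≫ y) := fun b x y => by
    simp only [d, MonObj.comp_mul, GrpObj.comp_inv, ← Category.assoc]
  have havg : ∀ (T : Type u) [CommRing T] [Algebra R T] (x : Pt (specGrp R A).X T),
      (∀ c ∈ K ^ 2, algebraMap R T c = 0) → ∃ b, IsAvg K l (D T x) b := fun T _ _ x hT =>
    exists_isAvg hK (hsq hT) hl1 _ fun Q _ _ g hQ => by
      simp only [D, hdc, spMap_assoc]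
      exact hd0 Q _ _ hQ
  let A' := A ⧸ (K ^ 2).map (algebraMap R A)
  have hA' : ∀ c ∈ K ^ 2, algebraMap R A' c = 0 := fun c hc => by
    rw [IsScalarTower.algebraMap_apply R A A', Ideal.Quotient.algebraMap_eq, Ideal.Quotient.eq_zero_iff_mem]
    exact Ideal.mem_map_of_mem _ hc
  let xu : Pt (specGrp R A).X A' := quotPt A (K ^ 2)
  obtain ⟨bu, hbu⟩ := havg A' xu hA'
  -- the corrected morphism modulo K ^ 2
  obtain ⟨f', hf'⟩ : ∃ f' : (specGrp R A).X ⟶ G, xu ≫ f' = bu⁻¹ * (xu ≫ f) := by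
    haveI := hG
    obtain ⟨n, hn⟩ := hK
    obtain ⟨c, hc1, hc2⟩ := exists_lift_of_smooth_nil G.hom n (Ideal.Quotient.mkₐ R ((K ^ 2).map (algebraMap R A))).toRingHom
      Ideal.Quotient.mk_surjective (by
        show RingHom.ker (Ideal.Quotient.mk ((K ^ 2).map (algebraMap R A))) ^ n = ⊥
        rw [Ideal.mk_ker, ← Ideal.map_pow, ← pow_mul, Nat.mul_comm, pow_mul, hn, Ideal.zero_eq_bot, ← Ideal.zero_eq_bot,
          zero_pow (by norm_num), Ideal.zero_eq_bot, Ideal.map_bot])
      (bu⁻¹ * (xu ≫ f)).left (specGrp R A).X.hom ((Over.w xu).trans (Over.w (bu⁻¹ * (xu ≫ f))).symm)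
    exact ⟨Over.homMk c hc2, Over.OverMorphism.ext hc1⟩
  have hF : ∀ (T : Type u) [CommRing T] [Algebra R T] (_ : ∀ c ∈ K ^ 2, algebraMap R T c = 0)
      (x : Pt (specGrp R A).X T) (b : Pt G T), IsAvg K l (D T x) b → x ≫ f' = b⁻¹ * (x ≫ f) := by
    intro T _ _ hT x b hb
    obtain ⟨φ, rfl⟩ := exists_pt x
    let φ' : A' →ₐ[R] T := Ideal.Quotient.liftₐ _ φ fun a ha => by
      have h1 := Ideal.mem_map_of_mem (φ : A →+* T) ha
      rw [Ideal.map_map, AlgHom.comp_algebraMap] at h1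
      rwa [Ideal.map_eq_bot_iff_le_ker (algebraMap R T) |>.2 (fun c hc => hT c hc), Ideal.mem_bot] at h1
    have hx : spMap φ = spMap φ' ≫ xu := by
      rw [spMap_comp]
      exact congrArg spMap (AlgHom.ext fun a => rfl)
    have h2 := hbu.baseChange hl1 (hsq hT) φ'
    have h3 : spMap (avgBC φ') ≫ D A' xu = D T (spMap φ) := by
      simp only [D, z, hdc, spMap_assoc, spMap_comp]
      rw [show (avgBC (A := A) φ').comp (iL A') = (iL T).comp φ' from AlgHom.ext fun a => by simp [avgBC, iL],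
        show (avgBC (A := A) φ').comp Algebra.TensorProduct.includeRight = Algebra.TensorProduct.includeRight from
          AlgHom.ext fun a => by simp [avgBC], ← spMap_assoc, ← hx, spMap_comp]
    rw [h3] at h2
    rw [hb.unique hK h2, hx, Category.assoc, hf', MonObj.comp_mul, GrpObj.comp_inv, Category.assoc]
  refine ⟨f', fun T _ _ hT x y => ?_, fun T _ _ hT x => ?_⟩
  · obtain ⟨bx, hbx⟩ := havg T x hT
    obtain ⟨b_y, hby⟩ := havg T y hT
    obtain ⟨bxy, hbxy⟩ := havg T (x * y) hT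
    have hc := isAvg_const (A := A) (hsq hT) hl1 (d x y)
    have hcf := isAvg_const (A := A) (hsq hT) hl1 (x ≫ f)
    obtain ⟨ψ, hψ⟩ := exists_pt y
    have htr := hbx.translate hl1 hl (hsq hT) ψ
    have ht1 : spMap (avgTr ψ) ≫ spMap (iL T) ≫ x = spMap (iL T) ≫ x := by
      rw [spMap_assoc, show (avgTr ψ).comp (iL T) = iL T from AlgHom.ext fun t => by simp [avgTr, iL]]
    have ht2 : spMap (avgTr ψ) ≫ z T = (spMap (iL T) ≫ y) * z T := by
      simp only [z]
      rw [hψ, spMap_comp, spMap_comp, spMap_eq_pt, spMap_eq_pt, spMap_eq_pt]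
      refine (congrArg pt (ofConv_injective (AlgHom.ext fun a => ?_))).trans (map_mul Spec.mapMulEquiv _ _)
      rw [AlgHom.convMul_apply]
      simp only [ofConv_toConv, AlgHom.comp_apply, Algebra.TensorProduct.includeRight_apply, avgTr,
        Algebra.TensorProduct.productMap_apply_tmul, map_one, Bialgebra.comulAlgHom_apply, one_mul]
      induction Coalgebra.comul (R := R) a using TensorProduct.induction_on with
      | zero => simp
      | add p q hp hq => simp only [map_add, ← hp, ← hq]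
      | tmul p q => simp [iL]
    have htr' : IsAvg K l (d (spMap (iL T) ≫ x) ((spMap (iL T) ≫ y) * z T)) bx := by
      have h := htr
      simp only [D, hdc, ht1, ht2] at h
      exact h
    have lhs : IsAvg K l ((spMap (iL T) ≫ d x y) * D T (x * y)) (d x y * bxy) := hc.mul hbxy
    have rhs : IsAvg K l ((spMap (iL T) ≫ x ≫ f) * D T y * (spMap (iL T) ≫ x ≫ f)⁻¹ *
        d (spMap (iL T) ≫ x) ((spMap (iL T) ≫ y) * z T)) ((x ≫ f) * b_y * (x ≫ f)⁻¹ * bx) :=
      ((hcf.mul hby).mul hcf.inv).mul htr'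
    have heq : (spMap (iL T) ≫ d x y) * D T (x * y) = (spMap (iL T) ≫ x ≫ f) * D T y * (spMap (iL T) ≫ x ≫ f)⁻¹ *
        d (spMap (iL T) ≫ x) ((spMap (iL T) ≫ y) * z T) := by
      simp only [D, hdc]
      rw [MonObj.comp_mul, ← Category.assoc _ x f]
      simp only [d, ← _root_.mul_assoc (spMap (iL T) ≫ x) (spMap (iL T) ≫ y) (z T)]
      group
    rw [heq] at lhs
    have key := lhs.unique hK rhs
    rw [hF T hT x bx hbx, hF T hT y b_y hby, hF T hT (x * y) bxy hbxy]
    simp only [d] at key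
    rw [show bxy = ((x ≫ f) * (y ≫ f) * ((x * y) ≫ f)⁻¹)⁻¹ * ((x ≫ f) * b_y * (x ≫ f)⁻¹ * bx) by
      rw [← key, inv_mul_cancel_left]]
    group
  · have hT2 : ∀ c ∈ K ^ 2, algebraMap R T c = 0 := fun c hc => hT c (hKJ (Ideal.pow_le_self (by norm_num) hc))
    have h1 : D T x = 1 := hd0 _ _ _ fun c hc => by
      rw [IsScalarTower.algebraMap_apply R T (T ⊗[R] A), hT c (hKJ hc), map_zero]
    have h2 := isAvg_const (A := A) (hsq hT2) hl1 (1 : Pt G T)
    rw [MonObj.comp_one, ← h1] at h2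
    rw [hF T hT2 x 1 h2, inv_one, _root_.one_mul]

/-- A morphism multiplicative on all points is a homomorphism. -/
theorem isMonHom_of_homMod_bot (f : (specGrp R A).X ⟶ G) (h : HomMod (⊥ : Ideal R) f) : IsMonHom f := by
  have h' : ∀ (T : Type u) [CommRing T] [Algebra R T] (x y : Pt (specGrp R A).X T),
      (x * y) ≫ f = (x ≫ f) * (y ≫ f) := fun T _ _ =>
    h T fun c hc => by rw [Ideal.mem_bot.1 hc, map_zero]
  let k : Pt ((specGrp R A).X ⊗ (specGrp R A).X) (A ⊗[R] A) :=
    lift (spMap (Algebra.TensorProduct.includeLeft : A →ₐ[R] A ⊗[R] A))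
      (spMap (Algebra.TensorProduct.includeRight : A →ₐ[R] A ⊗[R] A))
  haveI : Epi k := by
    haveI : IsIso k.left := by
      have hk : k.left = (pullbackSpecIso R A A).inv := by
        apply pullback.hom_ext
        · rw [show k.left ≫ pullback.fst _ _ = (k ≫ fst _ _).left from rfl, lift_fst, spMap_left]
          exact (pullbackSpecIso_inv_fst R A A).symm
        · rw [show k.left ≫ pullback.snd _ _ = (k ≫ snd _ _).left from rfl, lift_snd, spMap_left]
          exact (pullbackSpecIso_inv_snd R A A).symm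
      rw [hk]
      exact Iso.isIso_inv _
    exact Over.epi_of_epi_left _
  have hmul : μ[(specGrp R A).X] ≫ f = (fst _ _ ≫ f) * (snd _ _ ≫ f) := by
    refine (cancel_epi k).1 ?_
    rw [show μ[(specGrp R A).X] = fst (specGrp R A).X (specGrp R A).X * snd _ _ by
      rw [Hom.mul_def, lift_fst_snd, Category.id_comp], MonObj.comp_mul, ← Category.assoc, ← Category.assoc,
      ← Category.assoc, MonObj.comp_mul]
    exact h' _ _ _
  refine ⟨?_, ?_⟩
  · have h1 : (1 : 𝟙_ _ ⟶ (specGrp R A).X) ≫ f = 1 := by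
      have h2 := congrArg (fun m => CartesianMonoidalCategory.lift (1 : 𝟙_ _ ⟶ (specGrp R A).X) 1 ≫ m) hmul
      simp only [MonObj.comp_mul, ← Category.assoc, lift_fst, lift_snd] at h2
      rw [← Hom.mul_def, _root_.one_mul] at h2
      exact left_eq_mul.1 h2
    simpa [Hom.one_def, toUnit_unique (toUnit (𝟙_ _)) (𝟙 _)] using h1
  · rw [hmul, ← lift_fst_comp_snd_comp, ← Hom.mul_def]

/-- A homomorphism modulo a nilpotent ideal lifts. -/
theorem exists_hom_lift_nil_smooth (hA : SGA3b.IsMultType R A) (hG : Smooth G.hom) {J : Ideal R} (hJ : IsNilpotent J)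
    (f : (specGrp R A).X ⟶ G) (hf : HomMod J f) :
    ∃ f' : (specGrp R A).X ⟶ G, IsMonHom f' ∧
      ∀ (X : Over (Spec (CommRingCat.of R))) (_ : X ⟶ Over.mk (qJ J)) (x : X ⟶ (specGrp R A).X),
        x ≫ f' = x ≫ f := by
  have key : ∀ k : ℕ, ∃ f' : (specGrp R A).X ⟶ G, HomMod (J ^ 2 ^ k) f' ∧
      ∀ (T : Type u) [CommRing T] [Algebra R T], (∀ c ∈ J, algebraMap R T c = 0) →
        ∀ x : Pt (specGrp R A).X T, x ≫ f' = x ≫ f := by
    intro k
    induction k with
    | zero => exact ⟨f, by rwa [pow_zero, pow_one], fun _ _ _ _ _ => rfl⟩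
    | succ k ih =>
      obtain ⟨f₁, h₁, h₁'⟩ := ih
      have hk : IsNilpotent (J ^ 2 ^ k) := hJ.pow_of_pos (by positivity)
      obtain ⟨f₂, h₂, h₂'⟩ := exists_homMod_step hA hG (Ideal.pow_le_self (by positivity)) hk f₁ h₁
      exact ⟨f₂, by rwa [pow_succ, pow_mul], fun T _ _ hT x => (h₂' T hT x).trans (h₁' T hT x)⟩
  obtain ⟨n, hn⟩ := hJ
  obtain ⟨f', hf', hf'J⟩ := key n
  have hbot : J ^ 2 ^ n = ⊥ :=
    le_bot_iff.1 ((Ideal.pow_le_pow_right (Nat.lt_two_pow_self).le).trans (le_of_eq hn))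
  rw [hbot] at hf'
  refine ⟨f', isMonHom_of_homMod_bot f' hf', fun X p x => ?_⟩
  obtain ⟨b, rfl⟩ := exists_factor_quot p x
  rw [Category.assoc, Category.assoc, hf'J _ (fun c hc => ?_) (quotPt A J)]
  rw [IsScalarTower.algebraMap_apply R A, Ideal.Quotient.algebraMap_eq, Ideal.Quotient.eq_zero_iff_mem]
  exact Ideal.mem_map_of_mem _ hc

end Groth.Agent.MTBridge
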