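import Groth.Agent.MultT.Chart
import Mathlib

/-!
# Bialgebra maps between group algebras are locally maps of groups; `mapDomain` of group maps
-/

set_option autoImplicit false
set_option linter.style.haveILetI false
set_option synthInstance.maxHeartbeats 400000

universe u

open TensorProduct WithConv

noncomputable section

namespace Groth.Agent.MTBridge

open Groth.Agent.MultT

section MapDomain

variable (K : Type u) [CommRing K] {M N : Type u} [CommGroup M] [CommGroup N] (φ : N →* M)

theorem mapDomain_surjective (h : Function.Surjective φ) :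
    Function.Surjective (MonoidAlgebra.mapDomainAlgHom K K φ) := by
  intro x
  induction x using MonoidAlgebra.induction_linear with
  | zero => exact ⟨0, map_zero _⟩
  | add a b ha hb =>
    obtain ⟨a, rfl⟩ := ha
    obtain ⟨b, rfl⟩ := hb
    exact ⟨a + b, map_add _ _ _⟩
  | single m r =>
    obtain ⟨n, rfl⟩ := h m
    exact ⟨MonoidAlgebra.single n r, by simp [MonoidAlgebra.mapDomainAlgHom_apply]⟩

theorem surjective_of_mapDomain [Nontrivial K] (h : Function.Surjective (MonoidAlgebra.mapDomainAlgHom K K φ)) :
    Function.Surjective φ := by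
  classical
  intro m
  by_contra hm
  push Not at hm
  obtain ⟨x, hx⟩ := h (MonoidAlgebra.single m 1)
  have h0 : ∀ y, cfM K m (MonoidAlgebra.mapDomainAlgHom K K φ y) = 0 := by
    intro y
    induction y using MonoidAlgebra.induction_linear with
    | zero => simp
    | add a b ha hb => rw [map_add, map_add, ha, hb, add_zero]
    | single n r =>
      rw [MonoidAlgebra.mapDomainAlgHom_apply, MonoidAlgebra.mapDomain_single, cfM_single, if_neg (hm n)]
  have := h0 x
  rw [hx, cfM_single, if_pos rfl] at this
  exact one_ne_zero this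

theorem injective_of_mapDomain [Nontrivial K] (h : Function.Injective (MonoidAlgebra.mapDomainAlgHom K K φ)) :
    Function.Injective φ := by
  intro a b hab
  exact MonoidAlgebra.single_left_injective (R := K) one_ne_zero (h (by
    simp [MonoidAlgebra.mapDomainAlgHom_apply, hab]))

/-- An injective map of groups gives a faithfully flat map of group algebras. -/
theorem mapDomain_faithfullyFlat (h : Function.Injective φ) :
    (MonoidAlgebra.mapDomainAlgHom K K φ).toRingHom.FaithfullyFlat := by
  classical
  let A := MonoidAlgebra K M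
  let B := MonoidAlgebra K N
  letI : Algebra (MonoidAlgebra K N) (MonoidAlgebra K M) := (MonoidAlgebra.mapDomainAlgHom K K φ).toRingHom.toAlgebra
  let Q := M ⧸ φ.range
  let s : Q → M := Quotient.out
  have hs : ∀ q : Q, (QuotientGroup.mk (s q) : Q) = q := fun q => Quotient.out_eq q
  have hn : ∀ m : M, ∃ n : N, s (QuotientGroup.mk m) * φ n = m := by
    intro m
    obtain ⟨n, hn⟩ := (QuotientGroup.eq (s := φ.range)).1 (hs (QuotientGroup.mk m))
    exact ⟨n, by rw [hn, mul_inv_cancel_left]⟩
  choose ν hν using hn
  have hνs : ∀ (q : Q) (n : N), (QuotientGroup.mk (s q * φ n) : Q) = q ∧ ν (s q * φ n) = n := by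
    intro q n
    have h1 : (QuotientGroup.mk (s q * φ n) : Q) = q := by
      rw [QuotientGroup.mk_mul, (QuotientGroup.eq_one_iff (φ n)).2 (MonoidHom.mem_range.2 ⟨n, rfl⟩), mul_one, hs]
    refine ⟨h1, h ?_⟩
    have h2 := hν (s q * φ n)
    rw [h1] at h2
    exact mul_left_cancel h2
  let L : (Q →₀ MonoidAlgebra K N) →ₗ[MonoidAlgebra K N] MonoidAlgebra K M :=
    Finsupp.linearCombination _ fun q => MonoidAlgebra.single (s q) 1
  have hL : ∀ q n r, L (Finsupp.single q (MonoidAlgebra.single n r)) = MonoidAlgebra.single (s q * φ n) r := by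
    intro q n r
    simp only [L, Finsupp.linearCombination_single, Algebra.smul_def, RingHom.algebraMap_toAlgebra,
      AlgHom.toRingHom_eq_coe, RingHom.coe_coe, MonoidAlgebra.mapDomainAlgHom_apply,
      MonoidAlgebra.mapDomain_single, MonoidAlgebra.single_mul_single, mul_one, mul_comm (φ n)]
  let P : MonoidAlgebra K M →+ (Q →₀ MonoidAlgebra K N) :=
    (Finsupp.liftAddHom fun m => (Finsupp.singleAddHom (QuotientGroup.mk m : Q)).comp
      (MonoidAlgebra.singleAddHom (ν m))).comp (MonoidAlgebra.coeffLinearEquiv K).toLinearMap.toAddMonoidHom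
  have hP : ∀ m r, P (MonoidAlgebra.single m r) =
      Finsupp.single (QuotientGroup.mk m : Q) (MonoidAlgebra.single (ν m) r) := by
    intro m r
    simp [P]
  have hPL : ∀ x, P (L x) = x := by
    intro x
    induction x using Finsupp.induction_linear with
    | zero => simp
    | add a b ha hb => rw [map_add, map_add, ha, hb]
    | single q y =>
      induction y using MonoidAlgebra.induction_linear with
      | zero => simp
      | add a b ha hb => rw [Finsupp.single_add, map_add, map_add, ha, hb]
      | single n r => rw [hL, hP, (hνs q n).1, (hνs q n).2]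
  have hbij : Function.Bijective L := by
    refine ⟨Function.LeftInverse.injective hPL, fun x => ?_⟩
    induction x using MonoidAlgebra.induction_linear with
    | zero => exact ⟨0, map_zero _⟩
    | add a b ha hb =>
      obtain ⟨a, rfl⟩ := ha
      obtain ⟨b, rfl⟩ := hb
      exact ⟨a + b, map_add _ _ _⟩
    | single m r => exact ⟨Finsupp.single (QuotientGroup.mk m) (MonoidAlgebra.single (ν m) r), by rw [hL, hν]⟩
  show Module.FaithfullyFlat (MonoidAlgebra K N) (MonoidAlgebra K M)
  haveI : Nonempty Q := ⟨1⟩
  exact Module.FaithfullyFlat.of_linearEquiv _ _ (LinearEquiv.ofBijective L hbij).symm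

end MapDomain

theorem sum_subtype_ne_zero {T ι : Type u} [AddCommMonoid T] [Fintype ι] (g : ι → T) [Fintype {i // g i ≠ 0}] :
    ∑ i : {i // g i ≠ 0}, g i.1 = ∑ i, g i := by
  classical
  rw [← Finset.sum_subtype (Finset.univ.filter fun i => g i ≠ 0) (fun x => by simp) g, Finset.sum_filter_ne_zero]

theorem sum_prod_choices {T κ M : Type u} [CommRing T] [Fintype κ] [DecidableEq κ] (s : κ → Finset M)
    (c : κ → M → T) (h : ∀ k, ∑ m ∈ s k, c k m = 1)
    [Fintype {i : (k : κ) → {m // m ∈ s k} // (∏ k, c k (i k).1) ≠ 0}] :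
    ∑ i : {i : (k : κ) → {m // m ∈ s k} // (∏ k, c k (i k).1) ≠ 0}, ∏ k, c k (i.1 k).1 = 1 := by
  classical
  rw [sum_subtype_ne_zero fun i : (k : κ) → {m // m ∈ s k} => ∏ k, c k (i k).1,
    ← Fintype.prod_sum fun k (m : {m // m ∈ s k}) => c k m.1]
  exact Finset.prod_eq_one fun k _ => (Finset.sum_coe_sort (s k) (c k)).trans (h k)

/-- **A bialgebra map of group algebras is, piecewise, a map of groups.** -/
theorem exists_partition {T : Type u} [CommRing T] {M N : Type u} [CommGroup M] [CommGroup N] [Group.FG N]
    (f : MonoidAlgebra T N →ₐc[T] MonoidAlgebra T M) :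
    ∃ (ι : Type u) (_ : Fintype ι) (e : ι → T) (φ : ι → (N →* M)),
      (∀ i, e i * e i = e i) ∧ ∑ i, e i = 1 ∧
      ∀ (i : ι) (x : MonoidAlgebra T N), e i • f x = e i • MonoidAlgebra.mapDomainAlgHom T T (φ i) x := by
  classical
  let c : N → M → T := fun n m => cfM T m (f (MonoidAlgebra.single n 1))
  have hgl : ∀ n, IsGroupLikeElem T (f (MonoidAlgebra.single n (1 : T))) := fun n =>
    (MonoidAlgebra.isGroupLikeElem_single_one n).map f
  have horth : ∀ n m m', c n m * c n m' = if m = m' then c n m else 0 := by
    intro n m m'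
    have h1 := congrArg (fun g : WithConv (MonoidAlgebra T M →ₗ[T] T) =>
      g.ofConv (f (MonoidAlgebra.single n (1 : T)))) (cfM_mul_cfM T (M := M) m m')
    simp only [LinearMap.convMul_apply, (hgl n).comul_eq_tmul_self, TensorProduct.map_tmul,
      LinearMap.mul'_apply] at h1
    refine h1.trans ?_
    split_ifs <;> rfl
  let supp : N → Finset M := fun n => (f (MonoidAlgebra.single n (1 : T))).coeff.support
  have hsum : ∀ n, ∑ m ∈ supp n, c n m = 1 := by
    intro n
    have key : ∀ x : MonoidAlgebra T M, x.coeff.sum (fun _ s => s) = Coalgebra.counit (R := T) x := by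
      intro x
      induction x using MonoidAlgebra.induction_linear with
      | zero => simp
      | add x y hx hy => rw [map_add, ← hx, ← hy, MonoidAlgebra.coeff_add, Finsupp.sum_add_index] <;> simp
      | single l s => simp
    have h1 := (key (f (MonoidAlgebra.single n (1 : T)))).trans (hgl n).counit_eq_one
    rw [← h1]
    rfl
  obtain ⟨G, hG⟩ := (Group.fg_iff.1 ‹Group.FG N›)
  obtain ⟨hGt, hGfin⟩ := hG
  let G' := hGfin.toFinset
  let S := {i : (n : {n // n ∈ G'}) → {m // m ∈ supp n.1} // (∏ n, c n.1 (i n).1) ≠ 0}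
  let e : S → T := fun i => ∏ n, c n.1 (i.1 n).1
  have he : ∀ i, e i * e i = e i := fun i => by
    simp only [e, ← Finset.prod_mul_distrib, horth, if_true]
  have hgen : ∀ (i : S) (n : N), n ∈ G' → ∃ m, e i • f (MonoidAlgebra.single n 1) = e i • MonoidAlgebra.single m 1 := by
    intro i n hn
    refine ⟨(i.1 ⟨n, hn⟩).1, cfM_ext fun l => ?_⟩
    rw [map_smul, map_smul, cfM_single, smul_eq_mul, smul_eq_mul]
    obtain ⟨r, hr⟩ : ∃ r, e i = r * c n (i.1 ⟨n, hn⟩).1 :=
      ⟨_, (Finset.prod_erase_mul Finset.univ (fun k => c k.1 (i.1 k).1) (Finset.mem_univ ⟨n, hn⟩)).symm⟩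
    show e i * c n l = _
    rw [hr, mul_assoc, horth, mul_assoc]
    split_ifs with h
    · rw [mul_one]
    · simp
  have hall : ∀ (i : S) (n : N), ∃ m, e i • f (MonoidAlgebra.single n 1) = e i • MonoidAlgebra.single m 1 := by
    intro i n
    have hn : n ∈ Subgroup.closure G := hGt ▸ Subgroup.mem_top n
    induction hn using Subgroup.closure_induction with
    | mem n hn => exact hgen i n (hGfin.mem_toFinset.2 hn)
    | one => exact ⟨1, by rw [← MonoidAlgebra.one_def, map_one, MonoidAlgebra.one_def]⟩
    | mul a b _ _ ha hb =>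
      obtain ⟨x, hx⟩ := ha
      obtain ⟨y, hy⟩ := hb
      refine ⟨x * y, ?_⟩
      have h1 : (e i • f (MonoidAlgebra.single a 1)) * (e i • f (MonoidAlgebra.single b 1)) =
          (e i • MonoidAlgebra.single x 1) * (e i • MonoidAlgebra.single y 1) := by rw [hx, hy]
      simpa [smul_mul_smul_comm, smul_smul, he, ← map_mul, MonoidAlgebra.single_mul_single] using h1
    | inv a _ ha =>
      obtain ⟨x, hx⟩ := ha
      refine ⟨x⁻¹, ?_⟩
      have h1 : f (MonoidAlgebra.single a 1) * f (MonoidAlgebra.single a⁻¹ 1) = 1 := by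
        rw [← map_mul, MonoidAlgebra.single_mul_single, mul_inv_cancel, mul_one, ← MonoidAlgebra.one_def, map_one]
      have h2 : e i • (MonoidAlgebra.single x (1 : T) * f (MonoidAlgebra.single a⁻¹ 1)) = e i • 1 := by
        rw [← smul_mul_assoc, ← hx, smul_mul_assoc, h1]
      have h3 := congrArg (fun z => MonoidAlgebra.single x⁻¹ (1 : T) * z) h2
      simpa [mul_smul_comm, ← mul_assoc, MonoidAlgebra.single_mul_single, ← MonoidAlgebra.one_def] using h3
  choose ψ hψ using hall
  have huniq : ∀ (i : S) (a b : M), e i • MonoidAlgebra.single a (1 : T) = e i • MonoidAlgebra.single b 1 → a = b := by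
    intro i a b hab
    rw [MonoidAlgebra.smul_single, MonoidAlgebra.smul_single, smul_eq_mul, mul_one] at hab
    exact MonoidAlgebra.single_left_injective i.2 hab
  let φ : S → (N →* M) := fun i => MonoidHom.mk' (ψ i) fun a b => huniq i _ _ (by
    rw [← hψ]
    have h1 : (e i • f (MonoidAlgebra.single a 1)) * (e i • f (MonoidAlgebra.single b 1)) =
        (e i • MonoidAlgebra.single (ψ i a) 1) * (e i • MonoidAlgebra.single (ψ i b) 1) := by rw [hψ, hψ]
    simpa [smul_mul_smul_comm, smul_smul, he, ← map_mul, MonoidAlgebra.single_mul_single] using h1)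
  refine ⟨S, inferInstance, e, φ, he, ?_, fun i x => ?_⟩
  · exact sum_prod_choices (fun n : {n // n ∈ G'} => supp n.1) (fun n => c n.1) fun n => hsum n.1
  · induction x using MonoidAlgebra.induction_linear with
    | zero => simp
    | add a b ha hb => simp only [map_add, smul_add, ha, hb]
    | single n r =>
      rw [show MonoidAlgebra.single n r = r • MonoidAlgebra.single n (1 : T) by
        rw [MonoidAlgebra.smul_single, smul_eq_mul, mul_one], map_smul, map_smul, smul_comm, hψ, smul_comm]
      simp [φ, MonoidAlgebra.mapDomainAlgHom_apply]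

end Groth.Agent.MTBridge
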