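import Groth.Agent.MTBridge.SubgroupsClopen
import Mathlib

/-!
# Two subgroups of multiplicative type, one of which is central, coincide on an open and closed set
-/

set_option autoImplicit false
set_option linter.style.haveILetI false
set_option linter.unusedSectionVars false
set_option backward.isDefEq.respectTransparency false
set_option maxHeartbeats 1000000
set_option synthInstance.maxHeartbeats 400000

universe u

open CategoryTheory Limits MonoidalCategory CartesianMonoidalCategory AlgebraicGeometry TensorProduct Opposite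
open TopologicalSpace WithConv
open scoped CategoryTheory.Obj MonObj

noncomputable section

namespace Groth.Agent.MTBridge

variable {S : Scheme.{u}} {G H₁ H₂ : Over S} [GrpObj G] [GrpObj H₁] [GrpObj H₂]

/-- The points of the base where the first subgroup is included in the second. -/
def inclLocus (i₁ : H₁ ⟶ G) (i₂ : H₂ ⟶ G) : Set S :=
  {t | ∃ ψ : Red.bc (S.fromSpecResidueField t) H₁ ⟶ Red.bc (S.fromSpecResidueField t) H₂,
    ψ ≫ (Over.pullback (S.fromSpecResidueField t)).map i₂ = (Over.pullback (S.fromSpecResidueField t)).map i₁}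

/-- A central homomorphism is central on fibres. -/
theorem central_bc {T : Scheme.{u}} (g : T ⟶ S) (i₁ : H₁ ⟶ G)
    (hc : ∀ (X : Over S) (g : X ⟶ G) (h : X ⟶ H₁), g * (h ≫ i₁) = (h ≫ i₁) * g)
    (X : Over T) (a : X ⟶ Red.bc g G) (h : X ⟶ Red.bc g H₁) :
    a * (h ≫ (Over.pullback g).map i₁) = (h ≫ (Over.pullback g).map i₁) * a := by
  obtain ⟨a₀, rfl⟩ := ((Over.mapPullbackAdj g).homEquiv X G).surjective a
  obtain ⟨h₀, rfl⟩ := ((Over.mapPullbackAdj g).homEquiv X H₁).surjective h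
  show toBC g a₀ * (toBC g h₀ ≫ _) = (toBC g h₀ ≫ _) * toBC g a₀
  rw [← toBC_comp g i₁ h₀, ← toBC_mul g a₀ (h₀ ≫ i₁), ← toBC_mul g (h₀ ≫ i₁) a₀, hc]

/-- The inclusion locus is closed. -/
theorem isClosed_inclLocus [IsSeparated G.hom] (h₁ : SGA3x.IsMultTypeFT H₁) (h₂ : SGA3x.IsMultTypeFT H₂)
    (i₁ : H₁ ⟶ G) [IsMonHom i₁] (i₂ : H₂ ⟶ G) [IsMonHom i₂] [IsImmersion i₂.left] :
    IsClosed (inclLocus i₁ i₂) := by
  rw [← isOpen_compl_iff, isOpen_iff_forall_mem_open]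
  intro s hs
  obtain ⟨V, hV, hsV, -⟩ := exists_isAffineOpen_mem_and_subset (x := s) (U := ⊤) trivial
  let R : Type u := Γ(S, V)
  let j : Spec (CommRingCat.of R) ⟶ S := hV.fromSpec
  suffices hcl : IsClosed (j ⁻¹' inclLocus i₁ i₂) by
    refine ⟨j '' (j ⁻¹' inclLocus i₁ i₂)ᶜ, ?_, j.isOpenEmbedding.isOpenMap _ hcl.isOpen_compl, ?_⟩
    · rintro _ ⟨y, hy, rfl⟩ h
      exact hy h
    · obtain ⟨y, rfl⟩ : s ∈ Set.range j := by
        rw [show Set.range j = (V : Set S) from hV.range_fromSpec]; exact hsV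
      exact ⟨y, hs, rfl⟩
  obtain ⟨A, _, _, hA, hAf, ⟨e₁⟩⟩ := exists_hopf (Red.bc j H₁) (isMultTypeFT_bc H₁ j h₁)
  obtain ⟨A', _, _, hA', hAf', ⟨e₂⟩⟩ := exists_hopf (Red.bc j H₂) (isMultTypeFT_bc H₂ j h₂)
  haveI := hAf
  haveI := hAf'
  let v₁ : (specGrp R A).X ⟶ Red.bc j G := e₁.inv.hom.hom ≫ (Over.pullback j).map i₁
  let v₂ : (specGrp R A').X ⟶ Red.bc j G := e₂.inv.hom.hom ≫ (Over.pullback j).map i₂
  haveI : IsMonHom v₁ := inferInstanceAs (IsMonHom (e₁.inv.hom.hom ≫ (Over.pullback j).map i₁))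
  haveI : IsMonHom v₂ := inferInstanceAs (IsMonHom (e₂.inv.hom.hom ≫ (Over.pullback j).map i₂))
  haveI : IsImmersion v₂.left := by
    haveI : IsImmersion ((Over.pullback j).map i₂).left :=
      MorphismProperty.overPullbackMap j i₂ ‹IsImmersion i₂.left›
    haveI : IsIso e₂.inv.hom.hom.left :=
      inferInstanceAs (IsIso ((Over.forget _).map ((Grp.forget _).map e₂.inv)))
    show IsImmersion (e₂.inv.hom.hom.left ≫ ((Over.pullback j).map i₂).left)
    infer_instance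
  haveI : IsSeparated (Red.bc j G).hom := by
    show IsSeparated (pullback.snd G.hom j)
    infer_instance
  have hcl := isClosed_incl_affine hA hA' v₁ v₂
  have he₁ : e₁.hom.hom.hom ≫ e₁.inv.hom.hom = 𝟙 _ := ((Grp.forget _).mapIso e₁).hom_inv_id
  have he₂ : e₂.hom.hom.hom ≫ e₂.inv.hom.hom = 𝟙 _ := ((Grp.forget _).mapIso e₂).hom_inv_id
  suffices heq : j ⁻¹' inclLocus i₁ i₂ = {p : PrimeSpectrum R |
      InIm v₂ (pt (toConv (Algebra.TensorProduct.includeRight : A →ₐ[R] p.asIdeal.ResidueField ⊗[R] A)) ≫ v₁)} by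
    exact heq ▸ hcl
  refine Set.ext fun (p : PrimeSpectrum R) => ?_
  let κ := p.asIdeal.ResidueField
  let p'' : ↥(Spec (CommRingCat.of R)) := p
  let w : Spec (CommRingCat.of κ) ⟶ Spec (S.residueField (j p'')) :=
    Spec.map (Scheme.Spec.residueFieldIso (CommRingCat.of R) p'').hom ≫ Spec.map (j.residueFieldMap p'')
  haveI : IsIso w := inferInstance
  have hw : w ≫ S.fromSpecResidueField (j p'') = Spec.map (CommRingCat.ofHom (algebraMap R κ)) ≫ j := by
    rw [Category.assoc, Scheme.Hom.SpecMap_residueFieldMap_fromSpecResidueField, ← Category.assoc]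
    congr 1
    rw [← Scheme.Spec.map_residueFieldIso_inv_eq_fromSpecResidueField, ← Spec.map_comp_assoc,
      Iso.inv_hom_id, Spec.map_id, Category.id_comp]
  let gs := S.fromSpecResidueField (j p'')
  let T := κ ⊗[R] A
  let b := fun (Y : Over (Spec (CommRingCat.of R))) => (Over.mapPullbackAdj j).homEquiv Y
  constructor
  · rintro ⟨ψ, hψ⟩
    let Y := (Spec (CommRingCat.of (κ ⊗[R] A))).asOver (Spec (CommRingCat.of R))
    obtain ⟨z, hz⟩ := factor_of_factor gs i₁ i₂ ψ hψ ((Over.map j).obj Y)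
      (Spec.map (CommRingCat.ofHom (inB R A κ).toRingHom) ≫ w) (by
        show (Spec.map (CommRingCat.ofHom (inB R A κ).toRingHom) ≫ w) ≫ _ =
          Spec.map (CommRingCat.ofHom (algebraMap R (κ ⊗[R] A))) ≫ j
        rw [Category.assoc, hw, ← Category.assoc, ← Spec.map_comp, ← CommRingCat.ofHom_comp,
          show (inB R A κ).toRingHom.comp (algebraMap R κ) = algebraMap R (κ ⊗[R] A) from (inB R A κ).comp_algebraMap])
      ((b Y H₁).symm (pt (toConv (Algebra.TensorProduct.includeRight : A →ₐ[R] κ ⊗[R] A)) ≫ e₁.inv.hom.hom))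
    refine ⟨toBC j z ≫ e₂.hom.hom.hom, ?_⟩
    have h2 := congrArg (toBC j) hz
    rw [toBC_comp, toBC_comp] at h2
    simp only [toBC, b, Equiv.apply_symm_apply, Category.assoc] at h2
    simp only [v₁, v₂, Category.assoc, reassoc_of% he₂]
    exact h2.symm
  · rintro ⟨z₀, hz₀⟩
    let X := Red.bc gs H₁
    let q : (Over.map gs).obj X ⟶ H₁ := ((Over.mapPullbackAdj gs).homEquiv X H₁).symm (𝟙 _)
    let l : X.left ⟶ Spec (CommRingCat.of R) := X.hom ≫ inv w ≫ Spec.map (CommRingCat.ofHom (algebraMap R κ))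
    have hl : l ≫ j = ((Over.map gs).obj X).hom := by
      show (X.hom ≫ inv w ≫ Spec.map (CommRingCat.ofHom (algebraMap R κ))) ≫ j = X.hom ≫ gs
      rw [Category.assoc, Category.assoc, ← hw, IsIso.inv_hom_id_assoc]
    obtain ⟨ε⟩ : Nonempty ((Over.map j).obj (Over.mk l) ≅ (Over.map gs).obj X) :=
      ⟨Over.isoMk (Iso.refl _) (by simpa using hl.symm)⟩
    let qA : Over.mk l ⟶ (specGrp R A).X := toBC j (ε.hom ≫ q) ≫ e₁.hom.hom.hom
    have hpb := (isPullback_SpecMap_of_isPushout _ _ _ _ (CommRingCat.isPushout_tensorProduct R κ A))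
    have hw2 : (X.hom ≫ inv w) ≫ Spec.map (CommRingCat.ofHom (algebraMap R κ)) =
        qA.left ≫ Spec.map (CommRingCat.ofHom (algebraMap R A)) := by
      rw [Category.assoc]
      exact (Over.w qA).symm
    let n := hpb.lift (X.hom ≫ inv w) qA.left hw2
    have hn : n ≫ Spec.map (CommRingCat.ofHom (Algebra.TensorProduct.includeRight : A →ₐ[R] T).toRingHom) = qA.left :=
      hpb.lift_snd _ _ _
    let qT : Over.mk l ⟶ (Spec (CommRingCat.of (κ ⊗[R] A))).asOver (Spec (CommRingCat.of R)) :=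
      Over.homMk n (by
        show n ≫ Spec.map (CommRingCat.ofHom (algebraMap R (κ ⊗[R] A))) = l
        rw [← (Algebra.TensorProduct.includeRight : A →ₐ[R] T).comp_algebraMap, CommRingCat.ofHom_comp,
          Spec.map_comp, ← Category.assoc]
        erw [hn]
        exact Over.w qA)
    have hqT : qT ≫ pt (toConv (Algebra.TensorProduct.includeRight : A →ₐ[R] T)) = qA := Over.OverMorphism.ext hn
    let z := ε.inv ≫ (b (Over.mk l) H₂).symm ((qT ≫ z₀) ≫ e₂.inv.hom.hom)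
    have h1 : toBC j (((b (Over.mk l) H₂).symm ((qT ≫ z₀) ≫ e₂.inv.hom.hom)) ≫ i₂) = toBC j ((ε.hom ≫ q) ≫ i₁) := by
      rw [toBC_comp, toBC_comp, show toBC j ((b (Over.mk l) H₂).symm ((qT ≫ z₀) ≫ e₂.inv.hom.hom)) =
        (qT ≫ z₀) ≫ e₂.inv.hom.hom from Equiv.apply_symm_apply _ _]
      show ((qT ≫ z₀) ≫ e₂.inv.hom.hom) ≫ (Over.pullback j).map i₂ = _
      rw [Category.assoc, Category.assoc]
      rw [show z₀ ≫ e₂.inv.hom.hom ≫ (Over.pullback j).map i₂ =
        pt (toConv (Algebra.TensorProduct.includeRight : A →ₐ[R] T)) ≫ v₁ from hz₀.symm]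
      rw [← Category.assoc, hqT]
      simp only [qA, v₁, Category.assoc, reassoc_of% he₁]
    have h2 := ((Over.mapPullbackAdj j).homEquiv (Over.mk l) G).injective h1
    have h3 : z ≫ i₂ = q ≫ i₁ := by
      simp only [z, Category.assoc] at h2 ⊢
      rw [h2, Iso.inv_hom_id_assoc]
    refine ⟨toBC gs z, ?_⟩
    rw [← toBC_comp, h3, toBC_comp, show toBC gs q = 𝟙 _ from Equiv.apply_symm_apply _ _, Category.id_comp]

/-- **The coincidence locus of two subgroups of multiplicative type, one of which is central, is open and closed.** -/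
theorem exists_clopen_eq [IsSeparated G.hom] (hG : IsLocallyNoetherian S ∨ LocallyOfFiniteType G.hom)
    (h₁ : SGA3x.IsMultTypeFT H₁) (h₂ : SGA3x.IsMultTypeFT H₂) (i₁ : H₁ ⟶ G) [IsMonHom i₁] [IsImmersion i₁.left]
    (i₂ : H₂ ⟶ G) [IsMonHom i₂] [IsImmersion i₂.left]
    (hc : ∀ (X : Over S) (g : X ⟶ G) (h : X ⟶ H₁), g * (h ≫ i₁) = (h ≫ i₁) * g) :
    ∃ U : S.Opens, IsClosed (U : Set S) ∧
      (∀ s : S, s ∈ U ↔ ∃ ψ : Red.bc (S.fromSpecResidueField s) H₁ ≅ Red.bc (S.fromSpecResidueField s) H₂,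
        ψ.hom ≫ (Over.pullback (S.fromSpecResidueField s)).map i₂ =
          (Over.pullback (S.fromSpecResidueField s)).map i₁) ∧
      ∃ ψ : Red.bc U.ι H₁ ≅ Red.bc U.ι H₂, ψ.hom ≫ (Over.pullback U.ι).map i₂ = (Over.pullback U.ι).map i₁ := by
  classical
  let L : Set S := inclLocus i₁ i₂ ∩ inclLocus i₂ i₁
  have hmono : ∀ {T : Scheme.{u}} (g : T ⟶ S) {H : Over S} (i : H ⟶ G) [IsImmersion i.left],
      Mono ((Over.pullback g).map i) := fun g H i _ => by
    haveI : IsImmersion ((Over.pullback g).map i).left := MorphismProperty.overPullbackMap g i ‹IsImmersion i.left›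
    exact Over.mono_of_mono_left _
  have hiso : ∀ {T : Scheme.{u}} (g : T ⟶ S) (a : Red.bc g H₁ ⟶ Red.bc g H₂) (b : Red.bc g H₂ ⟶ Red.bc g H₁),
      a ≫ (Over.pullback g).map i₂ = (Over.pullback g).map i₁ →
      b ≫ (Over.pullback g).map i₁ = (Over.pullback g).map i₂ → a ≫ b = 𝟙 _ ∧ b ≫ a = 𝟙 _ := by
    intro T g a b ha hb
    haveI := hmono g i₁
    haveI := hmono g i₂
    exact ⟨by rw [← cancel_mono ((Over.pullback g).map i₁), Category.assoc, hb, ha, Category.id_comp],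
      by rw [← cancel_mono ((Over.pullback g).map i₂), Category.assoc, ha, hb, Category.id_comp]⟩
  have hloc : ∀ s ∈ L, ∃ U : S.Opens, s ∈ U ∧ ∀ (Y : Over S), Set.range Y.hom ⊆ (U : Set S) →
      (∀ q : Y ⟶ H₁, ∃ z : Y ⟶ H₂, z ≫ i₂ = q ≫ i₁) ∧ (∀ q : Y ⟶ H₂, ∃ z : Y ⟶ H₁, z ≫ i₁ = q ≫ i₂) := by
    rintro s ⟨⟨a, ha⟩, ⟨b, hb⟩⟩
    obtain ⟨U₁, hs₁, hU₁⟩ := exists_incl_nhd hG h₁ h₂ i₁ i₂ s (central_bc _ i₁ hc) a ha
    obtain ⟨U₂, hs₂, hU₂⟩ := exists_incl_nhd hG h₂ h₁ i₂ i₁ s (fun X g h => by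
      rw [← hb, ← Category.assoc]
      exact central_bc _ i₁ hc X g (h ≫ b)) b hb
    exact ⟨U₁ ⊓ U₂, ⟨hs₁, hs₂⟩, fun Y hY =>
      ⟨hU₁ Y (hY.trans Set.inter_subset_left), hU₂ Y (hY.trans Set.inter_subset_right)⟩⟩
  have hopen : IsOpen L := by
    rw [isOpen_iff_forall_mem_open]
    intro s hs
    obtain ⟨U, hsU, hU⟩ := hloc s hs
    refine ⟨(U : Set S), fun t ht => ?_, U.2, hsU⟩
    have hsub : ∀ Y : Over S, Set.range Y.hom ⊆ Set.range (S.fromSpecResidueField t) →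
        Set.range Y.hom ⊆ (U : Set S) := fun Y hY => hY.trans (by
      rw [Scheme.range_fromSpecResidueField]; exact Set.singleton_subset_iff.2 ht)
    exact ⟨exists_bc_hom _ i₁ i₂ fun Y hY q => (hU Y (hsub Y hY)).1 q,
      exists_bc_hom _ i₂ i₁ fun Y hY q => (hU Y (hsub Y hY)).2 q⟩
  let U : S.Opens := ⟨L, hopen⟩
  refine ⟨U, (isClosed_inclLocus h₁ h₂ i₁ i₂).inter (isClosed_inclLocus h₂ h₁ i₂ i₁), fun s => ⟨?_, ?_⟩, ?_⟩
  · rintro ⟨⟨a, ha⟩, ⟨b, hb⟩⟩
    exact ⟨⟨a, b, (hiso _ a b ha hb).1, (hiso _ a b ha hb).2⟩, ha⟩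
  · rintro ⟨ψ, hψ⟩
    exact ⟨⟨ψ.hom, hψ⟩, ⟨ψ.inv, by rw [← hψ, Iso.inv_hom_id_assoc]⟩⟩
  · choose W hsW hW using fun s : U => hloc s.1 s.2
    let Ws : U → S.Opens := fun s => W s ⊓ U
    have hin : ∀ (s : U), ∀ Y : Over S, Set.range Y.hom ⊆ Set.range (Ws s).ι → Set.range Y.hom ⊆ (W s : Set S) :=
      fun s Y hY => hY.trans (by rw [Scheme.Opens.range_ι]; exact Set.inter_subset_left)
    -- glue the local comparison maps
    have glue : ∀ {H H' : Over S} [GrpObj H] [GrpObj H'] (i : H ⟶ G) (i' : H' ⟶ G) [IsImmersion i'.left],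
        (∀ (s : U) (Y : Over S), Set.range Y.hom ⊆ (W s : Set S) → ∀ q : Y ⟶ H, ∃ z : Y ⟶ H', z ≫ i' = q ≫ i) →
        ∃ a : Red.bc U.ι H ⟶ Red.bc U.ι H', a ≫ (Over.pullback U.ι).map i' = (Over.pullback U.ι).map i := by
      intro H H' _ _ i i' _ hq
      refine exists_bc_hom U.ι i i' fun Y hY q => ?_
      have hY' : ∀ y : Y.left, Y.hom y ∈ U := fun y => (Scheme.Opens.range_ι U).le (hY ⟨y, rfl⟩)
      let cov : Y.left.OpenCover := Scheme.openCoverOfIsOpenCover Y.left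
        (fun y : Y.left => Y.hom ⁻¹ᵁ W ⟨Y.hom y, hY' y⟩)
        (eq_top_iff.2 fun y _ => Opens.mem_iSup.2 ⟨y, hsW ⟨Y.hom y, hY' y⟩⟩)
      have hloc' : ∀ y, ∃ z : Over.mk (cov.f y ≫ Y.hom) ⟶ H', z ≫ i' = (Over.homMk (cov.f y) rfl : _ ⟶ Y) ≫ q ≫ i := by
        intro y
        obtain ⟨z, hz⟩ := hq ⟨Y.hom y, hY' y⟩ (Over.mk (cov.f y ≫ Y.hom)) (by
          rintro _ ⟨t, rfl⟩
          exact t.2) ((Over.homMk (cov.f y) rfl : _ ⟶ Y) ≫ q)
        exact ⟨z, by rw [hz, Category.assoc]⟩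
      choose z hz using hloc'
      haveI : Mono i'.left := inferInstance
      have hzl : ∀ y, (z y).left ≫ i'.left = cov.f y ≫ q.left ≫ i.left := fun y =>
        congrArg (fun m => m.left) (hz y)
      let zl : Y.left ⟶ H'.left := cov.glueMorphisms (fun y => (z y).left) (by
        intro y y'
        rw [← cancel_mono i'.left, Category.assoc, Category.assoc, hzl, hzl, ← Category.assoc, ← Category.assoc (pullback.snd (cov.f y) (cov.f y')),
          pullback.condition])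
      have hzi : zl ≫ i'.left = q.left ≫ i.left := cov.hom_ext _ _ fun y => by
        rw [← Category.assoc, cov.ι_glueMorphisms, hzl]
      refine ⟨Over.homMk zl ?_, Over.OverMorphism.ext hzi⟩
      rw [← Over.w i', ← Category.assoc, hzi]
      exact Over.w (q ≫ i)
    obtain ⟨a, ha⟩ := glue i₁ i₂ fun s Y hY => (hW s Y hY).1
    obtain ⟨b, hb⟩ := glue i₂ i₁ fun s Y hY => (hW s Y hY).2
    exact ⟨⟨a, b, (hiso _ a b ha hb).1, (hiso _ a b ha hb).2⟩, ha⟩

end Groth.Agent.MTBridge
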