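import Groth.Agent.MTBridge.NilHom
import Mathlib

/-!
# Homomorphisms of the reductions lift
-/

set_option autoImplicit false
set_option linter.style.haveILetI false
set_option backward.isDefEq.respectTransparency false
set_option maxHeartbeats 1000000
set_option synthInstance.maxHeartbeats 400000

universe u

open CategoryTheory MonoidalCategory CartesianMonoidalCategory AlgebraicGeometry
open scoped MonObj

noncomputable section

namespace Groth.Agent.MTBridge

variable {R : Type u} [CommRing R] {J : Ideal R} {H G : Over (Spec (CommRingCat.of R))}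

/-- An object over the quotient, transported. -/
def mapIso' {X : Over (Spec (CommRingCat.of R))} (p : X ⟶ Over.mk (qJ J)) :
    (Over.map (qJ J)).obj (Over.mk p.left) ≅ X :=
  Over.isoMk (Iso.refl _) (by simpa using (Over.w p).symm)

/-- The value of a morphism of reductions on a point over the quotient. -/
def push (f₀ : Red.bc (qJ J) H ⟶ Red.bc (qJ J) G) {X : Over (Spec (CommRingCat.of R))} (p : X ⟶ Over.mk (qJ J))
    (x : X ⟶ H) : X ⟶ G :=
  (mapIso' p).inv ≫ fromBC (qJ J) (toBC (qJ J) ((mapIso' p).hom ≫ x) ≫ f₀)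

theorem comp_push (f₀ : Red.bc (qJ J) H ⟶ Red.bc (qJ J) G) {X X' : Over (Spec (CommRingCat.of R))} (b : X' ⟶ X)
    (p : X ⟶ Over.mk (qJ J)) (p' : X' ⟶ Over.mk (qJ J)) (x : X ⟶ H) :
    b ≫ push f₀ p x = push f₀ p' (b ≫ x) := by
  obtain rfl := qJ_ext p' (b ≫ p)
  let b₀ : Over.mk (b ≫ p).left ⟶ Over.mk p.left := Over.homMk b.left
  have h : (mapIso' (b ≫ p)).hom ≫ b = (Over.map (qJ J)).map b₀ ≫ (mapIso' p).hom := by
    apply Over.OverMorphism.ext
    show 𝟙 _ ≫ b.left = b.left ≫ 𝟙 _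
    rw [Category.id_comp, Category.comp_id]
  have hnat : ∀ (a : (Over.map (qJ J)).obj (Over.mk p.left) ⟶ H),
      b₀ ≫ toBC (qJ J) a = toBC (qJ J) ((Over.map (qJ J)).map b₀ ≫ a) := fun a =>
    ((Over.mapPullbackAdj (qJ J)).homEquiv_naturality_left b₀ a).symm
  rw [push, push, ← cancel_epi (mapIso' (b ≫ p)).hom, Iso.hom_inv_id_assoc, reassoc_of% h, Iso.hom_inv_id_assoc,
    ← fromBC_comp, ← Category.assoc b₀, hnat, reassoc_of% h]

theorem push_mul [GrpObj H] [GrpObj G] (f₀ : Red.bc (qJ J) H ⟶ Red.bc (qJ J) G) [IsMonHom f₀]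
    {X : Over (Spec (CommRingCat.of R))} (p : X ⟶ Over.mk (qJ J)) (x y : X ⟶ H) :
    push f₀ p (x * y) = push f₀ p x * push f₀ p y := by
  rw [push, push, push, MonObj.comp_mul, toBC_mul, MonObj.mul_comp, fromBC_mul, MonObj.comp_mul]

theorem push_self (f₀ : Red.bc (qJ J) H ⟶ Red.bc (qJ J) G) (Y : Over (Spec (CommRingCat.of (R ⧸ J))))
    (x : (Over.map (qJ J)).obj Y ⟶ H) :
    push f₀ (mapToMk (qJ J) Y) x = fromBC (qJ J) (toBC (qJ J) x ≫ f₀) := by
  have h : mapIso' (mapToMk (qJ J) Y) = Iso.refl _ := Iso.ext (Over.OverMorphism.ext rfl)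
  rw [push, h]
  exact (Category.id_comp _).trans (by rw [Iso.refl_hom, Category.id_comp])

/-- **Homomorphisms from a group of multiplicative type lift along nilpotent thickenings into smooth groups.** -/
theorem exists_hom_lift_bc_of_iso [GrpObj H] [GrpObj G] (hJ : IsNilpotent J)
    {A : Type u} [CommRing A] [HopfAlgebra R A] (hA : SGA3b.IsMultType R A) (e : Grp.mk H ≅ specGrp R A)
    (hG : Smooth G.hom) (f₀ : Red.bc (qJ J) H ⟶ Red.bc (qJ J) G) [IsMonHom f₀] :
    ∃ f : H ⟶ G, IsMonHom f ∧ (Over.pullback (qJ J)).map f = f₀ := by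
  let k : (specGrp R A).X ⟶ H := e.inv.hom.hom
  haveI : IsMonHom k := inferInstanceAs (IsMonHom e.inv.hom.hom)
  let A₀ := A ⧸ J.map (algebraMap R A)
  have hA₀ : ∀ c ∈ J, algebraMap R A₀ c = 0 := fun c hc => by
    rw [IsScalarTower.algebraMap_apply R A A₀, Ideal.Quotient.algebraMap_eq, Ideal.Quotient.eq_zero_iff_mem]
    exact Ideal.mem_map_of_mem _ hc
  obtain ⟨p₀⟩ := exists_qJ_of_killed (T := A₀) hA₀
  obtain ⟨f₁, hf₁⟩ : ∃ f₁ : (specGrp R A).X ⟶ G, quotPt A J ≫ f₁ = push f₀ p₀ (quotPt A J ≫ k) := by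
    haveI := hG
    obtain ⟨n, hn⟩ := hJ
    obtain ⟨c, hc1, hc2⟩ := exists_lift_of_smooth_nil G.hom n (Ideal.Quotient.mkₐ R (J.map (algebraMap R A))).toRingHom
      Ideal.Quotient.mk_surjective (by
        show RingHom.ker (Ideal.Quotient.mk (J.map (algebraMap R A))) ^ n = ⊥
        rw [Ideal.mk_ker, ← Ideal.map_pow, hn, Ideal.zero_eq_bot, Ideal.map_bot])
      (push f₀ p₀ (quotPt A J ≫ k)).left (specGrp R A).X.hom
      ((Over.w (quotPt A J)).trans (Over.w (push f₀ p₀ (quotPt A J ≫ k))).symm)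
    exact ⟨Over.homMk c hc2, Over.OverMorphism.ext hc1⟩
  have hval : ∀ (X : Over (Spec (CommRingCat.of R))) (p : X ⟶ Over.mk (qJ J)) (x : X ⟶ (specGrp R A).X),
      x ≫ f₁ = push f₀ p (x ≫ k) := fun X p x => by
    obtain ⟨b, rfl⟩ := exists_factor_quot p x
    rw [Category.assoc, Category.assoc, hf₁, comp_push f₀ b p₀ p]
  obtain ⟨f₂, hf₂, hf₂v⟩ := exists_hom_lift_nil_smooth hA hG hJ f₁ (fun T _ _ hT x y => by
    obtain ⟨p⟩ := exists_qJ_of_killed hT
    rw [hval _ p, hval _ p, hval _ p, MonObj.mul_comp, push_mul])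
  refine ⟨e.hom.hom.hom ≫ f₂, inferInstanceAs (IsMonHom (e.hom.hom.hom ≫ f₂)), ?_⟩
  let h := fromBC (qJ J) (𝟙 (Red.bc (qJ J) H))
  have he : e.hom.hom.hom ≫ k = 𝟙 _ := ((Grp.forget _).mapIso e).hom_inv_id
  have h1 : h ≫ e.hom.hom.hom ≫ f₂ = fromBC (qJ J) f₀ := by
    rw [← Category.assoc, hf₂v _ (mapToMk (qJ J) _), hval _ (mapToMk (qJ J) _), Category.assoc, he, Category.comp_id,
      push_self, toBC_fromBC, Category.id_comp]
  have h2 := congrArg (toBC (qJ J)) h1
  rwa [toBC_fromBC, toBC_comp, toBC_fromBC, Category.id_comp] at h2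

/-- **Homomorphisms from a group of multiplicative type lift along nilpotent thickenings into smooth groups.** -/
theorem exists_hom_lift_bc [GrpObj H] [GrpObj G] (hJ : IsNilpotent J)
    (hH : TwC.Locally (Spec (CommRingCat.of R)) TwC.Topology.fpqc (fun S' f => ∃ (M : Type) (_ : AddCommGroup M), Nonempty (Grp.mk (Red.bc f H) ≅ Grp.mk (Red.DS S' M))))
    (hG : Smooth G.hom) (f₀ : Red.bc (qJ J) H ⟶ Red.bc (qJ J) G) [IsMonHom f₀] :
    ∃ f : H ⟶ G, IsMonHom f ∧ (Over.pullback (qJ J)).map f = f₀ := by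
  obtain ⟨A, _, _, hA, ⟨e⟩⟩ := exists_hopf_of_locally H hH
  exact exists_hom_lift_bc_of_iso hJ hA e hG f₀

end Groth.Agent.MTBridge
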