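import Groth.Agent.MTBridge.FixedLift
import Groth.Agent.MTBridge.Transporter
import Groth.Agent.MTBridge.Centralizer
import Groth.Agent.MTBridge.EtaleConj
import Mathlib

/-!
# The fixed locus of a group of multiplicative type
-/

set_option autoImplicit false
set_option linter.style.haveILetI false
set_option backward.isDefEq.respectTransparency false
set_option maxHeartbeats 1000000
set_option synthInstance.maxHeartbeats 400000

universe u

open CategoryTheory Limits MonoidalCategory CartesianMonoidalCategory AlgebraicGeometry TensorProduct Opposite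
open scoped CategoryTheory.Obj MonObj

noncomputable section

namespace Groth.Agent.MTBridge

/-- Fixed points lift, affine base. -/
theorem exists_fixed_lift_spec {R : Type u} [CommRing R] {H X : Over (Spec (CommRingCat.of R))} [GrpObj H]
    {J : Ideal R} (hJ : J ^ 2 = ⊥)
    (hH : TwC.Locally (Spec (CommRingCat.of R)) TwC.Topology.fpqc (fun S' f => ∃ (M : Type) (_ : AddCommGroup M), Nonempty (Grp.mk (Red.bc f H) ≅ Grp.mk (Red.DS S' M))))
    (hX : Smooth X.hom) (α : ∀ {Y : Over (Spec (CommRingCat.of R))}, (Y ⟶ H) → (Y ⟶ X) → (Y ⟶ X))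
    (hcomp : ∀ {Y Y' : Over (Spec (CommRingCat.of R))} (b : Y' ⟶ Y) (g : Y ⟶ H) (x : Y ⟶ X),
      b ≫ α g x = α (b ≫ g) (b ≫ x))
    (hmul : ∀ {Y : Over (Spec (CommRingCat.of R))} (g h : Y ⟶ H) (x : Y ⟶ X), α (g * h) x = α g (α h x))
    (x₀ : Over.mk (qJ J) ⟶ X)
    (h0 : ∀ (Y : Over (Spec (CommRingCat.of R))) (p : Y ⟶ Over.mk (qJ J)) (g : Y ⟶ H), α g (p ≫ x₀) = p ≫ x₀) :
    ∃ x : 𝟙_ (Over (Spec (CommRingCat.of R))) ⟶ X, toUnit (Over.mk (qJ J)) ≫ x = x₀ ∧
      ∀ (Y : Over (Spec (CommRingCat.of R))) (g : Y ⟶ H), α g (toUnit Y ≫ x) = toUnit Y ≫ x := by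
  haveI := hX
  obtain ⟨l, hl1, hl2⟩ := Groth.Agent.InfLift.isFormallySmoothHom_of_smooth X.hom R J hJ x₀.left (𝟙 _)
    (by rw [Category.comp_id]; exact (Over.w x₀).symm)
  obtain ⟨A, _, _, hA, ⟨e⟩⟩ := exists_hopf_of_locally H hH
  let x₁ : Pt X R := Over.homMk l (by rw [specR_hom_eq_id]; exact hl2)
  have hx₁ : ∀ (Y : Over (Spec (CommRingCat.of R))) (p : Y ⟶ Over.mk (qJ J))
      (k : Y ⟶ (Spec (CommRingCat.of R)).asOver (Spec (CommRingCat.of R))), k ≫ x₁ = p ≫ x₀ := by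
    intro Y p k
    let i₀ : Over.mk (qJ J) ⟶ (Spec (CommRingCat.of R)).asOver (Spec (CommRingCat.of R)) :=
      Over.homMk (qJ J) (by rw [specR_hom_eq_id]; exact Category.comp_id _)
    rw [toSpecR_ext k (p ≫ i₀), Category.assoc]
    congr 1
    exact Over.OverMorphism.ext hl1
  obtain ⟨x, hx, hfix⟩ := exists_fixed_sq hJ hA (X := X) (fun g x => α (g ≫ e.inv.hom.hom) x)
    (fun b g x => by rw [hcomp, Category.assoc]) (fun g h x => by rw [MonObj.mul_comp, hmul])
    x₁ (fun Y p g k => by rw [hx₁ Y p k, h0 Y p])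
  obtain ⟨x', hx'⟩ := exists_section X x
  refine ⟨x', ?_, fun Y g => ?_⟩
  · let i₀ : Over.mk (qJ J) ⟶ (Spec (CommRingCat.of R)).asOver (Spec (CommRingCat.of R)) :=
      Over.homMk (qJ J) (by rw [specR_hom_eq_id]; exact Category.comp_id _)
    rw [← hx' _ i₀]
    refine Eq.trans ?_ ((hx₁ _ (𝟙 _) i₀).trans (Category.id_comp x₀))
    exact Over.OverMorphism.ext (congrArg (fun k => k.left) hx)
  · let k₀ : Y ⟶ (Spec (CommRingCat.of R)).asOver (Spec (CommRingCat.of R)) :=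
      Over.homMk Y.hom (by rw [specR_hom_eq_id]; exact Category.comp_id _)
    have h := hfix Y (g ≫ e.hom.hom.hom) k₀
    have he : e.hom.hom.hom ≫ e.inv.hom.hom = 𝟙 _ := ((Grp.forget _).mapIso e).hom_inv_id
    rw [hx' _ k₀, Category.assoc, he, Category.comp_id] at h
    exact h

variable {S : Scheme.{u}}

/-- Fixed points lift along square-zero extensions. -/
theorem exists_fixed_lift {H X : Over S} [GrpObj H]
    (hH : TwC.Locally S TwC.Topology.fpqc (fun S' f => ∃ (M : Type) (_ : AddCommGroup M), Nonempty (Grp.mk (Red.bc f H) ≅ Grp.mk (Red.DS S' M))))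
    (hX : Smooth X.hom) (a : AlgGrp.Action H X)
    (A : Type u) [CommRing A] (I : Ideal A) (hI : I ^ 2 = ⊥) (b : Spec (CommRingCat.of A) ⟶ S)
    (x₀ : (Over.map b).obj (Over.mk (qJ I)) ⟶ X)
    (h0 : ∀ (X' : Over S) (x : X' ⟶ (Over.map b).obj (Over.mk (qJ I))) (g : X' ⟶ H),
      lift g (x ≫ x₀) ≫ a.act = x ≫ x₀) :
    ∃ y : (Over.map b).obj (𝟙_ (Over (Spec (CommRingCat.of A)))) ⟶ X,
      (Over.map b).map (toUnit _) ≫ y = x₀ ∧
      ∀ (X' : Over S) (x : X' ⟶ (Over.map b).obj (𝟙_ (Over (Spec (CommRingCat.of A))))) (g : X' ⟶ H),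
        lift g (x ≫ y) ≫ a.act = x ≫ y := by
  obtain ⟨k, hk, hfix⟩ := exists_fixed_lift_spec (H := Red.bc b H) (X := Red.bc b X) hI (locally_bc H b hH)
    (MorphismProperty.pullback_snd _ _ hX) (fun g x => actBC a b g x) (actBC_comp a b) (actBC_mul a b)
    (toBC b x₀) (fun Y p g => by
      rw [actBC, fromBC_comp, fromBC_toBC, h0 _ ((Over.map b).map p) (fromBC b g)]
      exact toBC_precomp b p x₀)
  refine ⟨fromBC b k, ?_, fun X' x g => ?_⟩
  · rw [← fromBC_comp, hk, fromBC_toBC]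
  · let ε : (Over.map b).obj (Over.mk x.left) ≅ X' := Over.isoMk (Iso.refl _) (by simpa using (Over.w x).symm)
    have h1 := congrArg (fromBC b) (hfix (Over.mk x.left) (toBC b (ε.hom ≫ g)))
    rw [actBC, fromBC_toBC, fromBC_toBC, fromBC_comp] at h1
    have h2 : (Over.map b).map (toUnit (Over.mk x.left)) = ε.hom ≫ x := by
      apply Over.OverMorphism.ext
      simp [ε]
    rw [h2, Category.assoc, ← comp_lift, Category.assoc] at h1
    exact (cancel_epi ε.hom).1 h1

/-- The fixed locus is closed, of finite presentation and smooth. -/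
theorem exists_fixed_locus (H X : Over S) [GrpObj H] (hH : SGA3x.IsMultTypeFT H) [Smooth X.hom] [IsSeparated X.hom]
    (a : AlgGrp.Action H X) :
    ∃ (Z : Over S) (z : Z ⟶ X), IsClosedImmersion z.left ∧ Smooth Z.hom ∧
      ∀ (Y : Over S) (x : Y ⟶ X), (∃ w : Y ⟶ Z, w ≫ z = x) ↔
        ∀ (Y' : Over S) (f : Y' ⟶ Y) (g : Y' ⟶ H), lift g (f ≫ x) ≫ a.act = f ≫ x := by
  haveI := isAffineHom H hH
  have hH' := locally_of_isMultTypeFT' H hH
  haveI := isClosedImmersion_lift_id X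
  haveI := lfp_lift_id X
  obtain ⟨W, j, hj, hjf, hW⟩ := ClosedRep.exists_closed_preimage_essFree_lfp
    (lift a.act (snd H X)) (lift (𝟙 X) (𝟙 X)) (isEssentiallyFree H hH')
  have hW' : ∀ (Y : Over S) (x : Y ⟶ X), (∃ w : Y ⟶ W, w ≫ j = x) ↔
      ∀ (Y' : Over S) (f : Y' ⟶ Y) (g : Y' ⟶ H), lift g (f ≫ x) ≫ a.act = f ≫ x := fun Y x => by
    refine (hW Y x).trans (forall₃_congr fun Y' f g => ?_)
    rw [comp_lift, lift_snd]
    constructor
    · rintro ⟨c, hc⟩
      rw [comp_lift, Category.comp_id] at hc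
      have h1 := congrArg (fun k => k ≫ fst X X) hc
      have h2 := congrArg (fun k => k ≫ snd X X) hc
      simp only [lift_fst, lift_snd] at h1 h2
      exact h1.trans h2.symm
    · intro h1
      exact ⟨f ≫ x, by rw [comp_lift, Category.comp_id, h1]⟩
  haveI := hj
  refine ⟨W, j, hj, smooth_of_lift j fun A _ I hI b g₀ h0 => ?_, hW'⟩
  obtain ⟨g, hg, hg'⟩ := exists_fixed_lift hH' inferInstance a A I hI b g₀ ((hW' _ _).1 h0)
  exact ⟨g, hg, (hW' _ _).2 hg'⟩

end Groth.Agent.MTBridge
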