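import Groth.Agent.MTBridge.Subgroups
import Mathlib

/-!
# The locus where two subgroups of multiplicative type coincide is open and closed
-/

set_option autoImplicit false
set_option linter.style.haveILetI false
set_option linter.unusedSectionVars false
set_option backward.isDefEq.respectTransparency false
set_option maxHeartbeats 1000000
set_option synthInstance.maxHeartbeats 400000

universe u

open CategoryTheory Limits MonoidalCategory CartesianMonoidalCategory AlgebraicGeometry TensorProduct Opposite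
open TopologicalSpace WithConv
open scoped CategoryTheory.Obj MonObj

noncomputable section

namespace Groth.Agent.MTBridge

variable {R : Type u} [CommRing R]

theorem pt_pow {A T : Type u} [CommRing A] [HopfAlgebra R A] [CommRing T] [Algebra R T] (φ : A →ₐ[R] T) (n : ℕ) :
    (toConv φ) ^ n = toConv (φ.comp (SGA3b.powConv R A n)) := by
  induction n with
  | zero =>
    refine ofConv_injective (AlgHom.ext fun a => ?_)
    simp [SGA3b.powConv, AlgHom.convOne_apply]
  | succ k ih =>
    have h := AlgHom.comp_convMul_distrib φ ((toConv (AlgHom.id R A)) ^ k) (toConv (AlgHom.id R A))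
    refine ofConv_injective ?_
    show ((toConv φ) ^ (k + 1)).ofConv = φ.comp ((toConv (AlgHom.id R A)) ^ (k + 1)).ofConv
    rw [pow_succ, pow_succ, ih, h]
    simp [SGA3b.powConv]

/-- A point is killed by `n` exactly when it kills the torsion ideal. -/
theorem pt_pow_eq_one_iff {A T : Type u} [CommRing A] [HopfAlgebra R A] [CommRing T] [Algebra R T] (φ : A →ₐ[R] T)
    (n : ℕ) : (pt (toConv φ)) ^ n = 1 ↔ SGA3b.torsionIdeal R A n ≤ RingHom.ker φ := by
  have h1 : (1 : (Spec (CommRingCat.of T)).asOver (Spec (CommRingCat.of R)) ⟶ (specGrp R A).X) =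
      pt (1 : WithConv (A →ₐ[R] T)) := (map_one (Spec.mapMulEquiv (R := R) (S := A) (T := T))).symm
  show (Spec.mapMulEquiv (toConv φ)) ^ n = 1 ↔ _
  rw [h1, ← map_pow, (Spec.mapMulEquiv (R := R) (S := A) (T := T)).injective.eq_iff, pt_pow]
  constructor
  · intro h
    refine Ideal.map_le_iff_le_comap.2 fun v hv => ?_
    have hv0 : Coalgebra.counit (R := R) v = 0 := hv
    have := congrArg (fun f : WithConv (A →ₐ[R] T) => f.ofConv v) h
    simp only [ofConv_toConv, AlgHom.comp_apply, AlgHom.convOne_apply, hv0, map_zero] at this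
    exact this
  · intro h
    refine ofConv_injective (AlgHom.ext fun v => ?_)
    have hm : SGA3b.powConv R A n (v - algebraMap R A (Coalgebra.counit (R := R) v)) ∈ SGA3b.torsionIdeal R A n :=
      Ideal.mem_map_of_mem _ (by simp [RingHom.mem_ker])
    have := h hm
    rw [RingHom.mem_ker, map_sub, map_sub, AlgHom.commutes, AlgHom.commutes, sub_eq_zero] at this
    simp only [ofConv_toConv, AlgHom.comp_apply, AlgHom.convOne_apply]
    exact this

variable {G : Over (Spec (CommRingCat.of R))} [GrpObj G] {A A' : Type u} [CommRing A] [HopfAlgebra R A]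
  [CommRing A'] [HopfAlgebra R A']

/-- The locus of the base where the torsion of level `n` is included is closed. -/
theorem exists_torsion_ideal [IsSeparated G.hom] (hA : SGA3b.IsMultType R A) [Algebra.FiniteType R A]
    (hA' : SGA3b.IsMultType R A') [Algebra.FiniteType R A'] (u : (specGrp R A).X ⟶ G) [IsMonHom u]
    (v : (specGrp R A').X ⟶ G) [IsMonHom v] [IsImmersion v.left] (n : ℕ) (hn : 0 < n) :
    ∃ K : Ideal R, ∀ (W : Type u) [CommRing W] [Algebra R W],
      InIm v (spMap (Algebra.TensorProduct.includeRight : A ⧸ SGA3b.torsionIdeal R A n →ₐ[R]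
        W ⊗[R] (A ⧸ SGA3b.torsionIdeal R A n)) ≫ pt (toConv (Ideal.Quotient.mkₐ R (SGA3b.torsionIdeal R A n))) ≫ u) ↔
      K ≤ RingHom.ker (algebraMap R W) := by
  classical
  haveI : Coalgebra.IsCocomm R A := Groth.Agent.MultT.isCocomm hA
  haveI : Coalgebra.IsCocomm R A' := Groth.Agent.MultT.isCocomm hA'
  let T := SGA3b.torsionIdeal R A n
  let T' := SGA3b.torsionIdeal R A' n
  haveI : T.IsHopfIdeal R := Groth.Agent.MultT.isHopfIdeal_torsion n
  haveI : T'.IsHopfIdeal R := Groth.Agent.MultT.isHopfIdeal_torsion n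
  obtain ⟨hT, hTf⟩ := Groth.Agent.S5242.result R A inferInstance hA n hn T rfl
  obtain ⟨hT', hTf'⟩ := Groth.Agent.S5242.result R A' inferInstance hA' n hn T' rfl
  haveI := hTf
  haveI := hTf'
  haveI : Module.Projective R (A ⧸ T) := Groth.Agent.MultT.projective hT
  haveI : Mono v.left := inferInstance
  haveI : Mono v := Over.mono_of_mono_left v
  -- the torsion of the second group is closed in `G`
  let ι' : (Spec (CommRingCat.of (A' ⧸ T'))).asOver (Spec (CommRingCat.of R)) ⟶ (specGrp R A').X :=
    pt (toConv (Ideal.Quotient.mkₐ R T'))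
  let w := ι' ≫ v
  haveI : IsImmersion w.left := by
    haveI : IsClosedImmersion ι'.left :=
      IsClosedImmersion.spec_of_surjective (CommRingCat.ofHom (Ideal.Quotient.mkₐ R T').toRingHom)
        Ideal.Quotient.mk_surjective
    show IsImmersion (ι'.left ≫ v.left)
    infer_instance
  haveI : UniversallyClosed w.left := by
    haveI : IsFinite (Spec.map (CommRingCat.ofHom (algebraMap R (A' ⧸ T')))) :=
      (IsFinite.SpecMap_iff _).2 (RingHom.finite_algebraMap.2 hTf')
    haveI : UniversallyClosed (w.left ≫ G.hom) := by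
      rw [Over.w w]
      show UniversallyClosed (Spec.map (CommRingCat.ofHom (algebraMap R (A' ⧸ T'))))
      infer_instance
    exact UniversallyClosed.of_comp_of_isSeparated w.left G.hom
  let xn : Pt G (A ⧸ T) := pt (toConv (Ideal.Quotient.mkₐ R T)) ≫ u
  have hcl : IsClosed (imLocus w xn) := by
    haveI : UniversallyClosed (pullback.snd w.left xn.left) := MorphismProperty.pullback_snd _ _ inferInstance
    exact (pullback.snd w.left xn.left).isClosedMap.isClosed_range
  obtain ⟨J, -, hJ⟩ := exists_factor_ideal w xn hcl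
  have hvw : ∀ (W : Type u) [CommRing W] [Algebra R W] (h : (A ⧸ T) →ₐ[R] W),
      InIm v (spMap h ≫ xn) ↔ InIm w (spMap h ≫ xn) := by
    intro W _ _ h
    refine ⟨fun ⟨z, hz⟩ => ?_, fun ⟨z, hz⟩ => ⟨z ≫ ι', by rw [hz, Category.assoc]⟩⟩
    obtain ⟨φ, rfl⟩ : ∃ φ, pt φ = z := (Spec.mapMulEquiv (R := R) (S := A')).surjective z
    obtain ⟨φ, rfl⟩ : ∃ f, toConv f = φ := ⟨φ.ofConv, rfl⟩
    have hq : (pt (toConv (h.comp (Ideal.Quotient.mkₐ R T)))) ^ n = 1 := by
      rw [pt_pow_eq_one_iff]
      intro a ha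
      rw [RingHom.mem_ker, AlgHom.comp_apply, Ideal.Quotient.mkₐ_eq_mk, Ideal.Quotient.eq_zero_iff_mem.2 ha, map_zero]
    have hn1 : (pt (toConv φ)) ^ n = 1 := by
      rw [← cancel_mono v, MonObj.pow_comp, MonObj.one_comp, ← hz]
      show (spMap h ≫ pt (toConv (Ideal.Quotient.mkₐ R T)) ≫ u) ^ n = 1
      rw [← Category.assoc, spMap_pt, ← MonObj.pow_comp]
      simp only [ofConv_toConv]
      rw [hq, MonObj.one_comp]
    have hle := (pt_pow_eq_one_iff φ n).1 hn1
    refine ⟨Over.homMk (Spec.map (CommRingCat.ofHom (Ideal.Quotient.liftₐ T' φ fun a ha => hle ha).toRingHom)) ?_, ?_⟩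
    · show Spec.map _ ≫ Spec.map (CommRingCat.ofHom (algebraMap R (A' ⧸ T'))) = Spec.map (CommRingCat.ofHom (algebraMap R W))
      rw [← Spec.map_comp, ← CommRingCat.ofHom_comp,
        show (Ideal.Quotient.liftₐ T' φ fun a ha => hle ha).toRingHom.comp (algebraMap R (A' ⧸ T')) = algebraMap R W from
          (Ideal.Quotient.liftₐ T' φ fun a ha => hle ha).comp_algebraMap]
    · rw [hz, ← Category.assoc]
      refine congrArg (fun m => m ≫ v) (Over.OverMorphism.ext ?_)
      show (pt (toConv φ)).left = Spec.map _ ≫ ι'.left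
      rw [pt_left, pt_left, ← Spec.map_comp, ← CommRingCat.ofHom_comp]
      rfl
  obtain ⟨d, π, co, -, -, hπ⟩ := Module.Finite.exists_comp_eq_id_of_projective R (A ⧸ T)
  refine ⟨Ideal.span {r | ∃ z ∈ J, ∃ i, co z i = r}, fun W _ _ => ?_⟩
  refine Iff.trans ((hvw (W ⊗[R] (A ⧸ T)) Algebra.TensorProduct.includeRight).trans (hJ (W ⊗[R] (A ⧸ T)) _))
    ⟨fun h => Ideal.span_le.2 ?_, fun h z hz => ?_⟩
  · rintro _ ⟨z, hz, i, rfl⟩
    have h1 : (1 : W) ⊗ₜ[R] z = 0 := h hz
    have h2 := congrArg ((TensorProduct.rid R W).toLinearMap ∘ₗ ((LinearMap.proj i).comp co).lTensor W) h1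
    simp only [LinearMap.comp_apply, LinearEquiv.coe_coe, LinearMap.lTensor_tmul, TensorProduct.rid_tmul,
      map_zero, LinearMap.coe_comp, Function.comp_apply, LinearMap.proj_apply] at h2
    rw [SetLike.mem_coe, RingHom.mem_ker, Algebra.algebraMap_eq_smul_one]
    exact h2
  · rw [RingHom.mem_ker]
    show (1 : W) ⊗ₜ[R] z = 0
    rw [show z = π (co z) from (LinearMap.congr_fun hπ z).symm, show co z = ∑ i, co z i • Pi.single i (1 : R) from by
      ext j; simp [Finset.sum_apply, Pi.single_apply], map_sum, TensorProduct.tmul_sum]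
    refine Finset.sum_eq_zero fun i _ => ?_
    have hri : algebraMap R W (co z i) = 0 := h (Ideal.subset_span ⟨z, hz, i, rfl⟩)
    rw [map_smul, ← TensorProduct.smul_tmul, ← Algebra.algebraMap_eq_smul_one, hri, TensorProduct.zero_tmul]

/-- The locus of the base where the first subgroup is included in the second is closed. -/
theorem isClosed_incl_affine [IsSeparated G.hom] (hA : SGA3b.IsMultType R A) [Algebra.FiniteType R A]
    (hA' : SGA3b.IsMultType R A') [Algebra.FiniteType R A'] (u : (specGrp R A).X ⟶ G) [IsMonHom u]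
    (v : (specGrp R A').X ⟶ G) [IsMonHom v] [IsImmersion v.left] :
    IsClosed {p : PrimeSpectrum R |
      InIm v (pt (toConv (Algebra.TensorProduct.includeRight : A →ₐ[R] p.asIdeal.ResidueField ⊗[R] A)) ≫ u)} := by
  choose K hK using fun n : {n : ℕ // 0 < n} => exists_torsion_ideal hA hA' u v n.1 n.2
  have key : {p : PrimeSpectrum R |
      InIm v (pt (toConv (Algebra.TensorProduct.includeRight : A →ₐ[R] p.asIdeal.ResidueField ⊗[R] A)) ≫ u)} =
      ⋂ n, PrimeSpectrum.zeroLocus (K n : Set R) := by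
    ext p
    let κ := p.asIdeal.ResidueField
    have hn : ∀ n : {n : ℕ // 0 < n}, p ∈ PrimeSpectrum.zeroLocus (K n : Set R) ↔
        InIm v (spMap (Algebra.TensorProduct.map (AlgHom.id R κ)
          (Ideal.Quotient.mkₐ R (SGA3b.torsionIdeal R A n.1))) ≫
          pt (toConv (Algebra.TensorProduct.includeRight : A →ₐ[R] κ ⊗[R] A)) ≫ u) := by
      intro n
      have e : spMap (Algebra.TensorProduct.map (AlgHom.id R κ)
            (Ideal.Quotient.mkₐ R (SGA3b.torsionIdeal R A n.1))) ≫
            pt (toConv (Algebra.TensorProduct.includeRight : A →ₐ[R] κ ⊗[R] A)) ≫ u =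
          spMap (Algebra.TensorProduct.includeRight : A ⧸ SGA3b.torsionIdeal R A n.1 →ₐ[R]
            κ ⊗[R] (A ⧸ SGA3b.torsionIdeal R A n.1)) ≫
            pt (toConv (Ideal.Quotient.mkₐ R (SGA3b.torsionIdeal R A n.1))) ≫ u := by
        rw [← Category.assoc, ← Category.assoc, spMap_pt, spMap_pt]
        refine congrArg (fun m => pt (toConv m) ≫ u) (AlgHom.ext fun a => ?_)
        simp
      rw [e, hK n κ, PrimeSpectrum.mem_zeroLocus, Ideal.ker_algebraMap_residueField]
      rfl
    rw [Set.mem_iInter, Set.mem_setOf_eq]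
    constructor
    · intro h n
      exact (hn n).2 (h.res _)
    · intro h
      exact char_factor hA v _ (isChar_universal u κ) fun n hn0 => (hn ⟨n, hn0⟩).1 (h ⟨n, hn0⟩)
  rw [key]
  exact isClosed_iInter fun n => PrimeSpectrum.isClosed_zeroLocus _

end Groth.Agent.MTBridge
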