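import Groth.Agent.MTBridge.ChartsAll
import Groth.Agent.MultT.BaseChange
import Mathlib

/-!
# A Hopf algebra of multiplicative type and of finite type gives a group of multiplicative type of finite type
-/

set_option autoImplicit false
set_option linter.style.haveILetI false
set_option backward.isDefEq.respectTransparency false
set_option maxHeartbeats 1000000
set_option synthInstance.maxHeartbeats 400000

universe u

open CategoryTheory Limits MonoidalCategory CartesianMonoidalCategory AlgebraicGeometry TensorProduct Opposite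
open TopologicalSpace
open scoped CategoryTheory.Obj

noncomputable section

namespace Groth.Agent.MTBridge

/-- A finitely generated commutative group has a copy in `Type`. -/
theorem exists_small_model {M : Type u} [CommGroup M] (hM : Group.FG M) :
    ∃ (N : Type) (_ : AddCommGroup N), AddGroup.FG N ∧ Nonempty (M ≃* Multiplicative N) := by
  haveI : AddGroup.FG (Additive M) := GroupFG.iff_add_fg.1 hM
  obtain ⟨n, ι, _, p, _, e, ⟨f⟩⟩ := AddCommGroup.equiv_free_prod_directSum_zmod (Additive M)
  exact ⟨_, inferInstance, (AddMonoid.fg_of_surjective f.toAddMonoidHom f.surjective) |> AddGroup.fg_iff_addMonoid_fg.2,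
    ⟨(MulEquiv.multiplicativeAdditive M).symm.trans (AddEquiv.toMultiplicative f)⟩⟩

/-- **A Hopf algebra of multiplicative type and of finite type gives a group of multiplicative type of finite type.** -/
theorem isMultTypeFT_specGrp {R A : Type u} [CommRing R] [CommRing A] [HopfAlgebra R A] [Algebra.FiniteType R A]
    (h : SGA3b.IsMultType R A) : SGA3x.IsMultTypeFT (specGrp R A).X := by
  classical
  obtain ⟨s, hs, hc⟩ := h
  obtain ⟨t, hts, ht⟩ := Submodule.mem_span_finite_of_mem_span (show (1 : R) ∈ Ideal.span s by rw [hs]; trivial)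
  choose R' iR' iA' hff hd using fun i : t => hc i.1 (hts i.2)
  letI : ∀ i : t, Algebra R (R' i) := fun i => Algebra.compHom (R' i) (algebraMap R (Localization.Away (i : R)))
  haveI : ∀ i : t, IsScalarTower R (Localization.Away (i : R)) (R' i) := fun i => .of_algebraMap_eq fun _ => rfl
  haveI : ∀ i : t, Module.Flat R (R' i) := fun i => by
    haveI := hff i
    haveI : Module.Flat R (Localization.Away (i : R)) :=
      IsLocalization.flat (Localization.Away (i : R)) (Submonoid.powers (i : R))
    exact Module.Flat.trans R (Localization.Away (i : R)) (R' i)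
  choose M iM e using hd
  let ι : Type u := ULift.{u} t
  let g : ι → Scheme.{u} := fun i => Spec (CommRingCat.of (R' i.down))
  let φ : ∀ i : ι, g i ⟶ Spec (CommRingCat.of R) := fun i => Spec.map (CommRingCat.ofHom (algebraMap R (R' i.down)))
  haveI : ∀ i, Flat (φ i) := fun i => by
    show Flat (Spec.map _)
    rw [HasRingHomProperty.Spec_iff (P := @Flat)]
    exact RingHom.flat_algebraMap_iff.2 inferInstance
  let f : (∐ g) ⟶ Spec (CommRingCat.of R) := Sigma.desc φ
  haveI hflat : Flat f := IsZariskiLocalAtSource.sigmaDesc fun i => inferInstance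
  haveI : CompactSpace ↥(∐ g) := (sigmaMk g).compactSpace
  haveI : QuasiCompact f := (quasiCompact_iff_compactSpace (f := f)).2 inferInstance
  have hsurj : Function.Surjective f.base := by
    intro p
    let p' : PrimeSpectrum R := p
    obtain ⟨i, hi⟩ : ∃ i : t, (i : R) ∉ p'.asIdeal := by
      by_contra hcon
      push_neg at hcon
      apply p'.isPrime.ne_top
      rw [Ideal.eq_top_iff_one]
      exact (Submodule.span_le.2 fun x hx => hcon ⟨x, hx⟩) ht
    obtain ⟨q, hq⟩ : p' ∈ Set.range (PrimeSpectrum.comap (algebraMap R (Localization.Away (i : R)))) := by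
      rw [PrimeSpectrum.localization_away_comap_range (Localization.Away (i : R)) (i : R)]
      exact hi
    haveI := hff i
    obtain ⟨q', hq'⟩ := PrimeSpectrum.comap_surjective_of_faithfullyFlat (A := Localization.Away (i : R)) (B := R' i) q
    refine ⟨(Sigma.ι g ⟨i⟩).base q', ?_⟩
    show ((Sigma.ι g ⟨i⟩ ≫ f)).base q' = p
    simp only [f, Sigma.ι_desc]
    show PrimeSpectrum.comap (algebraMap R (R' i)) q' = p'
    rw [IsScalarTower.algebraMap_eq R (Localization.Away (i : R)) (R' i), PrimeSpectrum.comap_comp_apply, hq', hq]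
  refine ⟨∐ g, f, hflat, ⟨hsurj⟩, fun V hV => ⟨f ⁻¹ᵁ V, f.isCompact_preimage hV.isCompact, ?_⟩, fun s' => ?_⟩
  · exact Set.image_preimage_eq _ hsurj
  obtain ⟨⟨i, z⟩, rfl⟩ := (sigmaMk g).surjective s'
  refine ⟨(Sigma.ι g i).opensRange, ⟨z, (sigmaMk_mk g i z).symm⟩, ?_⟩
  haveI : Nonempty (g i) := ⟨z⟩
  haveI : Nontrivial (R' i.down) := (PrimeSpectrum.nonempty_iff_nontrivial.1 ⟨(z : PrimeSpectrum (R' i.down))⟩)
  let e' : R' i.down ⊗[R] A ≃ₐc[R' i.down] MonoidAlgebra (R' i.down) (M i.down) :=
    (Groth.Agent.MultT.bcTrans R (Localization.Away (i.down : R)) (R' i.down) A).symm.trans (e i.down).some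
  haveI : Algebra.FiniteType (R' i.down) (MonoidAlgebra (R' i.down) (M i.down)) :=
    Algebra.FiniteType.equiv inferInstance (e' : R' i.down ⊗[R] A ≃ₐ[R' i.down] _)
  have hfg : Group.FG (M i.down) := (MonoidAlgebra.finiteType_iff_group_fg (R := R' i.down)).1 inferInstance
  obtain ⟨N, hN, hNfg, ⟨σ⟩⟩ := exists_small_model hfg
  refine ⟨N, hN, hNfg, ?_⟩
  obtain ⟨e₁⟩ := nonempty_bc_specGrp R (R' i.down) A
  obtain ⟨e₂⟩ := nonempty_specGrp_iso (e'.trans (MonoidAlgebra.domCongrBialgEquiv (R' i.down) (R' i.down) σ)).symm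
  obtain ⟨e₃⟩ := nonempty_DS_iso (R' i.down) N
  have h1 : Nonempty (Grp.mk (Red.bc (φ i) (specGrp R A).X) ≅ Grp.mk (Red.DS (g i) N)) := ⟨e₁ ≪≫ e₂ ≪≫ e₃.symm⟩
  have h2 := nonempty_bc_split (H := (specGrp R A).X) h1 ((Sigma.ι g i).isoOpensRange.inv)
  rwa [show (Sigma.ι g i).isoOpensRange.inv ≫ φ i = (Sigma.ι g i).opensRange.ι ≫ f by
    rw [← Scheme.Hom.isoOpensRange_inv_comp, Category.assoc]
    simp [f]] at h2

/-- The local splitting condition. -/
theorem locally_specGrp {R A : Type u} [CommRing R] [CommRing A] [HopfAlgebra R A] [Algebra.FiniteType R A]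
    (h : SGA3b.IsMultType R A) :
    TwC.Locally (Spec (CommRingCat.of R)) TwC.Topology.fpqc (fun S' f => ∃ (M : Type) (_ : AddCommGroup M),
      Nonempty (Grp.mk (Red.bc f (specGrp R A).X) ≅ Grp.mk (Red.DS S' M))) := by
  obtain ⟨S', f, hf, hs, hl, hloc⟩ := isMultTypeFT_specGrp h
  exact ⟨S', f, hf, hs, hl, fun s => by
    obtain ⟨U, hU, M, hM, -, e⟩ := hloc s
    exact ⟨U, hU, M, hM, e⟩⟩

end Groth.Agent.MTBridge
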