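import Groth.Agent.MTBridge.CharEq
import Groth.Agent.GrpField.Fibres
import Mathlib

/-!
# Commutation near the unit, and on connected fibres
-/

set_option autoImplicit false
set_option linter.style.haveILetI false
set_option linter.unusedSectionVars false
set_option backward.isDefEq.respectTransparency false
set_option maxHeartbeats 1000000
set_option synthInstance.maxHeartbeats 400000

universe u

open CategoryTheory Limits MonoidalCategory CartesianMonoidalCategory AlgebraicGeometry TensorProduct Opposite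
open TopologicalSpace WithConv
open scoped CategoryTheory.Obj MonObj

noncomputable section

namespace Groth.Agent.MTBridge

variable {S : Scheme.{u}} {H G : Over S} [GrpObj H] [GrpObj G]

/-- The tautological point over an affine chart of `G`. -/
def tautPoint {C : Type u} [CommRing C] (cV : Spec (CommRingCat.of C) ⟶ G.left) :
    Pt (Red.bc (cV ≫ G.hom) G) C :=
  toBC (cV ≫ G.hom) (Over.homMk cV (by
    show cV ≫ G.hom = Spec.map (CommRingCat.ofHom (algebraMap C C)) ≫ cV ≫ G.hom
    rw [Algebra.algebraMap_self, CommRingCat.ofHom_id, Spec.map_id, Category.id_comp]))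

/-- Spreading out commutation from a local ring. -/
theorem exists_nhd_of_local [LocallyOfFiniteType G.hom] (u : H ⟶ G) [IsMonHom u] {C : Type u} [CommRing C]
    (cV : Spec (CommRingCat.of C) ⟶ G.left) [IsOpenImmersion cV] (P : PrimeSpectrum C) {A : Type u} [CommRing A]
    [HopfAlgebra C A] [Algebra.FiniteType C A] (e : Grp.mk (Red.bc (cV ≫ G.hom) H) ≅ specGrp C A)
    (hxy : pt (toConv (Algebra.TensorProduct.includeRight : A →ₐ[C] Localization.AtPrime P.asIdeal ⊗[C] A)) ≫
        e.inv.hom.hom ≫ (Over.pullback (cV ≫ G.hom)).map u =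
      (spMap (inB C A (Localization.AtPrime P.asIdeal)) ≫ spMap (Algebra.ofId C (Localization.AtPrime P.asIdeal)) ≫
          tautPoint cV) *
        (pt (toConv (Algebra.TensorProduct.includeRight : A →ₐ[C] Localization.AtPrime P.asIdeal ⊗[C] A)) ≫
          e.inv.hom.hom ≫ (Over.pullback (cV ≫ G.hom)).map u) *
        (spMap (inB C A (Localization.AtPrime P.asIdeal)) ≫ spMap (Algebra.ofId C (Localization.AtPrime P.asIdeal)) ≫
          tautPoint cV)⁻¹) :
    ∃ W : G.left.Opens, cV P ∈ W ∧ ∀ (Y : Over S) (g : Y ⟶ G), Set.range g.left ⊆ (W : Set G.left) →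
      ∀ h : Y ⟶ H, g * (h ≫ u) = (h ≫ u) * g := by
  let j : Spec (CommRingCat.of C) ⟶ S := cV ≫ G.hom
  haveI : LocallyOfFiniteType (Red.bc j G).hom := by
    show LocallyOfFiniteType (pullback.snd G.hom j)
    infer_instance
  let v : (specGrp C A).X ⟶ Red.bc j G := e.inv.hom.hom ≫ (Over.pullback j).map u
  haveI : IsMonHom v := inferInstanceAs (IsMonHom (e.inv.hom.hom ≫ (Over.pullback j).map u))
  let g₀ : Pt (Red.bc j G) C := tautPoint cV
  let P' : ↥(Spec (CommRingCat.of C)) := P
  let B := Localization.AtPrime P.asIdeal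
  let gB : Pt (Red.bc j G) (B ⊗[C] A) := spMap (inB C A B) ≫ spMap (Algebra.ofId C B) ≫ g₀
  -- spreading out
  let x₀ : Pt (Red.bc j G) A := pt (toConv (AlgHom.id C A)) ≫ v
  let gA : Pt (Red.bc j G) A := spMap (Algebra.ofId C A) ≫ g₀
  let xy₀ : Pt (Red.bc j G ⊗ Red.bc j G) A := lift x₀ (gA * x₀ * gA⁻¹)
  have hres : ∀ (T : Type u) [CommRing T] [Algebra C T] (h : A →ₐ[C] T),
      spMap h ≫ xy₀ = lift (pt (toConv h) ≫ v)
        ((spMap (Algebra.ofId C T) ≫ g₀) * (pt (toConv h) ≫ v) * (spMap (Algebra.ofId C T) ≫ g₀)⁻¹) := by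
    intro T _ _ h
    have h1 : spMap h ≫ x₀ = pt (toConv h) ≫ v := by
      rw [← Category.assoc, spMap_pt]
      simp only [ofConv_toConv, AlgHom.comp_id]
    have h2 : spMap h ≫ gA = spMap (Algebra.ofId C T) ≫ g₀ := by
      simp only [gA]
      rw [← Category.assoc, spMap_comp, Subsingleton.elim (h.comp (Algebra.ofId C A)) (Algebra.ofId C T)]
    rw [comp_lift, MonObj.comp_mul, MonObj.comp_mul, GrpObj.comp_inv, h1, h2]
  obtain ⟨f, hf, hz⟩ := exists_away_factor (diagHom (Red.bc j G)) xy₀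
    (Or.inl (by
      show LocallyOfFinitePresentation (pullback.diagonal (Red.bc j G).hom)
      exact Groth.Agent.S4599.result _)) P.asIdeal (by
      rw [hres, inIm_diag_iff]
      have h2 : spMap (Algebra.ofId C (B ⊗[C] A)) ≫ g₀ = gB := by
        simp only [gB]
        rw [← Category.assoc, spMap_comp,
          Subsingleton.elim ((inB C A B).comp (Algebra.ofId C B)) (Algebra.ofId C (B ⊗[C] A))]
      rw [h2]
      exact hxy)
  rw [hres, inIm_diag_iff, eq_mul_inv_iff_mul_eq] at hz
  refine ⟨cV ''ᵁ PrimeSpectrum.basicOpen f, ⟨P', hf, rfl⟩, fun Y g hg h => ?_⟩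
  let Af := Localization.Away (algebraMap C A f)
  have hgr : Set.range g.left ⊆ Set.range cV := hg.trans (Set.image_subset_range _ _)
  let l := IsOpenImmersion.lift cV g.left hgr
  have hl : l ≫ cV = g.left := IsOpenImmersion.lift_fac _ _ _
  have hlj : l ≫ j = Y.hom := by
    simp only [j]
    rw [← Category.assoc, hl, Over.w g]
  obtain ⟨ε, hε⟩ : ∃ ε : (Over.map j).obj (Over.mk l) ≅ Y, ε.hom.left = 𝟙 _ :=
    ⟨Over.isoMk (Iso.refl _) (by simpa using hlj.symm), rfl⟩
  let qA : Over.mk l ⟶ (specGrp C A).X := toBC j (ε.hom ≫ h) ≫ e.hom.hom.hom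
  let c : Spec (CommRingCat.of Af) ⟶ Spec (CommRingCat.of A) := Spec.map (CommRingCat.ofHom (algebraMap A Af))
  haveI : IsOpenImmersion c := IsOpenImmersion.of_isLocalization (algebraMap C A f)
  have hrg : Set.range qA.left ⊆ Set.range c := by
    rintro _ ⟨y, rfl⟩
    rw [show Set.range c = (PrimeSpectrum.basicOpen (algebraMap C A f) : Set (PrimeSpectrum A)) from
      PrimeSpectrum.localization_away_comap_range Af (algebraMap C A f)]
    obtain ⟨r, hr, hry⟩ := hg ⟨y, rfl⟩
    have h1 : (qA.left ≫ Spec.map (CommRingCat.ofHom (algebraMap C A))) y = l y :=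
      congrArg (fun m => m y) (Over.w qA)
    have h2 : l y = r := cV.isOpenEmbedding.injective (by
      rw [← Scheme.Hom.comp_apply, hl]; exact hry.symm)
    intro hmem
    have h3 : f ∈ (l y : PrimeSpectrum C).asIdeal := by rw [← h1]; exact hmem
    rw [h2] at h3
    exact hr h3
  let n := IsOpenImmersion.lift c qA.left hrg
  have hn : n ≫ c = qA.left := IsOpenImmersion.lift_fac _ _ _
  let qf : Over.mk l ⟶ (Spec (CommRingCat.of Af)).asOver (Spec (CommRingCat.of C)) :=
    Over.homMk n (by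
      show n ≫ Spec.map (CommRingCat.ofHom (algebraMap C Af)) = l
      rw [IsScalarTower.algebraMap_eq C A Af, CommRingCat.ofHom_comp, Spec.map_comp, ← Category.assoc, hn]
      exact Over.w qA)
  have hqf : qf ≫ pt (toConv (IsScalarTower.toAlgHom C A Af)) = qA := Over.OverMorphism.ext hn
  have hqg : qf ≫ spMap (Algebra.ofId C Af) ≫ g₀ = toBC j (ε.hom ≫ g) := by
    simp only [g₀, tautPoint]
    rw [← Category.assoc]
    simp only [toBC]
    rw [← Adjunction.homEquiv_naturality_left]
    congr 1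
    apply Over.OverMorphism.ext
    show (n ≫ Spec.map (CommRingCat.ofHom (algebraMap C Af))) ≫ cV = ε.hom.left ≫ g.left
    rw [IsScalarTower.algebraMap_eq C A Af, CommRingCat.ofHom_comp, Spec.map_comp, ← Category.assoc n, hn,
      show qA.left ≫ Spec.map (CommRingCat.ofHom (algebraMap C A)) = l from Over.w qA, hl, hε, Category.id_comp]
  have he : e.hom.hom.hom ≫ e.inv.hom.hom = 𝟙 _ := ((Grp.forget _).mapIso e).hom_inv_id
  have h5 := congrArg (fun m => qf ≫ m) hz
  have e1 : qf ≫ pt (toConv (IsScalarTower.toAlgHom C A Af)) ≫ v = qA ≫ v := by rw [← Category.assoc, hqf]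
  simp only [MonObj.comp_mul] at h5
  erw [hqg, e1] at h5
  simp only [v, qA, Category.assoc, reassoc_of% he] at h5
  rw [← toBC_comp, ← toBC_mul, ← toBC_mul] at h5
  have h6 := ((Over.mapPullbackAdj j).homEquiv (Over.mk l) G).injective h5
  rw [Category.assoc, ← MonObj.comp_mul, ← MonObj.comp_mul] at h6
  exact ((cancel_epi ε.hom).1 h6).symm

/-- A homomorphism central on the fibre below a point of `G` commutes with the points of an open
neighbourhood of that point. -/
theorem exists_comm_nhd (hH : SGA3x.IsMultTypeFT H) [LocallyOfFiniteType G.hom] (u : H ⟶ G) [IsMonHom u]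
    (t : G.left)
    (hc : ∀ (X : Over (Spec (S.residueField (G.hom t)))) (g : X ⟶ Red.bc (S.fromSpecResidueField (G.hom t)) G)
      (h : X ⟶ Red.bc (S.fromSpecResidueField (G.hom t)) H),
      g * (h ≫ (Over.pullback (S.fromSpecResidueField (G.hom t))).map u) =
        (h ≫ (Over.pullback (S.fromSpecResidueField (G.hom t))).map u) * g) :
    ∃ W : G.left.Opens, t ∈ W ∧ ∀ (Y : Over S) (g : Y ⟶ G), Set.range g.left ⊆ (W : Set G.left) →
      ∀ h : Y ⟶ H, g * (h ≫ u) = (h ≫ u) * g := by
  obtain ⟨V, hV, htV, -⟩ := exists_isAffineOpen_mem_and_subset (x := t) (U := ⊤) trivial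
  let C : Type u := Γ(G.left, V)
  let cV : Spec (CommRingCat.of C) ⟶ G.left := hV.fromSpec
  obtain ⟨P', hP⟩ : t ∈ Set.range cV := by
    rw [show Set.range cV = (V : Set G.left) from hV.range_fromSpec]; exact htV
  let P : PrimeSpectrum C := P'
  let j : Spec (CommRingCat.of C) ⟶ S := cV ≫ G.hom
  obtain ⟨A, _, _, hA, hAf, ⟨e⟩⟩ := exists_hopf (Red.bc j H) (isMultTypeFT_bc H j hH)
  haveI := hAf
  haveI : LocallyOfFiniteType (Red.bc j G).hom := by
    show LocallyOfFiniteType (pullback.snd G.hom j)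
    infer_instance
  let v : (specGrp C A).X ⟶ Red.bc j G := e.inv.hom.hom ≫ (Over.pullback j).map u
  haveI : IsMonHom v := inferInstanceAs (IsMonHom (e.inv.hom.hom ≫ (Over.pullback j).map u))
  -- the tautological point
  let g₀ : Pt (Red.bc j G) C := tautPoint cV
  let B := Localization.AtPrime P.asIdeal
  let κ := P.asIdeal.ResidueField
  -- the residue field of the base
  let w : Spec (CommRingCat.of κ) ⟶ Spec (S.residueField (G.hom t)) :=
    Spec.map (Scheme.Spec.residueFieldIso (CommRingCat.of C) P').hom ≫ Spec.map (cV.residueFieldMap P') ≫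
      Spec.map (G.hom.residueFieldMap (cV P')) ≫ eqToHom (by rw [hP])
  have hw : w ≫ S.fromSpecResidueField (G.hom t) = Spec.map (CommRingCat.ofHom (algebraMap C κ)) ≫ j := by
    subst hP
    simp only [w, eqToHom_refl, Category.comp_id, Category.assoc,
      Scheme.Hom.SpecMap_residueFieldMap_fromSpecResidueField,
      Scheme.Hom.SpecMap_residueFieldMap_fromSpecResidueField_assoc]
    have key : Spec.map (Scheme.Spec.residueFieldIso (CommRingCat.of C) P').hom ≫
        (Spec (CommRingCat.of C)).fromSpecResidueField P' = Spec.map (CommRingCat.ofHom (algebraMap C κ)) := by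
      rw [← Scheme.Spec.map_residueFieldIso_inv_eq_fromSpecResidueField, ← Spec.map_comp_assoc,
        Iso.inv_hom_id, Spec.map_id, Category.id_comp]
    rw [← Category.assoc, key]
  have hfac : ∀ (T : Type u) [CommRing T] [Algebra C T] (φ : κ →ₐ[C] T) (g : Pt (Red.bc j G) T)
      (q : Pt (specGrp C A).X T), g * (q ≫ v) = (q ≫ v) * g := by
    intro T _ _ φ g q
    let b := (Over.mapPullbackAdj j).homEquiv ((Spec (CommRingCat.of T)).asOver (Spec (CommRingCat.of C)))
    have h1 := comm_of_factor (S.fromSpecResidueField (G.hom t)) u hc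
      ((Over.map j).obj ((Spec (CommRingCat.of T)).asOver (Spec (CommRingCat.of C))))
      (Spec.map (CommRingCat.ofHom φ.toRingHom) ≫ w) (by
        show (Spec.map (CommRingCat.ofHom φ.toRingHom) ≫ w) ≫ _ = Spec.map (CommRingCat.ofHom (algebraMap C T)) ≫ j
        rw [Category.assoc, hw, ← Category.assoc, ← Spec.map_comp, ← CommRingCat.ofHom_comp,
          show φ.toRingHom.comp (algebraMap C κ) = algebraMap C T from φ.comp_algebraMap])
      ((b G).symm g) ((b H).symm (q ≫ e.inv.hom.hom))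
    have h2 := congrArg (toBC j) h1
    rw [toBC_mul, toBC_mul, toBC_comp] at h2
    simp only [toBC, b, Equiv.apply_symm_apply, Category.assoc] at h2
    exact h2
  let q : Pt (specGrp C A).X (B ⊗[C] A) := pt (toConv Algebra.TensorProduct.includeRight)
  let x : Pt (Red.bc j G) (B ⊗[C] A) := q ≫ v
  let gB : Pt (Red.bc j G) (B ⊗[C] A) := spMap (inB C A B) ≫ spMap (Algebra.ofId C B) ≫ g₀
  have hx : IsChar x := isChar_universal v B
  have hy : IsChar (gB * x * gB⁻¹) := hx.conj _
  have hcomm : ∀ (L : Type u) [CommRing L] [Algebra C L] (f : B ⊗[C] A →ₐ[C] L),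
      (∀ b ∈ IsLocalRing.maximalIdeal B, f (b ⊗ₜ 1) = 0) →
      ∀ p : Pt (Red.bc j G) L, (spMap f ≫ x) * p = p * (spMap f ≫ x) := by
    intro L _ _ f hf p
    let φ : κ →ₐ[C] L := Ideal.Quotient.liftₐ (IsLocalRing.maximalIdeal B) (f.comp (inB C A B)) hf
    have := hfac L φ p (spMap f ≫ q)
    rw [Category.assoc] at this
    exact this.symm
  have hxy : x = gB * x * gB⁻¹ := by
    refine char_eq_local hA (Or.inl inferInstance) x _ hx hy hcomm ?_
    have h := hcomm _ (bA A (Ideal.Quotient.mkₐ C (IsLocalRing.maximalIdeal B))) (fun b hb => by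
      simp [bA]
      rw [show Ideal.Quotient.mk (IsLocalRing.maximalIdeal B) b = 0 from Ideal.Quotient.eq_zero_iff_mem.2 hb,
        TensorProduct.zero_tmul]) (spMap (bA A (Ideal.Quotient.mkₐ C (IsLocalRing.maximalIdeal B))) ≫ gB)
    rw [MonObj.comp_mul, MonObj.comp_mul, GrpObj.comp_inv, ← h, mul_inv_cancel_right]
  exact hP ▸ exists_nhd_of_local u cV P e hxy

/-- Flat local extensions of local rings give epimorphisms of spectra. -/
theorem epi_specMap {A B : Type u} [CommRing A] [CommRing B] [IsLocalRing A] [IsLocalRing B] (f : A →+* B)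
    [IsLocalHom f] (hf : f.Flat) : Epi (Spec.map (CommRingCat.ofHom f)) := by
  algebraize [f]
  haveI : IsLocalHom (algebraMap A B) := ‹IsLocalHom f›
  haveI : Module.FaithfullyFlat A B := Module.FaithfullyFlat.of_flat_of_isLocalHom
  haveI : Flat (Spec.map (CommRingCat.ofHom f)) :=
    (HasRingHomProperty.Spec_iff (P := @Flat) (φ := CommRingCat.ofHom f)).2 hf
  haveI : Surjective (Spec.map (CommRingCat.ofHom f)) := ⟨PrimeSpectrum.comap_surjective_of_faithfullyFlat⟩
  exact Flat.epi_of_flat_of_surjective _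

/-- Points of a geometrically irreducible fibre commute if the points of a nonempty open do. -/
theorem comm_fibre [GeometricallyIrreducible G.hom] (u : H ⟶ G) (W : G.left.Opens)
    (hW : ∀ (Y : Over S) (g : Y ⟶ G), Set.range g.left ⊆ (W : Set G.left) →
      ∀ h : Y ⟶ H, g * (h ≫ u) = (h ≫ u) * g)
    (K : Type u) [Field K] (w : Spec (CommRingCat.of K) ⟶ S)
    (hWK : ∃ x ∈ W, G.hom x = w (IsLocalRing.closedPoint K))
    (Y : Over S) (a : Y.left ⟶ Spec (CommRingCat.of K)) (ha : a ≫ w = Y.hom) (g : Y ⟶ G) (h : Y ⟶ H) :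
    g * (h ≫ u) = (h ≫ u) * g := by
  apply Over.OverMorphism.ext
  refine hom_ext_fromSpecStalk _ _ fun y => ?_
  let T : Type u := Y.left.presheaf.stalk y
  let m : Spec (CommRingCat.of T) ⟶ Y.left := Y.left.fromSpecStalk y
  let ψ : K →+* T := (Spec.preimage (m ≫ a)).hom
  letI : Algebra K T := ψ.toAlgebra
  have hψ : Spec.map (CommRingCat.ofHom (algebraMap K T)) = m ≫ a := by
    rw [RingHom.algebraMap_toAlgebra, CommRingCat.ofHom_hom, Spec.map_preimage]
  let Y' : Over S := Over.mk (m ≫ Y.hom)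
  let gT : Y' ⟶ G := Over.homMk m rfl ≫ g
  let hT : Y' ⟶ H := Over.homMk m rfl ≫ h
  suffices hgoal : gT * (hT ≫ u) = (hT ≫ u) * gT by
    simp only [gT, hT, Category.assoc, ← MonObj.comp_mul] at hgoal
    exact congrArg (fun k => k.left) hgoal
  -- the closed point
  let κ := IsLocalRing.ResidueField T
  let r : Spec (CommRingCat.of κ) ⟶ Spec (CommRingCat.of T) :=
    Spec.map (CommRingCat.ofHom (IsLocalRing.residue T))
  let T₀ : Over S := Over.mk (r ≫ m ≫ Y.hom)
  let gam : T₀ ⟶ G := (Over.homMk (U := T₀) (V := Y') r rfl) ≫ gT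
  haveI : IrreducibleSpace (G ⊗ T₀).left :=
    GeometricallyIrreducible.geometrically_irreducibleSpace (f := G.hom)
      (r ≫ m ≫ Y.hom) _ _ (IsPullback.of_hasPullback G.hom T₀.hom)
  let e : G ⊗ T₀ ≅ G ⊗ T₀ := Groth.Agent.GrpField.trI gam
  obtain ⟨x₀, hx₀, hx₀w⟩ := hWK
  have hpt : T₀.hom (IsLocalRing.closedPoint κ) = w (IsLocalRing.closedPoint K) := by
    show (r ≫ m ≫ Y.hom) (IsLocalRing.closedPoint κ) = _
    rw [← ha, Scheme.Hom.comp_apply, Scheme.Hom.comp_apply, Scheme.Hom.comp_apply]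
    exact congrArg w (@Subsingleton.elim (PrimeSpectrum K) _ _ _)
  obtain ⟨z₀, hz₀, -⟩ := Scheme.Pullback.exists_preimage_pullback (f := G.hom) (g := T₀.hom) x₀
    (IsLocalRing.closedPoint κ : ↥(Spec (CommRingCat.of κ))) (hx₀w.trans hpt.symm)
  have h1 : ((fst G T₀).left ⁻¹' W : Set (G ⊗ T₀).left).Nonempty :=
    ⟨z₀, by change (fst G T₀).left z₀ ∈ W; exact (congrArg (· ∈ W) hz₀).mpr hx₀⟩
  have h2 : ((e.hom ≫ fst G T₀).left ⁻¹' W : Set (G ⊗ T₀).left).Nonempty := by
    refine ⟨e.inv.left z₀, ?_⟩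
    rw [Set.mem_preimage, ← Scheme.Hom.comp_apply, ← Over.comp_left, Iso.inv_hom_id_assoc]
    exact (congrArg (· ∈ W) hz₀).mpr hx₀
  obtain ⟨z, hz1, hz2⟩ := nonempty_preirreducible_inter (W.2.preimage (fst G T₀).left.continuous)
    (W.2.preimage (e.hom ≫ fst G T₀).left.continuous) h1 h2
  let L : Type u := (G ⊗ T₀).left.residueField z
  let zl : Spec (CommRingCat.of L) ⟶ (G ⊗ T₀).left := (G ⊗ T₀).left.fromSpecResidueField z
  let ρ : κ →+* L := (Spec.preimage (zl ≫ (snd G T₀).left)).hom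
  have hρ : Spec.map (CommRingCat.ofHom ρ) = zl ≫ (snd G T₀).left := by
    rw [CommRingCat.ofHom_hom, Spec.map_preimage]
  let σ : T →+* L := ρ.comp (IsLocalRing.residue T)
  letI : Algebra K L := (σ.comp (algebraMap K T)).toAlgebra
  let π : T ⊗[K] L →+* L := (Algebra.TensorProduct.lift
    ({ σ with commutes' := fun k => rfl } : T →ₐ[K] L) (AlgHom.id K L) fun _ _ => Commute.all _ _).toRingHom
  haveI : (RingHom.ker π).IsPrime := RingHom.ker_isPrime π
  let M := Localization.AtPrime (RingHom.ker π)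
  let πM : M →+* L := IsLocalization.lift (M := (RingHom.ker π).primeCompl) (g := π)
    fun s => isUnit_iff_ne_zero.2 fun h => s.2 h
  have hπM : πM.comp (algebraMap (T ⊗[K] L) M) = π := IsLocalization.lift_comp _
  let iT : T →+* M := (algebraMap (T ⊗[K] L) M).comp Algebra.TensorProduct.includeLeftRingHom
  let iL : L →+* M := (algebraMap (T ⊗[K] L) M).comp
    (Algebra.TensorProduct.includeRight : L →ₐ[K] T ⊗[K] L).toRingHom
  have hiT : πM.comp iT = σ := by
    rw [show πM.comp iT = π.comp Algebra.TensorProduct.includeLeftRingHom from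
      (RingHom.comp_assoc _ _ _).symm.trans (congrArg (fun k : T ⊗[K] L →+* L => k.comp _) hπM)]
    ext a
    simp [π]
  have hiL : πM.comp iL = RingHom.id L := by
    rw [show πM.comp iL = π.comp (Algebra.TensorProduct.includeRight : L →ₐ[K] T ⊗[K] L).toRingHom from
      (RingHom.comp_assoc _ _ _).symm.trans (congrArg (fun k : T ⊗[K] L →+* L => k.comp _) hπM)]
    ext a
    simp [π]
  have hK : iL.comp (algebraMap K L) = iT.comp (algebraMap K T) := by
    ext k
    simp only [iL, iT, RingHom.comp_apply]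
    congr 1
    show (1 : T) ⊗ₜ[K] algebraMap K L k = algebraMap K T k ⊗ₜ[K] (1 : L)
    rw [Algebra.algebraMap_eq_smul_one, Algebra.algebraMap_eq_smul_one, TensorProduct.smul_tmul]
  haveI : IsLocalHom iT := ⟨fun a ha => by
    have h3 : IsUnit (σ a) := by rw [← hiT]; exact ha.map πM
    have h4 : IsUnit (IsLocalRing.residue T a) :=
      isUnit_iff_ne_zero.2 fun h => by
        apply h3.ne_zero
        show ρ (IsLocalRing.residue T a) = 0
        rw [h, map_zero]
    exact isUnit_of_map_unit (IsLocalRing.residue T) a h4⟩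
  have hflat : iT.Flat := by
    refine RingHom.Flat.comp ?_ (RingHom.flat_algebraMap_iff.2 (IsLocalization.flat M (RingHom.ker π).primeCompl))
    rw [show (Algebra.TensorProduct.includeLeftRingHom : T →+* T ⊗[K] L) = algebraMap T (T ⊗[K] L) from rfl,
      RingHom.flat_algebraMap_iff]
    infer_instance
  haveI : Epi (Spec.map (CommRingCat.ofHom iT)) := epi_specMap iT hflat
  let Y'' : Over S := Over.mk (Spec.map (CommRingCat.ofHom iT) ≫ m ≫ Y.hom)
  let Z : Over S := Over.mk (zl ≫ (G ⊗ T₀).hom)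
  let z' : Z ⟶ G ⊗ T₀ := Over.homMk zl rfl
  let cM : Spec (CommRingCat.of L) ⟶ Spec (CommRingCat.of M) := Spec.map (CommRingCat.ofHom πM)
  let dL : Y'' ⟶ Z := Over.homMk (Spec.map (CommRingCat.ofHom iL)) (by
    show Spec.map (CommRingCat.ofHom iL) ≫ zl ≫ (G ⊗ T₀).hom = Spec.map (CommRingCat.ofHom iT) ≫ m ≫ Y.hom
    rw [← Over.w (snd G T₀), ← Category.assoc zl, ← hρ]
    show Spec.map (CommRingCat.ofHom iL) ≫ Spec.map (CommRingCat.ofHom ρ) ≫ r ≫ m ≫ Y.hom = _
    simp only [← ha, ← Category.assoc m a w, ← hψ, r]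
    simp only [← Category.assoc, ← Spec.map_comp, ← CommRingCat.ofHom_comp]
    congr 3
    )
  let dT : Y'' ⟶ Y' := Over.homMk (Spec.map (CommRingCat.ofHom iT)) rfl
  haveI : Epi dT.left := ‹Epi (Spec.map (CommRingCat.ofHom iT))›
  haveI : Epi dT := Over.epi_of_epi_left dT
  let w1 : Y'' ⟶ G := dL ≫ z' ≫ fst G T₀
  let w2 : Y'' ⟶ G := w1⁻¹ * (dT ≫ gT)
  let back : Z ⟶ Y'' := Over.homMk cM (by
    show Spec.map (CommRingCat.ofHom πM) ≫ Spec.map (CommRingCat.ofHom iT) ≫ m ≫ Y.hom = zl ≫ (G ⊗ T₀).hom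
    rw [← Category.assoc, ← Spec.map_comp, ← CommRingCat.ofHom_comp, hiT, ← Over.w (snd G T₀),
      ← Category.assoc zl, ← hρ]
    show _ = Spec.map (CommRingCat.ofHom ρ) ≫ r ≫ m ≫ Y.hom
    rw [← Category.assoc (Spec.map (CommRingCat.ofHom ρ)), ← Spec.map_comp, ← CommRingCat.ofHom_comp])
  have hbL : back ≫ dL = 𝟙 Z := by
    apply Over.OverMorphism.ext
    show Spec.map _ ≫ Spec.map _ = 𝟙 _
    rw [← Spec.map_comp, ← CommRingCat.ofHom_comp, hiL, CommRingCat.ofHom_id, Spec.map_id]
  have hbT : back ≫ dT ≫ gT = z' ≫ snd G T₀ ≫ gam := by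
    rw [← Category.assoc, show gam = (Over.homMk (U := T₀) (V := Y') r rfl) ≫ gT from rfl, ← Category.assoc (snd G T₀),
      ← Category.assoc z']
    congr 1
    apply Over.OverMorphism.ext
    show Spec.map (CommRingCat.ofHom πM) ≫ Spec.map (CommRingCat.ofHom iT) = zl ≫ (snd G T₀).left ≫ r
    rw [← Category.assoc zl, ← hρ, ← Spec.map_comp, ← Spec.map_comp, ← CommRingCat.ofHom_comp,
      ← CommRingCat.ofHom_comp, hiT]
  have hbw1 : back ≫ w1 = z' ≫ fst G T₀ := by
    simp only [w1]
    rw [← Category.assoc, hbL, Category.id_comp]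
  have hbw2 : back ≫ w2 = z' ≫ e.hom ≫ fst G T₀ := by
    simp only [w2, MonObj.comp_mul, GrpObj.comp_inv, hbw1, hbT]
    simp [e, Groth.Agent.GrpField.trI, MonObj.comp_mul, GrpObj.comp_inv]
  have hrange : ∀ k : Y'' ⟶ G, (back ≫ k).left (IsLocalRing.closedPoint L) ∈ W →
      Set.range k.left ⊆ (W : Set G.left) := by
    rintro k hk _ ⟨p, rfl⟩
    have h3 : (k.left (cM (IsLocalRing.closedPoint L))) ∈ W := hk
    have h4 : (cM (IsLocalRing.closedPoint L) : PrimeSpectrum M) = IsLocalRing.closedPoint M := by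
      haveI : IsLocalHom πM := ⟨fun a ha => by
        obtain ⟨⟨s, d⟩, rfl⟩ := IsLocalization.mk'_surjective (RingHom.ker π).primeCompl a
        by_contra hne
        rw [IsLocalization.AtPrime.isUnit_mk'_iff M (RingHom.ker π)] at hne
        have hs : π s = 0 := not_not.1 hne
        refine ha.ne_zero ?_
        rw [IsLocalization.lift_mk'_spec]
        simpa using hs⟩
      exact IsLocalRing.comap_closedPoint πM
    exact ((IsLocalRing.specializes_closedPoint (p : PrimeSpectrum M)).map k.left.continuous).mem_open W.2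
      (h4 ▸ h3)
  have hc1 := hW Y'' w1 (hrange w1 (by
    rw [hbw1, Over.comp_left, Scheme.Hom.comp_apply]
    show (fst G T₀).left (zl _) ∈ W
    exact (congrArg (fun p => (fst G T₀).left p ∈ W) (Scheme.fromSpecResidueField_apply _ _)).mpr hz1)) (dT ≫ hT)
  have hc2 := hW Y'' w2 (hrange w2 (by
    rw [hbw2, Over.comp_left, Scheme.Hom.comp_apply]
    show (e.hom ≫ fst G T₀).left (zl _) ∈ W
    exact (congrArg (fun p => (e.hom ≫ fst G T₀).left p ∈ W) (Scheme.fromSpecResidueField_apply _ _)).mpr hz2)) (dT ≫ hT)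
  apply (cancel_epi dT).1
  rw [MonObj.comp_mul, MonObj.comp_mul, ← Category.assoc dT hT u,
    show dT ≫ gT = w1 * w2 by simp only [w2, mul_inv_cancel_left]]
  rw [mul_assoc, hc2, ← mul_assoc, hc1, mul_assoc]

end Groth.Agent.MTBridge
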