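import Groth.Agent.MTBridge.TrivAct
import Groth.Agent.MTBridge.CommNhd
import Groth.Prelude.Def_AlgGrp
import Groth.Prelude.Def_TwC
import Mathlib

/-!
# Actions of groups of multiplicative type which are trivial modulo a nilpotent ideal are trivial
-/

set_option autoImplicit false
set_option linter.style.haveILetI false
set_option backward.isDefEq.respectTransparency false
set_option maxHeartbeats 1000000
set_option synthInstance.maxHeartbeats 400000

universe u

open CategoryTheory Limits MonoidalCategory CartesianMonoidalCategory AlgebraicGeometry Opposite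
open TopologicalSpace WithConv
open scoped CategoryTheory.Obj MonObj

noncomputable section

namespace Groth.Agent.MTBridge

section Action

variable {S : Scheme.{u}} {G X : Over S} [GrpObj G] (a : AlgGrp.Action G X)

theorem one_act_point {T : Over S} (x : T ⟶ X) : lift (1 : T ⟶ G) x ≫ a.act = x := by
  have : lift (1 : T ⟶ G) x = lift (toUnit T) x ≫ (η[G] ▷ X) := by
    rw [lift_whiskerRight, Hom.one_def]
  rw [this, Category.assoc, a.one_act, leftUnitor_hom, lift_snd]

theorem mul_act_point {T : Over S} (g h : T ⟶ G) (x : T ⟶ X) :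
    lift (g * h) x ≫ a.act = lift g (lift h x ≫ a.act) ≫ a.act := by
  have : lift (g * h) x = lift (lift g h) x ≫ (μ[G] ▷ X) := by
    rw [lift_whiskerRight, Hom.mul_def]
  rw [this, Category.assoc, a.mul_act, lift_lift_associator_hom_assoc, lift_whiskerLeft_assoc]

variable {R : Type u} [CommRing R] (j : Spec (CommRingCat.of R) ⟶ S)

/-- The inverse of `toBC`. -/
def fromBC {G : Over S} {X : Over (Spec (CommRingCat.of R))} (p : X ⟶ Red.bc j G) : (Over.map j).obj X ⟶ G :=
  ((Over.mapPullbackAdj j).homEquiv X G).symm p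

theorem fromBC_comp {G : Over S} {X X' : Over (Spec (CommRingCat.of R))} (b : X' ⟶ X) (p : X ⟶ Red.bc j G) :
    fromBC j (b ≫ p) = (Over.map j).map b ≫ fromBC j p :=
  (Over.mapPullbackAdj j).homEquiv_naturality_left_symm b p

theorem fromBC_toBC {G : Over S} {X : Over (Spec (CommRingCat.of R))} (p : (Over.map j).obj X ⟶ G) :
    fromBC j (toBC j p) = p :=
  ((Over.mapPullbackAdj j).homEquiv X G).symm_apply_apply p

theorem toBC_fromBC {G : Over S} {X : Over (Spec (CommRingCat.of R))} (p : X ⟶ Red.bc j G) :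
    toBC j (fromBC j p) = p :=
  ((Over.mapPullbackAdj j).homEquiv X G).apply_symm_apply p

theorem fromBC_one {X : Over (Spec (CommRingCat.of R))} :
    fromBC j (1 : X ⟶ Red.bc j G) = 1 := by
  apply ((Over.mapPullbackAdj j).homEquiv X G).injective
  show toBC j _ = toBC j _
  rw [toBC_fromBC]
  have h := toBC_mul j (1 : (Over.map j).obj X ⟶ G) 1
  rw [one_mul] at h
  exact mul_left_cancel (a := toBC j (1 : (Over.map j).obj X ⟶ G)) (by rw [mul_one]; exact h)

theorem fromBC_mul {X : Over (Spec (CommRingCat.of R))} (p q : X ⟶ Red.bc j G) :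
    fromBC j (p * q) = fromBC j p * fromBC j q := by
  apply ((Over.mapPullbackAdj j).homEquiv X G).injective
  show toBC j _ = toBC j _
  rw [toBC_mul, toBC_fromBC, toBC_fromBC, toBC_fromBC]

/-- The action on points of the base change. -/
def actBC {T : Over (Spec (CommRingCat.of R))} (g : T ⟶ Red.bc j G) (x : T ⟶ Red.bc j X) : T ⟶ Red.bc j X :=
  toBC j (lift (fromBC j g) (fromBC j x) ≫ a.act)

theorem actBC_one {T : Over (Spec (CommRingCat.of R))} (x : T ⟶ Red.bc j X) : actBC a j 1 x = x := by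
  rw [actBC, fromBC_one, one_act_point, toBC_fromBC]

theorem actBC_mul {T : Over (Spec (CommRingCat.of R))} (g h : T ⟶ Red.bc j G) (x : T ⟶ Red.bc j X) :
    actBC a j (g * h) x = actBC a j g (actBC a j h x) := by
  rw [actBC, fromBC_mul, mul_act_point, actBC, actBC, fromBC_toBC]

theorem actBC_comp {T T' : Over (Spec (CommRingCat.of R))} (b : T' ⟶ T) (g : T ⟶ Red.bc j G)
    (x : T ⟶ Red.bc j X) : b ≫ actBC a j g x = actBC a j (b ≫ g) (b ≫ x) := by
  rw [actBC, actBC, fromBC_comp, fromBC_comp, ← comp_lift, Category.assoc]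
  exact ((Over.mapPullbackAdj j).homEquiv_naturality_left b _).symm

theorem actBC_trivial {T : Over (Spec (CommRingCat.of R))} {S₀ : Scheme.{u}} (i₀ : S₀ ⟶ S)
    (h0 : ∀ (Y : Over S) (p : Y ⟶ Over.mk i₀) (g : Y ⟶ G) (x : Y ⟶ X), lift g x ≫ a.act = x)
    (p : T.left ⟶ S₀) (hp : p ≫ i₀ = T.hom ≫ j) (g : T ⟶ Red.bc j G) (x : T ⟶ Red.bc j X) :
    actBC a j g x = x := by
  rw [actBC, h0 ((Over.map j).obj T) (Over.homMk p hp), toBC_fromBC]

end Action

section Chart

variable {R : Type u} [CommRing R] {G X : Over (Spec (CommRingCat.of R))}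

/-- **An action of a diagonalisable group, given on points, which is trivial at points killed by a nilpotent
ideal is trivial.** -/
theorem pointAct_trivial {M : Type} [CommGroup M] [GrpObj G] (J : Ideal R) (hJ : IsNilpotent J)
    (e : Grp.mk G ≅ specGrp R (MonoidAlgebra R M))
    (act : ∀ {B : Type u} [CommRing B] [Algebra R B], Pt G B → Pt X B → Pt X B)
    (hnat : ∀ {B B' : Type u} [CommRing B] [Algebra R B] [CommRing B'] [Algebra R B'] (f : B →ₐ[R] B')
      (g : Pt G B) (x : Pt X B), spMap f ≫ act g x = act (spMap f ≫ g) (spMap f ≫ x))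
    (hone : ∀ {B : Type u} [CommRing B] [Algebra R B] (x : Pt X B), act 1 x = x)
    (hmul : ∀ {B : Type u} [CommRing B] [Algebra R B] (g h : Pt G B) (x : Pt X B),
      act (g * h) x = act g (act h x))
    (hmod : ∀ {B : Type u} [CommRing B] [Algebra R B], (∀ r ∈ J, algebraMap R B r = 0) →
      ∀ (g : Pt G B) (x : Pt X B), act g x = x)
    {C : Type u} [CommRing C] [Algebra R C] (c : Spec (CommRingCat.of C) ⟶ X.left) [IsOpenImmersion c]
    (hc : c ≫ X.hom = Spec.map (CommRingCat.ofHom (algebraMap R C)))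
    {B : Type u} [CommRing B] [Algebra R B] (g : Pt G B) (x : Pt X B)
    (hx : Set.range x.left ⊆ Set.range c) : act g x = x := by
  classical
  let cPt : Pt X C := Over.homMk c hc
  have hcM : Mono c := inferInstance
  let P : ∀ (B : Type u) [CommRing B] [Algebra R B], (M →* B) → Pt G B := fun B _ _ χ =>
    pt (toConv (MonoidAlgebra.lift R B M χ)) ≫ e.inv.hom.hom
  have hPnat : ∀ {B B' : Type u} [CommRing B] [Algebra R B] [CommRing B'] [Algebra R B'] (f : B →ₐ[R] B')
      (χ : M →* B), spMap f ≫ P B χ = P B' ((f : B →* B').comp χ) := by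
    intro B B' _ _ _ _ f χ
    rw [← Category.assoc, spMap_pt]
    refine congrArg (fun q => pt (toConv q) ≫ e.inv.hom.hom) (MonoidAlgebra.algHom_ext (fun k => ?_) (by ext))
    simp
  have hPmul : ∀ {B : Type u} [CommRing B] [Algebra R B] (χ χ' : M →* B), P B (χ * χ') = P B χ * P B χ' := by
    intro B _ _ χ χ'
    rw [← MonObj.mul_comp]
    refine congrArg (fun q => q ≫ e.inv.hom.hom) ((congrArg pt ?_).trans (map_mul Spec.mapMulEquiv _ _))
    refine ofConv_injective (MonoidAlgebra.algHom_ext (fun k => ?_) (by ext))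
    simp [AlgHom.convMul_apply]
  have hPone : ∀ {B : Type u} [CommRing B] [Algebra R B], P B (1 : M →* B) = 1 := by
    intro B _ _
    rw [← MonObj.one_comp e.inv.hom.hom]
    refine congrArg (fun q => q ≫ e.inv.hom.hom) ((congrArg pt ?_).trans (map_one Spec.mapMulEquiv))
    refine ofConv_injective (MonoidAlgebra.algHom_ext (fun k => ?_) (by ext))
    simp [AlgHom.convOne_apply]
  have hPsurj : ∀ {B : Type u} [CommRing B] [Algebra R B] (g : Pt G B), ∃ χ, P B χ = g := by
    intro B _ _ g
    obtain ⟨φ, hφ⟩ := (Spec.mapMulEquiv (R := R) (S := MonoidAlgebra R M) (T := B)).surjective (g ≫ e.hom.hom.hom)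
    refine ⟨(MonoidAlgebra.lift R B M).symm φ.ofConv, ?_⟩
    simp only [P, Equiv.apply_symm_apply, toConv_ofConv]
    rw [show pt φ = g ≫ e.hom.hom.hom from hφ, Category.assoc,
      show e.hom.hom.hom ≫ e.inv.hom.hom = 𝟙 _ from ((Grp.forget _).mapIso e).hom_inv_id, Category.comp_id]
  have hkey : ∀ {B : Type u} [CommRing B] [Algebra R B] (χ : M →* B) (θ : C →ₐ[R] B),
      ∃ θ' : C →ₐ[R] B, act (P B χ) (spMap θ ≫ cPt) = spMap θ' ≫ cPt := by
    intro B _ _ χ θ
    let y := spMap θ ≫ cPt
    let z := act (P B χ) y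
    have hr : Set.range z.left ⊆ Set.range c := by
      rintro _ ⟨q, rfl⟩
      let K := (q : PrimeSpectrum B).asIdeal.ResidueField
      let f : B →ₐ[R] K := IsScalarTower.toAlgHom R B K
      obtain ⟨n, hn⟩ := hJ
      have hk : ∀ r ∈ J, algebraMap R K r = 0 := fun r hr => by
        refine IsNilpotent.eq_zero ⟨n, ?_⟩
        rw [← map_pow, show r ^ n = 0 from ?_, map_zero]
        have := Ideal.pow_mem_pow hr n
        rwa [hn, Ideal.zero_eq_bot, Ideal.mem_bot] at this
      have h1 := (hnat f (P B χ) y).trans (hmod hk _ _)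
      have h2 := congrArg (fun k : Pt X K => k.left (IsLocalRing.closedPoint K)) h1
      simp only [Over.comp_left, Scheme.Hom.comp_apply] at h2
      have hq : (spMap f).left (IsLocalRing.closedPoint K) = q := by
        apply PrimeSpectrum.ext
        show Ideal.comap (algebraMap B K) (IsLocalRing.maximalIdeal K) = _
        rw [IsLocalRing.maximalIdeal_eq_bot, ← RingHom.ker_eq_comap_bot, Ideal.ker_algebraMap_residueField]
      rw [hq] at h2
      rw [h2]
      exact ⟨(spMap θ).left q, rfl⟩
    let φ := (Spec.preimage (IsOpenImmersion.lift c z.left hr)).hom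
    have hφ : Spec.map (CommRingCat.ofHom φ) ≫ c = z.left := by
      rw [CommRingCat.ofHom_hom, Spec.map_preimage, IsOpenImmersion.lift_fac]
    have hφc : φ.comp (algebraMap R C) = algebraMap R B := by
      have h1 : Spec.map (CommRingCat.ofHom φ) ≫ Spec.map (CommRingCat.ofHom (algebraMap R C)) =
          Spec.map (CommRingCat.ofHom (algebraMap R B)) := by
        rw [← hc, reassoc_of% hφ]
        exact Over.w z
      rw [← Spec.map_comp] at h1
      exact congrArg CommRingCat.Hom.hom (Spec.map_injective h1)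
    exact ⟨{ φ with commutes' := fun r => RingHom.congr_fun hφc r }, Over.OverMorphism.ext hφ.symm⟩
  have huniq : ∀ {B : Type u} [CommRing B] [Algebra R B] (θ θ' : C →ₐ[R] B),
      spMap θ ≫ cPt = spMap θ' ≫ cPt → θ = θ' := by
    intro B _ _ θ θ' h
    have h1 : Spec.map (CommRingCat.ofHom θ.toRingHom) = Spec.map (CommRingCat.ofHom θ'.toRingHom) :=
      (cancel_mono c).1 (congrArg (fun k : Pt X B => k.left) h)
    exact AlgHom.coe_ringHom_injective (congrArg CommRingCat.Hom.hom (Spec.map_injective h1))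
  obtain ⟨ψ, hψ⟩ := hkey (MonoidAlgebra.of C M) MonoidAlgebra.singleOneAlgHom
  have hev : ∀ {B : Type u} [CommRing B] [Algebra R B] (χ : M →* B) (θ : C →ₐ[R] B),
      act (P B χ) (spMap θ ≫ cPt) = spMap (evAct ψ χ θ) ≫ cPt := by
    intro B _ _ χ θ
    let Φ : MonoidAlgebra C M →ₐ[R] B := MonoidAlgebra.liftNCAlgHom θ χ fun _ _ => Commute.all _ _
    have h := congrArg (fun k => spMap Φ ≫ k) hψ
    simp only [hnat, hPnat, ← Category.assoc, spMap_comp] at h
    rw [show (Φ : MonoidAlgebra C M →* B).comp (MonoidAlgebra.of C M) = χ from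
      MonoidHom.ext fun k => by simp [Φ, MonoidAlgebra.liftNCAlgHom, MonoidAlgebra.liftNCRingHom],
      show Φ.comp MonoidAlgebra.singleOneAlgHom = θ from AlgHom.ext fun k => by
        simp [Φ, MonoidAlgebra.liftNCAlgHom, MonoidAlgebra.liftNCRingHom, MonoidAlgebra.singleOneAlgHom]] at h
    exact h
  have htriv : ψ = MonoidAlgebra.singleOneAlgHom := by
    refine coact_trivial J hJ ψ (huniq _ _ ?_) (fun g h x => huniq _ _ ?_) (fun g x => huniq _ _ ?_)
    · rw [← hev, hPone, hone]
    · rw [← hev, hPmul, hmul, hev, hev]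
    · rw [← hev]
      refine hmod (fun r hr => ?_) _ _
      rw [MonoidAlgebra.coe_algebraMap, Function.comp_apply,
        show algebraMap R (C ⧸ J.map (algebraMap R C)) r = 0 from
          Ideal.Quotient.eq_zero_iff_mem.2 (Ideal.mem_map_of_mem _ hr), MonoidAlgebra.single_zero]
  let θ₀ := IsOpenImmersion.lift c x.left hx
  obtain ⟨θ, hθ⟩ : ∃ θ : C →ₐ[R] B, spMap θ ≫ cPt = x := by
    have hφ : Spec.map (Spec.preimage θ₀) ≫ c = x.left := by
      rw [Spec.map_preimage, IsOpenImmersion.lift_fac]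
    have h1 : Spec.map (Spec.preimage θ₀) ≫ Spec.map (CommRingCat.ofHom (algebraMap R C)) =
        Spec.map (CommRingCat.ofHom (algebraMap R B)) := by
      rw [← hc, reassoc_of% hφ]
      exact Over.w x
    rw [← Spec.map_comp] at h1
    exact ⟨{ (Spec.preimage θ₀).hom with
      commutes' := fun r => RingHom.congr_fun (congrArg CommRingCat.Hom.hom (Spec.map_injective h1)) r },
      Over.OverMorphism.ext hφ⟩
  obtain ⟨χ, rfl⟩ := hPsurj g
  rw [← hθ, hev, htriv, evAct_trivial]

end Chart

/-- **An action of a group of multiplicative type which is trivial modulo a locally nilpotent ideal is trivial.** -/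
theorem act_trivial {S S₀ : Scheme.{u}} (i₀ : S₀ ⟶ S) [IsClosedImmersion i₀]
    (hnil : ∀ x : S, ∃ U : S.affineOpens, x ∈ (U : S.Opens) ∧ IsNilpotent (i₀.ker.ideal U))
    (G X : Over S) [GrpObj G]
    (hG : TwC.Locally S TwC.Topology.fpqc (fun S' f => ∃ (M : Type) (_ : AddCommGroup M),
      Nonempty (Grp.mk (Red.bc f G) ≅ Grp.mk (Red.DS S' M))))
    (a : AlgGrp.Action G X)
    (h0 : ∀ (Y : Over S) (p : Y ⟶ Over.mk i₀) (g : Y ⟶ G) (x : Y ⟶ X), lift g x ≫ a.act = x) :
    ∀ (Y : Over S) (g : Y ⟶ G) (x : Y ⟶ X), lift g x ≫ a.act = x := by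
  intro Y g x
  apply Over.OverMorphism.ext
  refine hom_ext_fromSpecStalk _ _ fun t => ?_
  let T : Type u := Y.left.presheaf.stalk t
  let m : Spec (CommRingCat.of T) ⟶ Y.left := Y.left.fromSpecStalk t
  let f : Spec (CommRingCat.of T) ⟶ S := m ≫ Y.hom
  let s : S := f (IsLocalRing.closedPoint T)
  obtain ⟨S', π, hπf, hπs, -, hsplit⟩ := hG
  obtain ⟨s', hs'⟩ := π.surjective s
  obtain ⟨U, hsU, M₀, _, hiso⟩ := hsplit s'
  obtain ⟨⟨V, hV⟩, hsV, hVnil⟩ := hnil s
  replace hV : IsAffineOpen V := hV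
  obtain ⟨W, hW, hsW, hWU⟩ := exists_isAffineOpen_mem_and_subset (x := s') (U := U ⊓ π ⁻¹ᵁ V)
    ⟨hsU, show π s' ∈ V by rw [hs']; exact hsV⟩
  have e' : W ≤ π ⁻¹ᵁ V := fun z hz => (hWU hz).2
  let C : Type u := Γ(S, V)
  let R : Type u := Γ(S', W)
  letI : Algebra C R := (π.appLE V W e').hom.toAlgebra
  haveI : Module.Flat C R := π.flat_appLE hV hW e'
  let j : Spec (CommRingCat.of R) ⟶ S := Spec.map (CommRingCat.ofHom (algebraMap C R)) ≫ hV.fromSpec
  have hj : j = hW.fromSpec ≫ π := IsAffineOpen.SpecMap_appLE_fromSpec π hV hW e'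
  -- the group splits over R
  have hk : Set.range hW.fromSpec ⊆ Set.range U.ι := by
    rw [hW.range_fromSpec, Scheme.Opens.range_ι]
    exact fun z hz => (hWU hz).1
  obtain ⟨e₁⟩ := nonempty_bc_split hiso (IsOpenImmersion.lift U.ι hW.fromSpec hk)
  rw [← Category.assoc, IsOpenImmersion.lift_fac, ← hj] at e₁
  obtain ⟨e₂⟩ := nonempty_DS_iso R M₀
  -- the ring of T over C
  have hfV : Set.range f ⊆ Set.range hV.fromSpec := by
    rintro _ ⟨z, rfl⟩
    rw [hV.range_fromSpec]
    exact ((IsLocalRing.specializes_closedPoint (z : PrimeSpectrum T)).map f.continuous).mem_open V.2 hsV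
  letI : Algebra C T := (Spec.preimage (IsOpenImmersion.lift hV.fromSpec f hfV)).hom.toAlgebra
  have hf : Spec.map (CommRingCat.ofHom (algebraMap C T)) ≫ hV.fromSpec = f := by
    rw [RingHom.algebraMap_toAlgebra, CommRingCat.ofHom_hom, Spec.map_preimage, IsOpenImmersion.lift_fac]
  -- the point of Spec T × Spec R
  let q : Spec (CommRingCat.of R) := hW.primeIdealOf ⟨s', hsW⟩
  have hq : hW.fromSpec q = s' := hW.fromSpec_primeIdealOf ⟨s', hsW⟩
  have hqt : Spec.map (CommRingCat.ofHom (algebraMap C T)) (IsLocalRing.closedPoint T) =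
      Spec.map (CommRingCat.ofHom (algebraMap C R)) q := by
    apply hV.fromSpec.isOpenEmbedding.injective
    suffices h1 : (Spec.map (CommRingCat.ofHom (algebraMap C T)) ≫ hV.fromSpec) (IsLocalRing.closedPoint T) = j q
      from h1
    rw [hf, hj]
    exact ((Scheme.Hom.comp_apply _ _ _).trans ((congrArg π hq).trans hs')).symm
  obtain ⟨z, hz, -⟩ := Scheme.Pullback.exists_preimage_pullback _ _ hqt
  let P : PrimeSpectrum (TensorProduct C T R) := (pullbackSpecIso C T R).hom z
  have hP : P.comap (Algebra.TensorProduct.includeLeftRingHom : T →+* TensorProduct C T R) =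
      IsLocalRing.closedPoint T := by
    have h1 := congrArg (fun k => k z) ((Iso.hom_inv_id_assoc (pullbackSpecIso C T R) (pullback.fst _ _)))
    rw [pullbackSpecIso_inv_fst] at h1
    exact h1.trans hz
  let B := Localization.AtPrime P.asIdeal
  let iT : T →+* B := (algebraMap (TensorProduct C T R) B).comp Algebra.TensorProduct.includeLeftRingHom
  let iR : R →+* B := (algebraMap (TensorProduct C T R) B).comp
    (Algebra.TensorProduct.includeRight : R →ₐ[C] TensorProduct C T R).toRingHom
  haveI : IsLocalHom iT := ⟨fun b hb => by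
    by_contra hnb
    have h1 : Algebra.TensorProduct.includeLeftRingHom (B := R) b ∈ P.asIdeal := by
      have : b ∈ (IsLocalRing.closedPoint T).asIdeal := (IsLocalRing.mem_maximalIdeal b).2 hnb
      rw [← hP] at this
      exact this
    exact ((IsLocalization.AtPrime.to_map_mem_maximal_iff B P.asIdeal _).2 h1) hb⟩
  have hflat : iT.Flat := by
    refine RingHom.Flat.comp ?_ (RingHom.flat_algebraMap_iff.2 (IsLocalization.flat B P.asIdeal.primeCompl))
    rw [show (Algebra.TensorProduct.includeLeftRingHom : T →+* TensorProduct C T R) =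
      algebraMap T (TensorProduct C T R) from rfl, RingHom.flat_algebraMap_iff]
    infer_instance
  haveI : Epi (Spec.map (CommRingCat.ofHom iT)) := epi_specMap iT hflat
  letI : Algebra R B := iR.toAlgebra
  have hw : Spec.map (CommRingCat.ofHom iT) ≫ f = Spec.map (CommRingCat.ofHom (algebraMap R B)) ≫ j := by
    rw [← hf]
    simp only [j, ← Category.assoc, ← Spec.map_comp, ← CommRingCat.ofHom_comp]
    congr 3
    ext r
    show algebraMap _ B (algebraMap C T r ⊗ₜ[C] (1 : R)) = algebraMap _ B ((1 : T) ⊗ₜ[C] algebraMap C R r)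
    refine congrArg _ ?_
    rw [Algebra.algebraMap_eq_smul_one, Algebra.algebraMap_eq_smul_one, TensorProduct.smul_tmul]
  let b : (Over.map j).obj ((Spec (CommRingCat.of B)).asOver (Spec (CommRingCat.of R))) ⟶ Y :=
    Over.homMk (Spec.map (CommRingCat.ofHom iT) ≫ m) (by
      show (Spec.map (CommRingCat.ofHom iT) ≫ m) ≫ Y.hom = Spec.map (CommRingCat.ofHom (algebraMap R B)) ≫ j
      rw [Category.assoc]; exact hw)
  -- the chart
  let xB : Pt (Red.bc j X) B := toBC j (b ≫ x)
  obtain ⟨Wx, hWx, hxW, -⟩ := exists_isAffineOpen_mem_and_subset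
    (x := xB.left (IsLocalRing.closedPoint B)) (U := ⊤) trivial
  let Cx : Type u := Γ((Red.bc j X).left, Wx)
  letI : Algebra R Cx := (Spec.preimage (hWx.fromSpec ≫ (Red.bc j X).hom)).hom.toAlgebra
  have hcx : hWx.fromSpec ≫ (Red.bc j X).hom = Spec.map (CommRingCat.ofHom (algebraMap R Cx)) := by
    rw [RingHom.algebraMap_toAlgebra, CommRingCat.ofHom_hom, Spec.map_preimage]
  have hxr : Set.range xB.left ⊆ Set.range hWx.fromSpec := by
    rintro _ ⟨z, rfl⟩
    rw [hWx.range_fromSpec]
    exact ((IsLocalRing.specializes_closedPoint (z : PrimeSpectrum B)).map xB.left.continuous).mem_open Wx.2 hxW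
  -- the nilpotent ideal
  let J : Ideal R := (i₀.ker.ideal ⟨V, hV⟩).map (algebraMap C R)
  have hJ : IsNilpotent J := by
    obtain ⟨n, hn⟩ := hVnil
    exact ⟨n, by rw [← Ideal.map_pow, hn, Ideal.zero_eq_bot, Ideal.map_bot]; rfl⟩
  have hmod : ∀ {B' : Type u} [CommRing B'] [Algebra R B'], (∀ r ∈ J, algebraMap R B' r = 0) →
      ∀ (g : Pt (Red.bc j G) B') (x : Pt (Red.bc j X) B'), actBC a j g x = x := by
    intro B' _ _ hB' g x
    let ρ : C ⧸ i₀.ker.ideal ⟨V, hV⟩ →+* B' := Ideal.Quotient.lift _ ((algebraMap R B').comp (algebraMap C R))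
      fun r hr => hB' _ (Ideal.mem_map_of_mem _ hr)
    refine actBC_trivial a j i₀ h0 (Spec.map (CommRingCat.ofHom ρ) ≫
      i₀.ker.subschemeCover.f ⟨V, hV⟩ ≫ inv i₀.toImage) ?_ g x
    show _ = Spec.map (CommRingCat.ofHom (algebraMap R B')) ≫ j
    simp only [Category.assoc]
    rw [show inv i₀.toImage ≫ i₀ = i₀.ker.subschemeι from (IsIso.inv_comp_eq _).2 i₀.toImage_imageι.symm,
      Scheme.IdealSheafData.subschemeCover_map_subschemeι]
    simp only [Scheme.IdealSheafData.glueDataObjι, Category.assoc, IsAffineOpen.isoSpec_inv_ι, j]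
    simp only [← Category.assoc, ← Spec.map_comp, ← CommRingCat.ofHom_comp]
    rfl
  have key := pointAct_trivial (G := Red.bc j G) (X := Red.bc j X) (M := Multiplicative M₀) J hJ (e₁ ≪≫ e₂)
    (fun g x => actBC a j g x) (fun f g x => actBC_comp a j (spMap f) g x) (fun x => actBC_one a j x)
    (fun g h x => actBC_mul a j g h x) hmod hWx.fromSpec hcx (toBC j (b ≫ g)) xB hxr
  have key2 := congrArg (fromBC j) key
  simp only [actBC, xB, fromBC_toBC, ← comp_lift, Category.assoc] at key2
  have key3 := congrArg (fun k => k.left) key2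
  simp only [Over.comp_left, b, Over.homMk_left, Category.assoc] at key3
  exact (cancel_epi (Spec.map (CommRingCat.ofHom iT))).1 key3

end Groth.Agent.MTBridge
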