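import Groth.Agent.MTBridge.CharMap
import Groth.Agent.MTBridge.FlatCover
import Groth.Agent.MultT.ChartEquiv
import Groth.Agent.MultT.TorsionDiag
import Mathlib

/-!
# Bialgebra maps between Hopf algebras of multiplicative type: pieces, fibres, global properties
-/

set_option autoImplicit false
set_option linter.style.haveILetI false
set_option synthInstance.maxHeartbeats 400000
set_option maxHeartbeats 1000000

universe u

open TensorProduct WithConv PrimeSpectrum

noncomputable section

namespace Groth.Agent.MTBridge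

open Groth.Agent.MultT

variable {R A B : Type u} [CommRing R] [CommRing A] [HopfAlgebra R A] [CommRing B] [HopfAlgebra R B]
  (f : B →ₐc[R] A)

/-- The base change of `f`. -/
abbrev idT (T : Type u) [CommRing T] [Algebra R T] : T ⊗[R] B →ₐ[T] T ⊗[R] A :=
  Algebra.TensorProduct.map (AlgHom.id T T) (f : B →ₐ[R] A)

theorem idT_chStage {T T' : Type u} [CommRing T] [Algebra R T] [CommRing T'] [Algebra R T'] (g : T →ₐ[R] T')
    (z : T ⊗[R] B) : idT f T' (chStage g B z) = chStage g A (idT f T z) := by
  induction z using TensorProduct.induction_on with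
  | zero => simp
  | add a b ha hb => rw [map_add, map_add, map_add, map_add, ha, hb]
  | tmul t b => simp [chStage]

/-- A piece: a flat chart on which `f` is given by a map of character groups. -/
structure Piece where
  T : Type u
  [instT : CommRing T]
  [algT : Algebra R T]
  flat : Module.Flat R T
  M : Type u
  N : Type u
  [grpM : CommGroup M]
  [grpN : CommGroup N]
  φ : N →* M
  eA : T ⊗[R] A ≃ₐc[T] MonoidAlgebra T M
  eB : T ⊗[R] B ≃ₐc[T] MonoidAlgebra T N
  compat : ∀ n, idT f T (eB.symm (MonoidAlgebra.single n 1)) = eA.symm (MonoidAlgebra.single (φ n) 1)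

attribute [instance] Piece.instT Piece.algT Piece.grpM Piece.grpN

variable {f}

theorem Piece.idT_eq (P : Piece f) (z : P.T ⊗[R] B) :
    idT f P.T z = P.eA.symm (MonoidAlgebra.mapDomainAlgHom P.T P.T P.φ (P.eB z)) := by
  obtain ⟨w, rfl⟩ : ∃ w, P.eB.symm w = z := ⟨P.eB z, P.eB.symm_apply_apply z⟩
  rw [P.eB.apply_symm_apply]
  induction w using MonoidAlgebra.induction_linear with
  | zero => simp
  | add a b ha hb => simp only [map_add, ha, hb]
  | single n r =>
    rw [show MonoidAlgebra.single n r = r • MonoidAlgebra.single n (1 : P.T) by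
      rw [MonoidAlgebra.smul_single, smul_eq_mul, mul_one], map_smul, map_smul, map_smul, map_smul, P.compat,
      MonoidAlgebra.mapDomainAlgHom_apply, MonoidAlgebra.mapDomain_single]

theorem Piece.idT_faithfullyFlat (P : Piece f) (h : Function.Injective P.φ) :
    (idT f P.T).toRingHom.FaithfullyFlat := by
  let iA : MonoidAlgebra P.T P.M →+* P.T ⊗[R] A := (P.eA.symm : MonoidAlgebra P.T P.M →ₐ[P.T] P.T ⊗[R] A).toRingHom
  let iB : P.T ⊗[R] B →+* MonoidAlgebra P.T P.N := (P.eB : P.T ⊗[R] B →ₐ[P.T] MonoidAlgebra P.T P.N).toRingHom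
  rw [show (idT f P.T).toRingHom =
    (iA.comp (MonoidAlgebra.mapDomainAlgHom P.T P.T P.φ).toRingHom).comp iB from RingHom.ext P.idT_eq]
  have hA : iA.FaithfullyFlat := RingHom.FaithfullyFlat.of_bijective (EquivLike.bijective P.eA.symm)
  have hB : iB.FaithfullyFlat := RingHom.FaithfullyFlat.of_bijective (EquivLike.bijective P.eB)
  exact RingHom.FaithfullyFlat.stableUnderComposition _ _ hB
    (RingHom.FaithfullyFlat.stableUnderComposition _ _ (mapDomain_faithfullyFlat P.T P.φ h) hA)

theorem Piece.idT_surjective (P : Piece f) (h : Function.Surjective P.φ) : Function.Surjective (idT f P.T) := by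
  intro y
  obtain ⟨x, hx⟩ := mapDomain_surjective P.T P.φ h (P.eA y)
  exact ⟨P.eB.symm x, by rw [P.idT_eq, P.eB.apply_symm_apply, hx, P.eA.symm_apply_apply]⟩

theorem Piece.injective_φ (P : Piece f) [Nontrivial P.T] (h : Function.Injective (idT f P.T)) :
    Function.Injective P.φ := by
  refine injective_of_mapDomain P.T P.φ fun a b hab => ?_
  have h1 := h (a₁ := P.eB.symm a) (a₂ := P.eB.symm b) (by
    rw [P.idT_eq, P.idT_eq, P.eB.apply_symm_apply, P.eB.apply_symm_apply, hab])
  simpa using congrArg P.eB h1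

theorem Piece.surjective_φ (P : Piece f) [Nontrivial P.T] (h : Function.Surjective (idT f P.T)) :
    Function.Surjective P.φ := by
  refine surjective_of_mapDomain P.T P.φ fun y => ?_
  obtain ⟨x, hx⟩ := h (P.eA.symm y)
  refine ⟨P.eB x, ?_⟩
  rw [P.idT_eq] at hx
  exact EquivLike.injective P.eA.symm hx

/-- Moving a piece along a map of charts. -/
theorem Piece.exists_stage (P : Piece f) (K : Type u) [CommRing K] [Algebra R K] [Module.Flat R K]
    (g : P.T →ₐ[R] K) : ∃ (eA : K ⊗[R] A ≃ₐc[K] MonoidAlgebra K P.M) (eB : K ⊗[R] B ≃ₐc[K] MonoidAlgebra K P.N),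
      ∀ n, idT f K (eB.symm (MonoidAlgebra.single n 1)) = eA.symm (MonoidAlgebra.single (P.φ n) 1) := by
  obtain ⟨eA, -, hA⟩ := exists_bialgEquiv_stage P.eA g
  obtain ⟨eB, -, hB⟩ := exists_bialgEquiv_stage P.eB g
  exact ⟨eA, eB, fun n => by rw [hB, idT_chStage, P.compat, hA]⟩

/-- Properties of the base change to any ring under the chart (no flatness needed). -/
theorem Piece.stage_properties (P : Piece f) (K : Type u) [CommRing K] [Algebra R K] [Nontrivial K]
    (g : P.T →ₐ[R] K) :
    (Function.Surjective (idT f K) ↔ Function.Surjective P.φ) ∧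
      (Function.Injective P.φ → (idT f K).toRingHom.FaithfullyFlat) ∧
      (Function.Injective (idT f K) → Function.Injective P.φ) := by
  obtain ⟨eA, -, hA⟩ := exists_bialgEquiv_stage P.eA g
  obtain ⟨eB, -, hB⟩ := exists_bialgEquiv_stage P.eB g
  have hc : ∀ n, idT f K (eB.symm (MonoidAlgebra.single n 1)) = eA.symm (MonoidAlgebra.single (P.φ n) 1) :=
    fun n => by rw [hB, idT_chStage, P.compat, hA]
  have heq : ∀ z, idT f K z = eA.symm (MonoidAlgebra.mapDomainAlgHom K K P.φ (eB z)) := by
    intro z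
    obtain ⟨w, rfl⟩ : ∃ w, eB.symm w = z := ⟨eB z, eB.symm_apply_apply z⟩
    rw [eB.apply_symm_apply]
    induction w using MonoidAlgebra.induction_linear with
    | zero => simp
    | add a b ha hb => simp only [map_add, ha, hb]
    | single n r =>
      rw [show MonoidAlgebra.single n r = r • MonoidAlgebra.single n (1 : K) by
        rw [MonoidAlgebra.smul_single, smul_eq_mul, mul_one], map_smul, map_smul, map_smul, map_smul, hc,
        MonoidAlgebra.mapDomainAlgHom_apply, MonoidAlgebra.mapDomain_single]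
  refine ⟨⟨fun h => ?_, fun h => ?_⟩, fun h => ?_, fun h => ?_⟩
  · refine surjective_of_mapDomain K P.φ fun y => ?_
    obtain ⟨x, hx⟩ := h (eA.symm y)
    rw [heq] at hx
    exact ⟨eB x, EquivLike.injective eA.symm hx⟩
  · intro y
    obtain ⟨x, hx⟩ := mapDomain_surjective K P.φ h (eA y)
    exact ⟨eB.symm x, by rw [heq, eB.apply_symm_apply, hx, eA.symm_apply_apply]⟩
  · let iA : MonoidAlgebra K P.M →+* K ⊗[R] A := (eA.symm : MonoidAlgebra K P.M →ₐ[K] K ⊗[R] A).toRingHom
    let iB : K ⊗[R] B →+* MonoidAlgebra K P.N := (eB : K ⊗[R] B →ₐ[K] MonoidAlgebra K P.N).toRingHom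
    rw [show (idT f K).toRingHom =
      (iA.comp (MonoidAlgebra.mapDomainAlgHom K K P.φ).toRingHom).comp iB from RingHom.ext heq]
    exact RingHom.FaithfullyFlat.stableUnderComposition _ _
      (RingHom.FaithfullyFlat.of_bijective (EquivLike.bijective eB))
      (RingHom.FaithfullyFlat.stableUnderComposition _ _ (mapDomain_faithfullyFlat K P.φ h)
        (RingHom.FaithfullyFlat.of_bijective (EquivLike.bijective eA.symm)))
  · refine injective_of_mapDomain K P.φ fun a b hab => ?_
    have h1 := h (a₁ := eB.symm a) (a₂ := eB.symm b) (by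
      rw [heq, heq, eB.apply_symm_apply, eB.apply_symm_apply, hab])
    simpa using congrArg eB h1

/-- Cancellation for faithfully flat maps. -/
theorem faithfullyFlat_of_comp {X Y Z : Type u} [CommRing X] [CommRing Y] [CommRing Z] (a : X →+* Y) (b : Y →+* Z)
    (hb : b.FaithfullyFlat) (hab : (b.comp a).FaithfullyFlat) : a.FaithfullyFlat := by
  rw [RingHom.FaithfullyFlat.iff_flat_and_comap_surjective]
  refine ⟨?_, fun p => ?_⟩
  · letI : Algebra X Y := a.toAlgebra
    letI : Algebra Y Z := b.toAlgebra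
    letI : Algebra X Z := (b.comp a).toAlgebra
    haveI : IsScalarTower X Y Z := .of_algebraMap_eq fun _ => rfl
    haveI : Module.FaithfullyFlat Y Z := hb
    haveI : Module.FaithfullyFlat X Z := hab
    show Module.Flat X Y
    rw [Module.Flat.iff_lTensor_preserves_injective_linearMap]
    intro M M' _ _ _ _ j hj
    let g : Y ⊗[X] M →ₗ[Y] Y ⊗[X] M' := j.baseChange Y
    suffices h : Function.Injective g from h
    refine (Module.FaithfullyFlat.lTensor_injective_iff_injective Y Z g).1 ?_
    let cM := TensorProduct.AlgebraTensorModule.cancelBaseChange X Y Z Z M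
    let cM' := TensorProduct.AlgebraTensorModule.cancelBaseChange X Y Z Z M'
    have hcomm : ∀ z, cM' (g.lTensor Z z) = j.lTensor Z (cM z) := by
      intro z
      induction z using TensorProduct.induction_on with
      | zero => simp
      | add u v hu hv => simp only [map_add, hu, hv]
      | tmul c w =>
        induction w using TensorProduct.induction_on with
        | zero => simp
        | add u v hu hv => simp only [TensorProduct.tmul_add, map_add, hu, hv]
        | tmul y m => simp [g, cM, cM']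
    intro u v huv
    apply cM.injective
    apply Module.Flat.lTensor_preserves_injective_linearMap (M := Z) j hj
    rw [← hcomm, ← hcomm, huv]
  · obtain ⟨q, hq⟩ := (RingHom.FaithfullyFlat.iff_flat_and_comap_surjective.1 hab).2 p
    exact ⟨q.comap b, by rw [← hq, PrimeSpectrum.comap_comp_apply]⟩

section Field

variable (f) {K L : Type u} [Field K] [Field L] [Algebra R K] [Algebra R L] (a : K →ₐ[R] L)

theorem chStage_faithfullyFlat (X : Type u) [CommRing X] [Algebra R X] :
    (chStage a X).toRingHom.FaithfullyFlat := by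
  letI : Algebra K L := a.toRingHom.toAlgebra
  haveI : IsScalarTower R K L := .of_algebraMap_eq fun r => (a.commutes r).symm
  let c := Algebra.TensorProduct.cancelBaseChange R K K L X
  let i : K ⊗[R] X →+* L ⊗[K] (K ⊗[R] X) :=
    (Algebra.TensorProduct.includeRight : K ⊗[R] X →ₐ[K] L ⊗[K] (K ⊗[R] X)).toRingHom
  have hi : i.FaithfullyFlat := by
    letI : Algebra (K ⊗[R] X) (L ⊗[K] (K ⊗[R] X)) := Algebra.TensorProduct.rightAlgebra
    show Module.FaithfullyFlat (K ⊗[R] X) (L ⊗[K] (K ⊗[R] X))
    exact Module.FaithfullyFlat.of_linearEquiv _ _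
      (AlgEquiv.ofRingEquiv (f := (Algebra.TensorProduct.comm K L (K ⊗[R] X)).toRingEquiv) fun x => rfl).toLinearEquiv
  have he : (chStage a X).toRingHom = (c : L ⊗[K] (K ⊗[R] X) →ₐ[K] L ⊗[R] X).toRingHom.comp i := by
    refine RingHom.ext fun z => ?_
    show chStage a X z = c ((1 : L) ⊗ₜ z)
    induction z using TensorProduct.induction_on with
    | zero => simp
    | add u v hu hv => simp only [TensorProduct.tmul_add, map_add, hu, hv]
    | tmul k x =>
      simp [chStage, c, Algebra.smul_def]
      rfl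
  rw [he]
  exact RingHom.FaithfullyFlat.stableUnderComposition _ _ hi
    (RingHom.FaithfullyFlat.of_bijective (EquivLike.bijective c))

include a in
theorem surjective_idT_iff :
    Function.Surjective (idT f L) ↔ Function.Surjective (idT f K) := by
  letI : Algebra K L := a.toRingHom.toAlgebra
  haveI : IsScalarTower R K L := .of_algebraMap_eq fun r => (a.commutes r).symm
  let F : B →ₗ[R] A := (f : B →ₐ[R] A).toLinearMap
  let π := (LinearMap.range F).mkQ
  have key : ∀ (W : Type u) [CommRing W] [Algebra R W],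
      Function.Surjective (idT f W) ↔ Subsingleton (W ⊗[R] (A ⧸ LinearMap.range F)) := by
    intro W _ _
    have hex : Function.Exact F π := LinearMap.exact_map_mkQ_range F
    have hex' := lTensor_exact W hex (Submodule.mkQ_surjective _)
    have hπs := LinearMap.lTensor_surjective W (Submodule.mkQ_surjective (LinearMap.range F))
    have hF : ∀ z, idT f W z = F.lTensor W z := fun z => by
      induction z using TensorProduct.induction_on with
      | zero => simp
      | add u v hu hv => simp only [map_add, hu, hv]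
      | tmul w b => simp [F]
    constructor
    · intro hs
      refine ⟨fun x y => ?_⟩
      obtain ⟨x, rfl⟩ := hπs x
      obtain ⟨y, rfl⟩ := hπs y
      obtain ⟨x', rfl⟩ := hs x
      obtain ⟨y', rfl⟩ := hs y
      rw [hF, hF, hex'.apply_apply_eq_zero, hex'.apply_apply_eq_zero]
    · intro hs y
      obtain ⟨x, hx⟩ := (hex' y).1 (hs.elim _ _)
      exact ⟨x, (hF x).trans hx⟩
  rw [key, key]
  exact ((TensorProduct.AlgebraTensorModule.cancelBaseChange R K K L (A ⧸ LinearMap.range F)).toEquiv.subsingleton_congr).symm.trans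
    (Module.FaithfullyFlat.subsingleton_tensorProduct_iff_right K L)

include a in
theorem injective_idT (h : Function.Injective (idT f K)) : Function.Injective (idT f L) := by
  letI : Algebra K L := a.toRingHom.toAlgebra
  haveI : IsScalarTower R K L := .of_algebraMap_eq fun r => (a.commutes r).symm
  let cB := TensorProduct.AlgebraTensorModule.cancelBaseChange R K K L B
  let cA := TensorProduct.AlgebraTensorModule.cancelBaseChange R K K L A
  have hcomm : ∀ z, idT f L (cB z) = cA ((idT f K).toLinearMap.lTensor L z) := by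
    intro z
    induction z using TensorProduct.induction_on with
    | zero => simp
    | add u v hu hv => simp only [map_add, hu, hv]
    | tmul c w =>
      induction w using TensorProduct.induction_on with
      | zero => simp
      | add u v hu hv => simp only [TensorProduct.tmul_add, map_add, hu, hv]
      | tmul y m => simp [cA, cB]
  intro u v huv
  obtain ⟨u, rfl⟩ := cB.surjective u
  obtain ⟨v, rfl⟩ := cB.surjective v
  rw [hcomm, hcomm] at huv
  exact congrArg cB (Module.Flat.lTensor_preserves_injective_linearMap (M := L) _ h (cA.injective huv))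

end Field

/-- Fibres over the points of a piece. -/
theorem Piece.fibre_iff (P : Piece f) (q : PrimeSpectrum P.T) (p : PrimeSpectrum R)
    (h : q.comap (algebraMap R P.T) = p) :
    (Function.Surjective (idT f p.asIdeal.ResidueField) ↔ Function.Surjective P.φ) ∧
      ((idT f p.asIdeal.ResidueField).toRingHom.FaithfullyFlat ↔ Function.Injective P.φ) := by
  subst h
  haveI : q.asIdeal.LiesOver (q.comap (algebraMap R P.T)).asIdeal := ⟨rfl⟩
  let K := (q.comap (algebraMap R P.T)).asIdeal.ResidueField
  let L := q.asIdeal.ResidueField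
  let a : K →ₐ[R] L := Ideal.ResidueField.mapₐ (q.comap (algebraMap R P.T)).asIdeal q.asIdeal
    (Algebra.ofId R P.T) (q.asIdeal.over_def _)
  obtain ⟨h1, h2, h3⟩ := P.stage_properties L (IsScalarTower.toAlgHom R P.T L)
  refine ⟨(surjective_idT_iff f a).symm.trans h1, ⟨fun hff => h3 (injective_idT f a hff.injective), fun hφ => ?_⟩⟩
  refine faithfullyFlat_of_comp _ (chStage a A).toRingHom (chStage_faithfullyFlat a A) ?_
  rw [show (chStage a A).toRingHom.comp (idT f K).toRingHom = (idT f L).toRingHom.comp (chStage a B).toRingHom from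
    RingHom.ext fun z => (idT_chStage f a z).symm]
  exact RingHom.FaithfullyFlat.stableUnderComposition _ _ (chStage_faithfullyFlat a B) (h2 hφ)

variable (f)

/-- **Pieces cover.** -/
theorem exists_pieces (hA : SGA3b.IsMultType R A) (hB : SGA3b.IsMultType R B) [Algebra.FiniteType R B] :
    ∃ (ι : Type u) (_ : Finite ι) (P : ι → Piece f),
      ∀ p : PrimeSpectrum R, ∃ i q, PrimeSpectrum.comap (algebraMap R (P i).T) q = p := by
  classical
  have hfin : ∀ {X : Type u} [CommRing X] [HopfAlgebra R X], SGA3b.IsMultType R X →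
      ∃ t : Finset R, Ideal.span (t : Set R) = ⊤ ∧ ∀ g ∈ t,
        SGA3b.IsMultTypeConst (Localization.Away g) (Localization.Away g ⊗[R] X) := by
    intro X _ _ ⟨s, hs, h⟩
    obtain ⟨t, ht, ht1⟩ := Submodule.mem_span_finite_of_mem_span
      (show (1 : R) ∈ Ideal.span s from hs ▸ Submodule.mem_top)
    exact ⟨t, Ideal.eq_top_iff_one _ |>.2 ht1, fun g hg => h g (ht hg)⟩
  obtain ⟨tA, htA, hcA⟩ := hfin hA
  obtain ⟨tB, htB, hcB⟩ := hfin hB
  choose SA iSA aSA hffA MA gMA eA using hcA
  choose SB iSB aSB hffB MB gMB eB using hcB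
  letI : ∀ g hg, Algebra R (SA g hg) := fun g hg => Algebra.compHom _ (algebraMap R (Localization.Away g))
  letI : ∀ g hg, Algebra R (SB g hg) := fun g hg => Algebra.compHom _ (algebraMap R (Localization.Away g))
  haveI : ∀ g hg, IsScalarTower R (Localization.Away g) (SA g hg) := fun _ _ => .of_algebraMap_eq fun _ => rfl
  haveI : ∀ g hg, IsScalarTower R (Localization.Away g) (SB g hg) := fun _ _ => .of_algebraMap_eq fun _ => rfl
  haveI hflA : ∀ g hg, Module.Flat R (SA g hg) := fun g hg => by
    haveI := hffA g hg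
    haveI : Module.Flat R (Localization.Away g) := IsLocalization.flat _ (Submonoid.powers g)
    exact Module.Flat.trans R (Localization.Away g) _
  haveI hflB : ∀ g hg, Module.Flat R (SB g hg) := fun g hg => by
    haveI := hffB g hg
    haveI : Module.Flat R (Localization.Away g) := IsLocalization.flat _ (Submonoid.powers g)
    exact Module.Flat.trans R (Localization.Away g) _
  let I := {g // g ∈ tA} × {g // g ∈ tB}
  let T : I → Type u := fun i => SA i.1.1 i.1.2 ⊗[R] SB i.2.1 i.2.2
  have hd : ∀ i : I, ∃ (dA : T i ⊗[R] A ≃ₐc[T i] MonoidAlgebra (T i) (MA i.1.1 i.1.2))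
      (dB : T i ⊗[R] B ≃ₐc[T i] MonoidAlgebra (T i) (MB i.2.1 i.2.2)), True := by
    intro i
    let cA := chartOfEquiv (R := R) (A := A) (eA i.1.1 i.1.2).some
    let cB := chartOfEquiv (R := R) (A := B) (eB i.2.1 i.2.2).some
    letI : Algebra cA.S (T i) :=
      (Algebra.TensorProduct.includeLeftRingHom : SA i.1.1 i.1.2 →+* SA i.1.1 i.1.2 ⊗[R] SB i.2.1 i.2.2).toAlgebra
    letI : Algebra cB.S (T i) :=
      (Algebra.TensorProduct.includeRight : SB i.2.1 i.2.2 →ₐ[R] SA i.1.1 i.1.2 ⊗[R] SB i.2.1 i.2.2).toRingHom.toAlgebra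
    haveI : IsScalarTower R cA.S (T i) := .of_algebraMap_eq fun r => rfl
    haveI : IsScalarTower R cB.S (T i) := .of_algebraMap_eq fun r =>
      ((Algebra.TensorProduct.includeRight : SB i.2.1 i.2.2 →ₐ[R] T i).commutes r).symm
    obtain ⟨dA, -⟩ := cA.exists_bialgEquiv_tmul (T i)
    obtain ⟨dB, -⟩ := cB.exists_bialgEquiv_tmul (T i)
    exact ⟨dA, dB, trivial⟩
  choose dA dB _ using hd
  let J := {i : I // Nontrivial (T i)}
  haveI hN : ∀ i : J, Group.FG (MB i.1.2.1 i.1.2.2) := fun i => by
    haveI := i.2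
    haveI : Algebra.FiniteType (T i.1) (MonoidAlgebra (T i.1) (MB i.1.2.1 i.1.2.2)) :=
      Algebra.FiniteType.of_surjective (dB i.1 : T i.1 ⊗[R] B →ₐ[T i.1] _) (EquivLike.surjective (dB i.1))
    haveI := MonoidAlgebra.finiteType_iff_fg.1 ‹Algebra.FiniteType (T i.1) (MonoidAlgebra (T i.1) (MB i.1.2.1 i.1.2.2))›
    exact Group.fg_iff_monoid_fg.2 inferInstance
  have hpart := fun i : J => exists_partition
    ((dA i.1 : T i.1 ⊗[R] A →ₐc[T i.1] MonoidAlgebra (T i.1) (MA i.1.1.1 i.1.1.2)).comp
      ((Bialgebra.TensorProduct.map (BialgHom.id (T i.1) (T i.1)) f).comp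
        ((dB i.1).symm : MonoidAlgebra (T i.1) (MB i.1.2.1 i.1.2.2) →ₐc[T i.1] T i.1 ⊗[R] B)))
  choose κ hκ e φ he hsum heq using hpart
  haveI := hκ
  let ι := Σ i : J, κ i
  have hmk : ∀ k : ι, ∃ P : Piece f, P.T = Localization.Away (e k.1 k.2) ∧
      ∀ p : PrimeSpectrum R, (∀ q' : PrimeSpectrum (Localization.Away (e k.1 k.2)),
        q'.comap (algebraMap R _) ≠ p) ∨ ∃ q, PrimeSpectrum.comap (algebraMap R P.T) q = p := by
    rintro ⟨i, k⟩
    let T' := Localization.Away (e i k)
    haveI : Module.Flat (T i.1) T' := IsLocalization.flat _ (Submonoid.powers (e i k))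
    haveI : Module.Flat R T' := Module.Flat.trans R (T i.1) T'
    let g := IsScalarTower.toAlgHom R (T i.1) T'
    obtain ⟨eA', -, hA'⟩ := exists_bialgEquiv_stage (dA i.1) g
    obtain ⟨eB', -, hB'⟩ := exists_bialgEquiv_stage (dB i.1) g
    let P : Piece f :=
    { T := T'
      flat := inferInstance
      M := _
      N := _
      φ := φ i k
      eA := eA'
      eB := eB'
      compat := fun n => by
        rw [hB', idT_chStage, hA']
        have hu : IsUnit (g (e i k)) := IsLocalization.map_units T' (⟨e i k, Submonoid.mem_powers _⟩ : Submonoid.powers (e i k))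
        refine (hu.map (algebraMap T' (T' ⊗[R] A))).mul_left_cancel ?_
        rw [← Algebra.smul_def, ← Algebra.smul_def, ← chStage_smul, ← chStage_smul]
        congr 1
        have h1 := heq i k (MonoidAlgebra.single n 1)
        rw [MonoidAlgebra.mapDomainAlgHom_apply, MonoidAlgebra.mapDomain_single] at h1
        have h2 := congrArg (dA i.1).symm h1
        rw [map_smul, map_smul] at h2
        refine Eq.trans ?_ h2
        congr 1
        exact ((dA i.1).symm_apply_apply _).symm }
    refine ⟨P, rfl, fun p => ?_⟩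
    by_cases hp : ∃ q, PrimeSpectrum.comap (algebraMap R P.T) q = p
    · exact Or.inr hp
    · exact Or.inl fun q' hq' => hp ⟨q', hq'⟩
  choose P _ hP using hmk
  haveI : Finite ι := inferInstance
  refine ⟨ι, inferInstance, P, fun p => ?_⟩
  have hcov : ∀ {t : Finset R}, Ideal.span (t : Set R) = ⊤ → ∃ g : {g // g ∈ t}, g.1 ∉ p.asIdeal := by
    intro t ht
    by_contra hc
    push Not at hc
    exact p.isPrime.ne_top (top_le_iff.1 (ht ▸ Ideal.span_le.2 fun g hg => hc ⟨g, hg⟩))
  obtain ⟨⟨ga, hga⟩, hga'⟩ := hcov htA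
  obtain ⟨⟨gb, hgb⟩, hgb'⟩ := hcov htB
  have hlift : ∀ {g : R}, g ∉ p.asIdeal → ∀ (S : Type u) [CommRing S] [Algebra (Localization.Away g) S] [Algebra R S]
      [IsScalarTower R (Localization.Away g) S] [Module.FaithfullyFlat (Localization.Away g) S],
      ∃ q : PrimeSpectrum S, q.comap (algebraMap R S) = p := by
    intro g hg S _ _ _ _ _
    obtain ⟨z, hz⟩ : p ∈ Set.range (PrimeSpectrum.comap (algebraMap R (Localization.Away g))) := by
      rw [PrimeSpectrum.localization_away_comap_range (Localization.Away g) g]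
      exact hg
    obtain ⟨q, hq⟩ := PrimeSpectrum.comap_surjective_of_faithfullyFlat (B := S) z
    refine ⟨q, ?_⟩
    rw [IsScalarTower.algebraMap_eq R (Localization.Away g) S, PrimeSpectrum.comap_comp_apply, hq, hz]
  haveI := hffA ga hga
  haveI := hffB gb hgb
  obtain ⟨qa, hqa⟩ := hlift hga' (SA ga hga)
  obtain ⟨qb, hqb⟩ := hlift hgb' (SB gb hgb)
  haveI : qa.asIdeal.LiesOver p.asIdeal := ⟨by rw [← hqa]; rfl⟩
  haveI : qb.asIdeal.LiesOver p.asIdeal := ⟨by rw [← hqb]; rfl⟩
  let Ka := qa.asIdeal.ResidueField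
  let Kb := qb.asIdeal.ResidueField
  let aa : p.asIdeal.ResidueField →ₐ[R] Ka :=
    Ideal.ResidueField.mapₐ p.asIdeal qa.asIdeal (Algebra.ofId R _) (qa.asIdeal.over_def p.asIdeal)
  let ab : p.asIdeal.ResidueField →ₐ[R] Kb :=
    Ideal.ResidueField.mapₐ p.asIdeal qb.asIdeal (Algebra.ofId R _) (qb.asIdeal.over_def p.asIdeal)
  letI : Algebra p.asIdeal.ResidueField Ka := aa.toRingHom.toAlgebra
  letI : Algebra p.asIdeal.ResidueField Kb := ab.toRingHom.toAlgebra
  haveI : IsScalarTower R p.asIdeal.ResidueField Ka := .of_algebraMap_eq fun r => (aa.commutes r).symm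
  haveI : IsScalarTower R p.asIdeal.ResidueField Kb := .of_algebraMap_eq fun r => (ab.commutes r).symm
  let W := Ka ⊗[p.asIdeal.ResidueField] Kb
  let m : T (⟨ga, hga⟩, ⟨gb, hgb⟩) →ₐ[R] W := Algebra.TensorProduct.lift
    (((Algebra.TensorProduct.includeLeft : Ka →ₐ[p.asIdeal.ResidueField] W).restrictScalars R).comp
      (IsScalarTower.toAlgHom R (SA ga hga) Ka))
    (((Algebra.TensorProduct.includeRight : Kb →ₐ[p.asIdeal.ResidueField] W).restrictScalars R).comp
      (IsScalarTower.toAlgHom R (SB gb hgb) Kb)) fun _ _ => Commute.all _ _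
  obtain ⟨M, hM⟩ := Ideal.exists_maximal W
  haveI := hM.isPrime
  let q₀ : PrimeSpectrum (T (⟨ga, hga⟩, ⟨gb, hgb⟩)) := ⟨M.comap m.toRingHom, Ideal.IsPrime.comap _⟩
  have hq₀ : q₀.comap (algebraMap R _) = p := by
    refine PrimeSpectrum.ext (Ideal.ext fun r => ?_)
    show m (algebraMap R _ r) ∈ M ↔ r ∈ p.asIdeal
    rw [AlgHom.commutes, IsScalarTower.algebraMap_apply R p.asIdeal.ResidueField W]
    rw [← Ideal.algebraMap_residueField_eq_zero (I := p.asIdeal)]
    refine ⟨fun h0 => ?_, fun h0 => by rw [h0, map_zero]; exact M.zero_mem⟩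
    by_contra hne
    exact hM.ne_top (Ideal.eq_top_of_isUnit_mem _ h0 ((isUnit_iff_ne_zero.2 hne).map _))
  let i : J := ⟨(⟨ga, hga⟩, ⟨gb, hgb⟩), ⟨⟨1, 0, fun h10 => q₀.isPrime.ne_top (by
    rw [Ideal.eq_top_iff_one, h10]; exact q₀.asIdeal.zero_mem)⟩⟩⟩
  obtain ⟨k, hk⟩ : ∃ k : κ i, e i k ∉ q₀.asIdeal := by
    by_contra hc
    push Not at hc
    exact q₀.isPrime.ne_top ((Ideal.eq_top_iff_one _).2 (hsum i ▸ Ideal.sum_mem _ fun k _ => hc k))
  obtain ⟨z, hz⟩ : q₀ ∈ Set.range (PrimeSpectrum.comap (algebraMap (T i.1) (Localization.Away (e i k)))) := by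
    rw [PrimeSpectrum.localization_away_comap_range (Localization.Away (e i k)) (e i k)]
    exact hk
  refine ⟨⟨i, k⟩, ?_⟩
  rcases hP ⟨i, k⟩ p with h | h
  · refine absurd ?_ (h z)
    rw [IsScalarTower.algebraMap_eq R (T i.1), PrimeSpectrum.comap_comp_apply, hz, hq₀]
  · exact h

/-- Loci defined by a property of pieces are clopen. -/
theorem isClopen_of_pieces {ι : Type u} [Finite ι] (P : ι → Piece f)
    (hcov : ∀ p : PrimeSpectrum R, ∃ i q, PrimeSpectrum.comap (algebraMap R (P i).T) q = p)
    (S : Set (PrimeSpectrum R)) (G : ι → Prop)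
    (hS : ∀ i q, PrimeSpectrum.comap (algebraMap R (P i).T) q ∈ S ↔ G i) : IsClopen S := by
  have hcl : ∀ (S : Set (PrimeSpectrum R)) (G : ι → Prop),
      (∀ i q, PrimeSpectrum.comap (algebraMap R (P i).T) q ∈ S ↔ G i) → IsClosed S := by
    intro S G hS
    let X := ∀ i : {i // G i}, (P i.1).T
    have hr : S = Set.range (PrimeSpectrum.comap (algebraMap R X)) := by
      ext p
      constructor
      · intro hp
        obtain ⟨i, q, rfl⟩ := hcov p
        exact ⟨q.comap (Pi.evalRingHom (fun i : {i // G i} => (P i.1).T) ⟨i, (hS i q).1 hp⟩), rfl⟩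
      · rintro ⟨z, rfl⟩
        obtain ⟨i, q, rfl⟩ := PrimeSpectrum.exists_comap_evalRingHom_eq z
        exact (hS i.1 q).2 i.2
    rw [hr]
    refine PrimeSpectrum.isClosed_range_of_stableUnderSpecialization _ fun x y hxy hx => ?_
    rw [← hr] at hx ⊢
    obtain ⟨j, qj, hqj⟩ := hcov y
    haveI := (P j).flat
    haveI : qj.asIdeal.LiesOver y.asIdeal := ⟨by rw [← hqj]; rfl⟩
    obtain ⟨Q, -, hQp, hQ⟩ := Ideal.exists_ideal_le_liesOver_of_le (q := y.asIdeal) qj.asIdeal
      ((PrimeSpectrum.le_iff_specializes x y).2 hxy)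
    have hQx : PrimeSpectrum.comap (algebraMap R (P j).T) ⟨Q, hQp⟩ = x := PrimeSpectrum.ext hQ.over.symm
    rw [← hqj, hS]
    exact (hS j ⟨Q, hQp⟩).1 (hQx.symm ▸ hx)
  exact ⟨hcl S G hS, isClosed_compl_iff.1 (hcl Sᶜ (fun i => ¬ G i) fun i q => not_congr (hS i q))⟩

end Groth.Agent.MTBridge
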