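import Groth.Agent.MTBridge.OfHopf
import Groth.Agent.MTBridge.SubgroupsClopen
import Groth.Agent.MTBridge.SubEqNil
import Groth.Agent.MultT.Kernel
import Mathlib

/-!
# The torsion subgroup of a group of multiplicative type
-/

set_option autoImplicit false
set_option linter.style.haveILetI false
set_option backward.isDefEq.respectTransparency false
set_option maxHeartbeats 1000000
set_option synthInstance.maxHeartbeats 400000

universe u

open CategoryTheory Limits MonoidalCategory CartesianMonoidalCategory AlgebraicGeometry Opposite WithConv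
open scoped MonObj

noncomputable section

namespace Groth.Agent.MTBridge

variable {R A : Type u} [CommRing R] [CommRing A] [HopfAlgebra R A]

/-- Maps into affine groups factor uniquely through the ring of global sections. -/
theorem exists_affinization (X : Over (Spec (CommRingCat.of R))) :
    ∃ (T : Type u) (_ : CommRing T) (_ : Algebra R T)
      (q : X ⟶ (Spec (CommRingCat.of T)).asOver (Spec (CommRingCat.of R))),
      (∀ h : X ⟶ (specGrp R A).X, ∃ φ : A →ₐ[R] T, q ≫ pt (toConv φ) = h) ∧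
      ∀ a b : Pt (specGrp R A).X T, q ≫ a = q ≫ b → a = b := by
  let T : Type u := Γ(X.left, ⊤)
  let dec : ∀ {B : CommRingCat.{u}} (_ : X.left ⟶ Spec B), B ⟶ CommRingCat.of T :=
    fun {B} m => (Scheme.ΓSpecIso B).inv ≫ m.appTop
  have hdec : ∀ {B : CommRingCat.{u}} (m : X.left ⟶ Spec B), X.left.toSpecΓ ≫ Spec.map (dec m) = m := fun {B} m => by
    show X.left.toSpecΓ ≫ Spec.map (_ ≫ _) = m
    rw [Spec.map_comp, ← Scheme.toSpecΓ_naturality_assoc, toSpecΓ_SpecMap_ΓSpecIso_inv, Category.comp_id]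
  have hinj : ∀ {B : CommRingCat.{u}} (a b : Spec (CommRingCat.of T) ⟶ Spec B),
      X.left.toSpecΓ ≫ a = X.left.toSpecΓ ≫ b → a = b := fun {B} a b h => by
    obtain ⟨a, rfl⟩ := Spec.map_surjective a
    obtain ⟨b, rfl⟩ := Spec.map_surjective b
    have key : ∀ c : B ⟶ CommRingCat.of T, (X.left.toSpecΓ ≫ Spec.map c).appTop = (Scheme.ΓSpecIso B).hom ≫ c := by
      intro c
      rw [Scheme.Hom.comp_appTop, Scheme.toSpecΓ_appTop]
      exact Scheme.ΓSpecIso_naturality c
    have h1 := congrArg (fun m => Scheme.Hom.appTop m) h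
    simp only [key] at h1
    rw [(Iso.cancel_iso_hom_left _ _ _).1 h1]
  letI : Algebra R T := (dec X.hom).hom.toAlgebra
  let q : X ⟶ (Spec (CommRingCat.of T)).asOver (Spec (CommRingCat.of R)) :=
    Over.homMk X.left.toSpecΓ (hdec X.hom)
  refine ⟨T, inferInstance, inferInstance, q, fun h => ?_, fun a b hab => ?_⟩
  · let χ := dec h.left
    have hχ : CommRingCat.ofHom (algebraMap R A) ≫ χ = CommRingCat.ofHom (algebraMap R T) := by
      apply Spec.map_injective
      refine hinj _ _ ?_
      rw [Spec.map_comp, ← Category.assoc, hdec h.left]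
      exact (Over.w h).trans (hdec X.hom).symm
    let φ : A →ₐ[R] T := { χ.hom with commutes' := fun r => congr($(hχ) r) }
    exact ⟨φ, Over.OverMorphism.ext (hdec h.left)⟩
  · exact Over.OverMorphism.ext (hinj a.left b.left (congrArg (fun m => m.left) hab))

/-- The torsion subgroup. -/
theorem exists_torsion (hA : SGA3b.IsMultType R A) [Algebra.FiniteType R A] (n : ℕ) :
    ∃ (B : Type u) (_ : CommRing B) (_ : HopfAlgebra R B), SGA3b.IsMultType R B ∧ Algebra.FiniteType R B ∧
      ∃ e : (specGrp R B).X ⟶ (specGrp R A).X, IsMonHom e ∧ IsClosedImmersion e.left ∧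
        ∀ (X : Over (Spec (CommRingCat.of R))) (h : X ⟶ (specGrp R A).X),
          (∃ y : X ⟶ (specGrp R B).X, y ≫ e = h) ↔ h ^ n = 1 := by
  haveI : Coalgebra.IsCocomm R A := Groth.Agent.MultT.isCocomm hA
  let T := SGA3b.torsionIdeal R A n
  haveI : T.IsHopfIdeal R := Groth.Agent.MultT.isHopfIdeal_torsion n
  have hB : SGA3b.IsMultType R (A ⧸ T) := Groth.Agent.MultT.isMultType_torsion hA n T rfl
  haveI : Algebra.FiniteType R (A ⧸ T) :=
    Algebra.FiniteType.of_surjective (Ideal.Quotient.mkₐ R T) Ideal.Quotient.mk_surjective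
  obtain ⟨ι', hι, hιl⟩ := exists_hom_of_bialgHom (Bialgebra.Quotient.mkBialgHom (R := R) T)
  haveI := hι
  refine ⟨A ⧸ T, inferInstance, inferInstance, hB, inferInstance, ι', hι, ?_, fun X h => ?_⟩
  · rw [hιl]
    exact IsClosedImmersion.spec_of_surjective _ Ideal.Quotient.mk_surjective
  have hpt : ι' = pt (toConv (Ideal.Quotient.mkₐ R T)) := Over.OverMorphism.ext hιl
  constructor
  · rintro ⟨y, rfl⟩
    rw [hpt, ← MonObj.comp_pow]
    have h1 : (pt (toConv (Ideal.Quotient.mkₐ R T))) ^ n = 1 := by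
      rw [pt_pow_eq_one_iff]
      intro a ha
      rw [RingHom.mem_ker, Ideal.Quotient.mkₐ_eq_mk, Ideal.Quotient.eq_zero_iff_mem]
      exact ha
    rw [h1, MonObj.comp_one]
  · intro hn
    obtain ⟨T', _, _, q, hq, hqinj⟩ := exists_affinization (A := A) X
    obtain ⟨φ, rfl⟩ := hq h
    have h1 : (pt (toConv φ)) ^ n = 1 := hqinj _ _ (by rw [MonObj.comp_pow, hn, MonObj.comp_one])
    have hle := (pt_pow_eq_one_iff φ n).1 h1
    let φ' : A ⧸ T →ₐ[R] T' := Ideal.Quotient.liftₐ T φ fun a ha => hle ha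
    refine ⟨q ≫ pt (toConv φ'), ?_⟩
    rw [Category.assoc, hpt, ← spMap_eq_pt' φ', spMap_pt]
    rfl
where
  spMap_eq_pt' {T' : Type u} [CommRing T'] [Algebra R T'] {B : Type u} [CommRing B] [HopfAlgebra R B]
      (f : B →ₐ[R] T') : spMap f = pt (toConv f) := Over.OverMorphism.ext rfl

end Groth.Agent.MTBridge
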