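import Mathlib

/-!
# Gradings which are trivial modulo a nilpotent ideal are trivial
-/

set_option autoImplicit false
set_option maxHeartbeats 1000000

universe u v

open MonoidAlgebra

noncomputable section

namespace Groth.Agent.MTBridge

variable {R : Type u} [CommRing R] {A : Type u} [CommRing A] [Algebra R A] {M : Type v} [CommMonoid M]

/-- The value of a coaction at a pair of points. -/
def evAct (ψ : A →ₐ[R] MonoidAlgebra A M) {B : Type*} [CommRing B] [Algebra R B] (g : M →* B) (x : A →ₐ[R] B) :
    A →ₐ[R] B :=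
  (liftNCAlgHom x g fun _ _ => Commute.all _ _).comp ψ

theorem evAct_apply (ψ : A →ₐ[R] MonoidAlgebra A M) {B : Type*} [CommRing B] [Algebra R B] (g : M →* B)
    (x : A →ₐ[R] B) (a : A) : evAct ψ g x a = (ψ a).coeff.sum fun m c => x c * g m := by
  simp [evAct, liftNCAlgHom, liftNCRingHom, MonoidAlgebra.liftNC]
  rfl

set_option synthInstance.maxHeartbeats 400000 in
/-- An action of a diagonalisable monoid which is trivial modulo a nilpotent ideal of the base is trivial. -/
theorem coact_trivial (J : Ideal R) (hJ : IsNilpotent J) (ψ : A →ₐ[R] MonoidAlgebra A M)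
    (h1 : evAct ψ (1 : M →* A) (AlgHom.id R A) = AlgHom.id R A)
    (h2 : ∀ (g h : M →* MonoidAlgebra (MonoidAlgebra A M) M) (x : A →ₐ[R] MonoidAlgebra (MonoidAlgebra A M) M),
      evAct ψ (g * h) x = evAct ψ g (evAct ψ h x))
    (h3 : ∀ (g : M →* MonoidAlgebra (A ⧸ J.map (algebraMap R A)) M)
      (x : A →ₐ[R] MonoidAlgebra (A ⧸ J.map (algebraMap R A)) M), evAct ψ g x = x) :
    ψ = singleOneAlgHom := by
  classical
  let p : M → A →ₗ[R] A := fun m =>
    ((Finsupp.lapply m).comp (coeffLinearEquiv R).toLinearMap).comp ψ.toLinearMap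
  have hp : ∀ m a, p m a = (ψ a).coeff m := fun m a => rfl
  have hpp : ∀ m a, p m (p m a) = p m a := by
    intro m a
    let W := MonoidAlgebra A M
    let inW : W →ₐ[R] MonoidAlgebra W M := singleOneAlgHom
    have e := h2 (MonoidAlgebra.of W M) ((inW : W →* MonoidAlgebra W M).comp (MonoidAlgebra.of A M))
      (inW.comp singleOneAlgHom)
    have e1 : evAct ψ ((inW : W →* MonoidAlgebra W M).comp (MonoidAlgebra.of A M)) (inW.comp singleOneAlgHom) =
        inW.comp ψ := by
      refine congrArg (fun f => AlgHom.comp f ψ) (MonoidAlgebra.algHom_ext (fun k => ?_) ?_)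
      · simp [liftNCAlgHom, liftNCRingHom, singleOneAlgHom, MonoidAlgebra.of, ← MonoidAlgebra.one_def]
      · ext c
        simp [liftNCAlgHom, liftNCRingHom, singleOneAlgHom, MonoidAlgebra.of, ← MonoidAlgebra.one_def]
    rw [e1] at e
    have e2 := congrArg (fun f : A →ₐ[R] MonoidAlgebra W M => ((f a).coeff m).coeff m) e
    simp only [evAct_apply, MonoidHom.mul_apply] at e2
    have l : ((((ψ a).coeff.sum fun k c => (inW.comp singleOneAlgHom) c *
        (MonoidAlgebra.of W M k * ((inW : W →* MonoidAlgebra W M).comp (MonoidAlgebra.of A M)) k))).coeff m).coeff m =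
          p m a := by
      rw [hp, Finsupp.sum, coeff_sum, Finsupp.finsetSum_apply, coeff_sum, Finsupp.finsetSum_apply,
        Finset.sum_eq_single m]
      · simp [inW, singleOneAlgHom, MonoidAlgebra.of, single_mul_single]
        exact congrArg (fun z : MonoidAlgebra A M => z.coeff m) (single_mul_single ..) |>.trans (by simp)
      · intro k _ hk
        simp [inW, singleOneAlgHom, MonoidAlgebra.of, single_mul_single, hk]
      · intro hm
        simp [inW, singleOneAlgHom, MonoidAlgebra.of, single_mul_single, Finsupp.notMem_support_iff.1 hm]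
    have r : ((((ψ a).coeff.sum fun k c => (inW.comp ψ) c * MonoidAlgebra.of W M k)).coeff m).coeff m =
          p m (p m a) := by
      rw [hp, hp, Finsupp.sum, coeff_sum, Finsupp.finsetSum_apply, coeff_sum, Finsupp.finsetSum_apply,
        Finset.sum_eq_single m]
      · simp [inW, singleOneAlgHom, MonoidAlgebra.of, single_mul_single]
      · intro k _ hk
        simp [inW, singleOneAlgHom, MonoidAlgebra.of, single_mul_single, hk]
      · intro hm
        simp [inW, singleOneAlgHom, MonoidAlgebra.of, single_mul_single, Finsupp.notMem_support_iff.1 hm]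
    exact (r.symm.trans (e2.symm.trans l))
  have hJ1 : ∀ m, m ≠ 1 → ∀ a, p m a ∈ J • (⊤ : Submodule R A) := by
    intro m hm a
    have e := congrArg (fun f : A →ₐ[R] MonoidAlgebra (A ⧸ J.map (algebraMap R A)) M => (f a).coeff m)
      (h3 (MonoidAlgebra.of _ M) (singleOneAlgHom.comp (Ideal.Quotient.mkₐ R _)))
    simp only [evAct_apply] at e
    rw [Ideal.smul_top_eq_map, Submodule.restrictScalars_mem, ← Ideal.Quotient.eq_zero_iff_mem, hp]
    rw [Finsupp.sum, coeff_sum, Finsupp.finsetSum_apply, Finset.sum_eq_single m] at e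
    · simpa [single_mul_single, Finsupp.single_eq_of_ne hm] using e
    · intro k _ hk
      simp [single_mul_single, hk]
    · intro h
      simp [Finsupp.notMem_support_iff.1 h]
  have hk : ∀ (k : ℕ) m, m ≠ 1 → ∀ a, p m a ∈ J ^ k • (⊤ : Submodule R A) := by
    intro k
    induction k with
    | zero => intro m _ a; simp [Ideal.map_top]
    | succ k ih =>
      intro m hm a
      have h : (J ^ k • (⊤ : Submodule R A)).map (p m) ≤ J ^ (k + 1) • ⊤ := by
        rw [Submodule.map_smul'', pow_succ, ← smul_eq_mul, Submodule.smul_assoc]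
        refine Submodule.smul_mono le_rfl ?_
        rintro _ ⟨b, -, rfl⟩
        exact hJ1 m hm b
      rw [← hpp]
      exact h (Submodule.mem_map_of_mem (ih m hm a))
  obtain ⟨n, hn⟩ := hJ
  have h0 : ∀ m, m ≠ 1 → ∀ a, (ψ a).coeff m = 0 := fun m hm a => by
    have := hk n m hm a
    rw [hn] at this
    simpa [hp] using this
  refine AlgHom.ext fun a => MonoidAlgebra.ext (Finsupp.ext fun m => ?_)
  have e1 := AlgHom.congr_fun h1 a
  rw [evAct_apply, Finsupp.sum, Finset.sum_eq_single 1 (fun k _ hk => by simp [h0 k hk a])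
    (fun h => by simp [Finsupp.notMem_support_iff.1 h])] at e1
  by_cases hm : m = 1
  · subst hm
    simpa using e1
  · rw [h0 m hm a]
    simp [hm]

/-- Trivial coactions evaluate to the given point. -/
theorem evAct_trivial {B : Type*} [CommRing B] [Algebra R B] (g : M →* B) (x : A →ₐ[R] B) :
    evAct (singleOneAlgHom : A →ₐ[R] MonoidAlgebra A M) g x = x := by
  ext a
  simp [evAct, liftNCAlgHom, liftNCRingHom]

end Groth.Agent.MTBridge
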