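import Groth.Agent.MTBridge.Subgroups
import Mathlib

/-!
# Two characters over a local base which agree on the closed fibre, one being central there, agree
-/

set_option autoImplicit false
set_option linter.style.haveILetI false
set_option linter.unusedSectionVars false
set_option backward.isDefEq.respectTransparency false
set_option maxHeartbeats 1000000
set_option synthInstance.maxHeartbeats 400000

universe u

open CategoryTheory Limits MonoidalCategory CartesianMonoidalCategory AlgebraicGeometry TensorProduct Opposite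
open TopologicalSpace WithConv
open scoped CategoryTheory.Obj MonObj

noncomputable section

namespace Groth.Agent.MTBridge

variable {R A : Type u} [CommRing R] [CommRing A] [HopfAlgebra R A] {G : Over (Spec (CommRingCat.of R))}

/-- The diagonal of a group. -/
abbrev diagHom (G : Over (Spec (CommRingCat.of R))) : G ⟶ G ⊗ G := lift (𝟙 G) (𝟙 G)

instance isImmersion_diagHom : IsImmersion (diagHom G).left := by
  show IsImmersion (pullback.diagonal G.hom)
  infer_instance

theorem inIm_diag_iff {T : Type u} [CommRing T] [Algebra R T] (x y : Pt G T) :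
    InIm (diagHom G) (lift x y) ↔ x = y := by
  constructor
  · rintro ⟨z, hz⟩
    have h1 : x = z := by simpa using congrArg (fun m => m ≫ fst G G) hz
    have h2 : y = z := by simpa using congrArg (fun m => m ≫ snd G G) hz
    exact h1.trans h2.symm
  · rintro rfl
    exact ⟨x, by rw [comp_lift, Category.comp_id]⟩

variable [GrpObj G]

theorem IsChar.pair {B : Type u} [CommRing B] [Algebra R B] {x y : Pt G (B ⊗[R] A)} (hx : IsChar x) (hy : IsChar y) :
    IsChar (lift x y) := by
  unfold IsChar at *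
  apply CartesianMonoidalCategory.hom_ext
  · rw [MonObj.mul_comp, Category.assoc, Category.assoc, Category.assoc, lift_fst, hx]
  · rw [MonObj.mul_comp, Category.assoc, Category.assoc, Category.assoc, lift_snd, hy]

/-- The finite case. -/
theorem char_eq_finite' (hA : SGA3b.IsMultType R A) [Module.Finite R A] {B : Type u} [CommRing B] [Algebra R B]
    [IsLocalRing B] (hfin : LocallyOfFiniteType G.hom ∨ IsNoetherianRing B) (x y : Pt G (B ⊗[R] A))
    (hx : IsChar x) (hy : IsChar y)
    (hcomm : ∀ (L : Type u) [CommRing L] [Algebra R L] (h : B ⊗[R] A →ₐ[R] L),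
      (∀ b ∈ IsLocalRing.maximalIdeal B, h (b ⊗ₜ 1) = 0) → ∀ p : Pt G L, (spMap h ≫ x) * p = p * (spMap h ≫ x))
    (hclosed : spMap (bA A (Ideal.Quotient.mkₐ R (IsLocalRing.maximalIdeal B))) ≫ x =
      spMap (bA A (Ideal.Quotient.mkₐ R (IsLocalRing.maximalIdeal B))) ≫ y) : x = y := by
  classical
  haveI : Module.Projective R A := Groth.Agent.MultT.projective hA
  haveI : Module.Finite B (B ⊗[R] A) := Module.Finite.base_change R B A
  let i := diagHom G
  let xy : Pt (G ⊗ G) (B ⊗[R] A) := lift x y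
  have hiff : ∀ (T : Type u) [CommRing T] [Algebra R T] (h : B ⊗[R] A →ₐ[R] T),
      InIm i (spMap h ≫ xy) ↔ spMap h ≫ x = spMap h ≫ y := fun T _ _ h => by
    rw [comp_lift, inIm_diag_iff]
  set m := IsLocalRing.maximalIdeal B with hm
  let mk : B →ₐ[R] B ⧸ m := Ideal.Quotient.mkₐ R m
  have hmax : ∀ P : PrimeSpectrum (B ⊗[R] A), P.asIdeal.IsMaximal → P ∈ imLocus i xy := by
    intro P hP
    haveI := hP
    let hPa : B ⊗[R] A →ₐ[R] P.asIdeal.ResidueField := IsScalarTower.toAlgHom R _ _
    have h0 : m = P.asIdeal.comap (algebraMap B (B ⊗[R] A)) :=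
      (IsLocalRing.eq_maximalIdeal (Ideal.isMaximal_comap_of_isIntegral_of_isMaximal P.asIdeal)).symm
    let φ : B ⧸ m →ₐ[R] P.asIdeal.ResidueField := Ideal.Quotient.liftₐ m (hPa.comp (inB R A B)) fun b hb => by
      exact Ideal.algebraMap_residueField_eq_zero.2 (h0.le hb)
    let k : (B ⧸ m) ⊗[R] A →ₐ[R] P.asIdeal.ResidueField :=
      Algebra.TensorProduct.productMap φ (hPa.comp Algebra.TensorProduct.includeRight)
    have hk : k.comp (bA A mk) = hPa := by
      ext <;> simp [k, bA, φ, mk, inB, ← Algebra.TensorProduct.one_def]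
    refine mem_imLocus_of_inIm i xy hPa ?_ P (Ideal.ext fun a => ?_)
    · rw [hiff, ← hk, ← spMap_assoc, ← spMap_assoc, hclosed]
    · rw [RingHom.mem_ker]
      exact Ideal.algebraMap_residueField_eq_zero
  obtain ⟨J, hJfg, hJu⟩ := exists_factor_ideal i xy (isClosed_imLocus_of_maximal i xy hmax)
  have hJ : J.FG := hJfg (hfin.imp (fun h => by
      haveI := h
      show LocallyOfFinitePresentation (pullback.diagonal G.hom)
      exact Groth.Agent.S4599.result G.hom)
    fun h => by haveI := h; exact IsNoetherianRing.of_finite B (B ⊗[R] A))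
  obtain ⟨K, hKfg, hK⟩ := exists_coord_ideal J hJ
  have hker : ∀ (T : Type u) [CommRing T] [Algebra R T] (g : B →ₐ[R] T), Function.Surjective g →
      (spMap (bA A g) ≫ x = spMap (bA A g) ≫ y ↔ K ≤ RingHom.ker g) := fun T _ _ g hg => by
    rw [← hiff, hJu, ker_bA g hg, hK]
  have hKm : K ≤ m := fun b hb =>
    Ideal.Quotient.eq_zero_iff_mem.1 ((hker _ mk Ideal.Quotient.mk_surjective).1 hclosed hb)
  obtain ⟨C, _, c, _, θe, he, hgen⟩ := exists_unit_chart (G := G) B
  let m₂ : B →ₐ[R] (B ⧸ K * K) := Ideal.Quotient.mkₐ R (K * K)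
  let I : Ideal (B ⧸ K * K) := K.map m₂
  have hI : I * I = ⊥ := by
    rw [← Ideal.map_mul, Ideal.map_eq_bot_iff_le_ker]
    exact fun b hb => Ideal.Quotient.eq_zero_iff_mem.2 hb
  have hQ : NakHyp c (m.map m₂) := by
    refine Or.inr ⟨hfin.imp hgen fun h => by haveI := h; infer_instance, le_sInf fun M ⟨_, hM⟩ => ?_⟩
    haveI := hM
    rw [Ideal.map_le_iff_le_comap]
    exact (IsLocalRing.eq_maximalIdeal (Ideal.comap_isMaximal_of_surjective m₂ Ideal.Quotient.mk_surjective)).ge
  have key : spMap (bA A m₂) ≫ x = spMap (bA A m₂) ≫ y := by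
    refine eq_of_sq_zero hA (spMap (bA A m₂) ≫ x) (spMap (bA A m₂) ≫ y) (hx.res m₂) (hy.res m₂) (m.map m₂) hQ
      (fun L _ _ h hh p => ?_) (m₂.toRingHom.comp θe) ?_ I hI ?_
    · rw [spMap_assoc]
      refine hcomm L _ (fun b hb => ?_) p
      rw [AlgHom.comp_apply, show bA A m₂ (b ⊗ₜ[R] (1 : A)) = m₂ b ⊗ₜ[R] (1 : A) by simp [bA]]
      exact hh _ (Ideal.mem_map_of_mem _ hb)
    · have := he.res m₂
      rwa [MonObj.comp_one] at this
    · rw [spMap_assoc, spMap_assoc, bA_comp]
      refine (hker _ _ ((Ideal.Quotient.mk_surjective).comp Ideal.Quotient.mk_surjective)).2 fun b hb => ?_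
      exact Ideal.Quotient.eq_zero_iff_mem.2 (Ideal.mem_map_of_mem m₂ hb)
  have hK2 : K ≤ K • K := fun b hb =>
    Ideal.Quotient.eq_zero_iff_mem.1 ((hker _ m₂ Ideal.Quotient.mk_surjective).1 key hb)
  have hK0 : K = ⊥ := Submodule.eq_bot_of_le_smul_of_le_jacobson_bot K K hKfg hK2
    (by rw [IsLocalRing.jacobson_eq_maximalIdeal ⊥ bot_ne_top]; exact hKm)
  have := (hker B (AlgHom.id R B) Function.surjective_id).2 (by rw [hK0]; exact bot_le)
  rwa [show bA A (AlgHom.id R B) = AlgHom.id R (B ⊗[R] A) from Algebra.TensorProduct.map_id, spMap_id,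
    Category.id_comp, Category.id_comp] at this

/-- **Rigidity over a local base.** -/
theorem char_eq_local (hA : SGA3b.IsMultType R A) [Algebra.FiniteType R A] {B : Type u} [CommRing B] [Algebra R B]
    [IsLocalRing B] (hfin : LocallyOfFiniteType G.hom ∨ IsNoetherianRing B) (x y : Pt G (B ⊗[R] A))
    (hx : IsChar x) (hy : IsChar y)
    (hcomm : ∀ (L : Type u) [CommRing L] [Algebra R L] (h : B ⊗[R] A →ₐ[R] L),
      (∀ b ∈ IsLocalRing.maximalIdeal B, h (b ⊗ₜ 1) = 0) → ∀ p : Pt G L, (spMap h ≫ x) * p = p * (spMap h ≫ x))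
    (hclosed : spMap (bA A (Ideal.Quotient.mkₐ R (IsLocalRing.maximalIdeal B))) ≫ x =
      spMap (bA A (Ideal.Quotient.mkₐ R (IsLocalRing.maximalIdeal B))) ≫ y) : x = y := by
  haveI : IsMonHom (diagHom G) :=
    { one_hom := by ext <;> simp
      mul_hom := by ext <;> simp }
  rw [← inIm_diag_iff]
  refine char_factor hA (diagHom G) _ (hx.pair hy) fun n hn => ?_
  rw [comp_lift, inIm_diag_iff]
  haveI : Coalgebra.IsCocomm R A := Groth.Agent.MultT.isCocomm hA
  let T := SGA3b.torsionIdeal R A n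
  haveI : T.IsHopfIdeal R := Groth.Agent.MultT.isHopfIdeal_torsion n
  obtain ⟨hT, hTf⟩ := Groth.Agent.S5242.result R A inferInstance hA n hn T rfl
  haveI := hTf
  let π : A →ₐc[R] A ⧸ T := Bialgebra.Quotient.mkBialgHom T
  show spMap (gA π B) ≫ x = spMap (gA π B) ≫ y
  refine char_eq_finite' hT hfin _ _ (hx.change π B) (hy.change π B) (fun L _ _ h hh p => ?_) ?_
  · rw [spMap_assoc]
    refine hcomm L _ (fun b hb => ?_) p
    rw [AlgHom.comp_apply, show gA π B (b ⊗ₜ[R] (1 : A)) = b ⊗ₜ[R] (1 : A ⧸ T) by simp [gA]]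
    exact hh b hb
  · rw [spMap_assoc, spMap_assoc, gA_bA, ← spMap_assoc, ← spMap_assoc, hclosed]

end Groth.Agent.MTBridge
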