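import Groth.Agent.MTBridge.Clopen
import Mathlib

/-!
# Mono, iso and faithfully flat loci of homomorphisms of groups of multiplicative type
-/

set_option autoImplicit false
set_option linter.style.haveILetI false
set_option backward.isDefEq.respectTransparency false
set_option maxHeartbeats 1000000
set_option synthInstance.maxHeartbeats 400000

universe u

open CategoryTheory Limits MonoidalCategory CartesianMonoidalCategory AlgebraicGeometry TensorProduct Opposite
open TopologicalSpace WithConv
open scoped CategoryTheory.Obj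

noncomputable section

namespace Groth.Agent.MTBridge

open Groth.Agent.MultT

/-- An epimorphism of rings between group algebras comes from a surjection of groups. -/
theorem surjective_of_mapDomain_epi (K : Type u) [CommRing K] [Nontrivial K] {M N : Type u} [CommGroup M]
    [CommGroup N] (φ : N →* M)
    (h : ∀ (W : Type u) [CommRing W] (g₁ g₂ : MonoidAlgebra K M →+* W),
      g₁.comp (MonoidAlgebra.mapDomainAlgHom K K φ).toRingHom = g₂.comp (MonoidAlgebra.mapDomainAlgHom K K φ).toRingHom →
      g₁ = g₂) : Function.Surjective φ := by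
  let Q := M ⧸ φ.range
  have hs : ∀ {X : Type u} [CommGroup X] (ψ : M →* X) (m : M) (r : K),
      MonoidAlgebra.mapDomainAlgHom K K ψ (MonoidAlgebra.single m r) = MonoidAlgebra.single (ψ m) r :=
    fun ψ m r => by simp [MonoidAlgebra.mapDomainAlgHom_apply]
  have h1 := h (MonoidAlgebra K Q) (MonoidAlgebra.mapDomainAlgHom K K (QuotientGroup.mk' φ.range)).toRingHom
    (MonoidAlgebra.mapDomainAlgHom K K (1 : M →* Q)).toRingHom ?_
  · intro m
    have h2 := RingHom.congr_fun h1 (MonoidAlgebra.single m 1)
    change MonoidAlgebra.mapDomainAlgHom K K _ _ = MonoidAlgebra.mapDomainAlgHom K K _ _ at h2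
    rw [hs, hs] at h2
    have h3 := MonoidAlgebra.single_left_injective (R := K) one_ne_zero h2
    exact MonoidHom.mem_range.1 ((QuotientGroup.eq_one_iff m).1 h3)
  · refine RingHom.ext fun x => ?_
    induction x using MonoidAlgebra.induction_linear with
    | zero => simp
    | add a b ha hb => rw [map_add, map_add, ha, hb]
    | single n r =>
      show MonoidAlgebra.mapDomainAlgHom K K (QuotientGroup.mk' φ.range) (MonoidAlgebra.mapDomainAlgHom K K φ _) =
        MonoidAlgebra.mapDomainAlgHom K K (1 : M →* Q) (MonoidAlgebra.mapDomainAlgHom K K φ _)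
      rw [show MonoidAlgebra.mapDomainAlgHom K K φ (MonoidAlgebra.single n r) = MonoidAlgebra.single (φ n) r from by
        simp [MonoidAlgebra.mapDomainAlgHom_apply], hs, hs, MonoidHom.one_apply,
        show (QuotientGroup.mk' φ.range) (φ n) = 1 from (QuotientGroup.eq_one_iff _).2 (MonoidHom.mem_range.2 ⟨n, rfl⟩)]

variable {R A B : Type u} [CommRing R] [CommRing A] [HopfAlgebra R A] [CommRing B] [HopfAlgebra R B]
  {f : B →ₐc[R] A}

/-- If the fibre map is a monomorphism, it is surjective. -/
theorem surjective_fibre_of_mono (hA : SGA3b.IsMultType R A) (hB : SGA3b.IsMultType R B) [Algebra.FiniteType R B]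
    (p : PrimeSpectrum R) (h : Mono (Spec.map (CommRingCat.ofHom (idT f p.asIdeal.ResidueField).toRingHom))) :
    Function.Surjective (idT f p.asIdeal.ResidueField) := by
  obtain ⟨ι, _, P, hcov⟩ := exists_pieces f hA hB
  obtain ⟨i, q, hq⟩ := hcov p
  subst hq
  refine ((P i).fibre_iff q _ rfl).1.2 ?_
  haveI : q.asIdeal.LiesOver (q.comap (algebraMap R (P i).T)).asIdeal := ⟨rfl⟩
  let K := (q.comap (algebraMap R (P i).T)).asIdeal.ResidueField
  let L := q.asIdeal.ResidueField
  let a : K →ₐ[R] L := Ideal.ResidueField.mapₐ (q.comap (algebraMap R (P i).T)).asIdeal q.asIdeal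
    (Algebra.ofId R (P i).T) (q.asIdeal.over_def _)
  obtain ⟨eA, -, hA'⟩ := exists_bialgEquiv_stage (P i).eA (IsScalarTower.toAlgHom R (P i).T L)
  obtain ⟨eB, -, hB'⟩ := exists_bialgEquiv_stage (P i).eB (IsScalarTower.toAlgHom R (P i).T L)
  have heq : ∀ w, idT f L (eB.symm w) = eA.symm (MonoidAlgebra.mapDomainAlgHom L L (P i).φ w) := by
    intro w
    induction w using MonoidAlgebra.induction_linear with
    | zero => simp
    | add a b ha hb => simp only [map_add, ha, hb]
    | single n r =>
      rw [show MonoidAlgebra.single n r = r • MonoidAlgebra.single n (1 : L) by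
        rw [MonoidAlgebra.smul_single, smul_eq_mul, mul_one], map_smul, map_smul, map_smul, map_smul, hB',
        idT_chStage, (P i).compat, MonoidAlgebra.mapDomainAlgHom_apply, MonoidAlgebra.mapDomain_single, hA']
  refine surjective_of_mapDomain_epi L (P i).φ fun W _ g₁ g₂ hg => ?_
  let iA : L ⊗[R] A →+* MonoidAlgebra L (P i).M := (eA : L ⊗[R] A →ₐ[L] MonoidAlgebra L (P i).M).toRingHom
  have h1 : (g₁.comp iA).comp (idT f L).toRingHom = (g₂.comp iA).comp (idT f L).toRingHom := by
    refine RingHom.ext fun z => ?_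
    obtain ⟨w, rfl⟩ : ∃ w, eB.symm w = z := ⟨eB z, eB.symm_apply_apply z⟩
    show g₁ (eA (idT f L (eB.symm w))) = g₂ (eA (idT f L (eB.symm w)))
    rw [heq, eA.apply_symm_apply]
    exact RingHom.congr_fun hg w
  have h2 : ((g₁.comp iA).comp (chStage a A).toRingHom).comp (idT f K).toRingHom =
      ((g₂.comp iA).comp (chStage a A).toRingHom).comp (idT f K).toRingHom := by
    refine RingHom.ext fun z => ?_
    show (g₁.comp iA) (chStage a A (idT f K z)) = (g₂.comp iA) (chStage a A (idT f K z))
    rw [← idT_chStage]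
    exact RingHom.congr_fun h1 _
  have h3 : (g₁.comp iA).comp (chStage a A).toRingHom = (g₂.comp iA).comp (chStage a A).toRingHom := by
    have h4 := (cancel_mono (Spec.map (CommRingCat.ofHom (idT f K).toRingHom))).1
      (show Spec.map (CommRingCat.ofHom ((g₁.comp iA).comp (chStage a A).toRingHom)) ≫ Spec.map (CommRingCat.ofHom (idT f K).toRingHom) =
        Spec.map (CommRingCat.ofHom ((g₂.comp iA).comp (chStage a A).toRingHom)) ≫ Spec.map (CommRingCat.ofHom (idT f K).toRingHom) by
          rw [← Spec.map_comp, ← Spec.map_comp, ← CommRingCat.ofHom_comp, ← CommRingCat.ofHom_comp, h2])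
    exact congrArg CommRingCat.Hom.hom (Spec.map_injective h4)
  have h5 : g₁.comp iA = g₂.comp iA := by
    refine RingHom.ext fun z => ?_
    induction z using TensorProduct.induction_on with
    | zero => simp
    | add u v hu hv => rw [map_add, map_add, hu, hv]
    | tmul l x =>
      rw [show l ⊗ₜ[R] x = idT f L (l ⊗ₜ (1 : B)) * chStage a A ((1 : K) ⊗ₜ x) by
        simp [chStage], map_mul, map_mul]
      exact congrArg₂ (· * ·) (RingHom.congr_fun h1 _) (RingHom.congr_fun h3 _)
  refine RingHom.ext fun y => ?_
  obtain ⟨z, rfl⟩ : ∃ z, eA z = y := ⟨eA.symm y, eA.apply_symm_apply y⟩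
  exact RingHom.congr_fun h5 z

/-- **S5274.** -/
theorem exists_clopen_mono {S : Scheme.{u}} {G H : Over S} [GrpObj G] [GrpObj H] (hG : SGA3x.IsMultTypeFT G)
    (hH : SGA3x.IsMultTypeFT H) (u : G ⟶ H) [IsMonHom u] :
    ∃ U : S.Opens, IsClosed (U : Set S) ∧
      (∀ s : S, s ∈ U ↔ Mono ((Over.pullback (S.fromSpecResidueField s)).map u).left) ∧
      Mono ((Over.pullback U.ι).map u).left := by
  obtain ⟨U, hc, hU, hP⟩ := exists_clopen hG hH u @IsClosedImmersion (MorphismProperty.monomorphisms Scheme.{u})
    fun R A B _ _ _ _ _ f hA hB hBf => by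
      haveI := hBf
      obtain ⟨h1, -, h3, -⟩ := exists_loci f hA hB
      have key : ∀ p : PrimeSpectrum R,
          MorphismProperty.monomorphisms Scheme.{u}
            (Spec.map (CommRingCat.ofHom (idT f p.asIdeal.ResidueField).toRingHom)) ↔
          Function.Surjective (idT f p.asIdeal.ResidueField) := fun p =>
        ⟨fun h => surjective_fibre_of_mono hA hB p ((MorphismProperty.monomorphisms.iff _).1 h), fun h => by
          haveI := IsClosedImmersion.spec_of_surjective
            (CommRingCat.ofHom (idT f p.asIdeal.ResidueField).toRingHom) h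
          exact MorphismProperty.monomorphisms.infer_property _⟩
      refine ⟨by simpa only [key] using h1, fun h => ?_⟩
      exact IsClosedImmersion.spec_of_surjective (CommRingCat.ofHom (f : B →ₐ[R] A).toRingHom)
        (h3 fun p => (key p).1 (h p))
  haveI := hP
  exact ⟨U, hc, fun s => (hU s).trans (MorphismProperty.monomorphisms.iff _), inferInstance⟩

theorem isIso_SpecMap_iff {X Y : CommRingCat.{u}} (g : X ⟶ Y) : IsIso (Spec.map g) ↔ Function.Bijective g.hom := by
  refine ⟨fun h => ?_, fun h => ?_⟩
  · haveI : IsIso g := by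
      haveI : IsIso (Scheme.Spec.map g.op) := h
      haveI : IsIso g.op := isIso_of_reflects_iso g.op Scheme.Spec
      exact (isIso_op_iff g).1 inferInstance
    exact ConcreteCategory.bijective_of_isIso g
  · haveI : IsIso g := (ConcreteCategory.isIso_iff_bijective g).2 h
    infer_instance

/-- **S5275.** -/
theorem exists_clopen_iso {S : Scheme.{u}} {G H : Over S} [GrpObj G] [GrpObj H] (hG : SGA3x.IsMultTypeFT G)
    (hH : SGA3x.IsMultTypeFT H) (u : G ⟶ H) [IsMonHom u] :
    ∃ U : S.Opens, IsClosed (U : Set S) ∧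
      (∀ s : S, s ∈ U ↔ IsIso ((Over.pullback (S.fromSpecResidueField s)).map u).left) ∧
      IsIso ((Over.pullback U.ι).map u).left :=
  exists_clopen hG hH u (MorphismProperty.isomorphisms Scheme.{u}) (MorphismProperty.isomorphisms Scheme.{u})
    fun R A B _ _ _ _ _ f hA hB hBf => by
      haveI := hBf
      obtain ⟨h1, h2, h3, h4⟩ := exists_loci f hA hB
      have key : ∀ p : PrimeSpectrum R,
          MorphismProperty.isomorphisms Scheme.{u}
            (Spec.map (CommRingCat.ofHom (idT f p.asIdeal.ResidueField).toRingHom)) ↔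
          Function.Surjective (idT f p.asIdeal.ResidueField) ∧
            (idT f p.asIdeal.ResidueField).toRingHom.FaithfullyFlat := fun p => by
        rw [MorphismProperty.isomorphisms.iff, isIso_SpecMap_iff]
        exact ⟨fun h => ⟨h.2, RingHom.FaithfullyFlat.of_bijective h⟩, fun h => ⟨h.2.injective, h.1⟩⟩
      refine ⟨by simpa only [key, Set.setOf_and] using h1.inter h2, fun h => ?_⟩
      rw [MorphismProperty.isomorphisms.iff, isIso_SpecMap_iff]
      exact ⟨(h4 fun p => ((key p).1 (h p)).2).injective, h3 fun p => ((key p).1 (h p)).1⟩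

theorem flat_surjective_SpecMap_iff {X Y : Type u} [CommRing X] [CommRing Y] (g : X →+* Y) :
    (@Flat ⊓ @Surjective : MorphismProperty Scheme.{u}) (Spec.map (CommRingCat.ofHom g)) ↔ g.FaithfullyFlat := by
  rw [RingHom.FaithfullyFlat.iff_flat_and_comap_surjective]
  exact and_congr Flat.SpecMap_iff (surjective_iff _)

/-- **S5276.** -/
theorem exists_clopen_ff {S : Scheme.{u}} {G H : Over S} [GrpObj G] [GrpObj H] (hG : SGA3x.IsMultTypeFT G)
    (hH : SGA3x.IsMultTypeFT H) (u : G ⟶ H) [IsMonHom u] :
    ∃ U : S.Opens, IsClosed (U : Set S) ∧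
      (∀ s : S, s ∈ U ↔ (Flat ((Over.pullback (S.fromSpecResidueField s)).map u).left ∧
        Surjective ((Over.pullback (S.fromSpecResidueField s)).map u).left)) ∧
      (Flat ((Over.pullback U.ι).map u).left ∧ Surjective ((Over.pullback U.ι).map u).left) :=
  exists_clopen hG hH u (@Flat ⊓ @Surjective) (@Flat ⊓ @Surjective)
    fun R A B _ _ _ _ _ f hA hB hBf => by
      haveI := hBf
      obtain ⟨-, h2, -, h4⟩ := exists_loci f hA hB
      refine ⟨by simpa only [flat_surjective_SpecMap_iff] using h2, fun h => ?_⟩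
      rw [flat_surjective_SpecMap_iff]
      exact h4 fun p => (flat_surjective_SpecMap_iff _).1 (h p)

end Groth.Agent.MTBridge
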