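import Groth.Agent.MTBridge.Rigid
import Groth.Agent.MultT.FiniteProj
import Mathlib

/-!
# Rigidity of a pair of homomorphisms: points trivial modulo a square-zero ideal commute with a central
homomorphism, and two homomorphisms equal modulo a square-zero ideal are equal
-/

set_option autoImplicit false
set_option linter.style.haveILetI false
set_option linter.unusedSectionVars false
set_option backward.isDefEq.respectTransparency false
set_option maxHeartbeats 1000000
set_option synthInstance.maxHeartbeats 400000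

universe u

open CategoryTheory Limits MonoidalCategory CartesianMonoidalCategory AlgebraicGeometry TensorProduct Opposite
open TopologicalSpace WithConv
open scoped CategoryTheory.Obj MonObj

noncomputable section

namespace Groth.Agent.MTBridge

section Maps

variable (R : Type u) [CommRing R] (A : Type u) [CommRing A] [HopfAlgebra R A]
  (B : Type u) [CommRing B] [Algebra R B]

/-- The two-variable ring. -/
abbrev W2 := B ⊗[R] (A ⊗[R] A)

/-- First variable. -/
def eI1 : B ⊗[R] A →ₐ[R] W2 R A B :=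
  Algebra.TensorProduct.map (AlgHom.id R B) Algebra.TensorProduct.includeLeft

/-- Second variable. -/
def eI2 : B ⊗[R] A →ₐ[R] W2 R A B :=
  Algebra.TensorProduct.map (AlgHom.id R B) Algebra.TensorProduct.includeRight

/-- The product. -/
def eD : B ⊗[R] A →ₐ[R] W2 R A B :=
  Algebra.TensorProduct.map (AlgHom.id R B) (Bialgebra.comulAlgHom R A)

/-- Constants. -/
def inB : B →ₐ[R] B ⊗[R] A := Algebra.TensorProduct.includeLeft

/-- Constants in two variables. -/
def inW : B →ₐ[R] W2 R A B := Algebra.TensorProduct.includeLeft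

variable {R A B}
variable {B' : Type u} [CommRing B'] [Algebra R B'] (g : B →ₐ[R] B')

variable (A) in
/-- Change of base. -/
def bA : B ⊗[R] A →ₐ[R] B' ⊗[R] A := Algebra.TensorProduct.map g (AlgHom.id R A)

variable (A) in
/-- Change of base in two variables. -/
def bW : W2 R A B →ₐ[R] W2 R A B' := Algebra.TensorProduct.map g (AlgHom.id R (A ⊗[R] A))

theorem eI1_natural : (bW A g).comp (eI1 R A B) = (eI1 R A B').comp (bA A g) := by
  ext <;> simp [bW, bA, eI1]

theorem eI2_natural : (bW A g).comp (eI2 R A B) = (eI2 R A B').comp (bA A g) := by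
  ext <;> simp [bW, bA, eI2]

theorem eD_natural : (bW A g).comp (eD R A B) = (eD R A B').comp (bA A g) := by
  ext <;> simp [bW, bA, eD]

theorem bA_inB : (bA A g).comp (inB R A B) = (inB R A B').comp g := by
  ext x; simp [bA, inB]

theorem eI1_inB : (eI1 R A B).comp (inB R A B) = inW R A B := by
  ext x; simp [eI1, inB, inW, Algebra.TensorProduct.one_def]

theorem eI2_inB : (eI2 R A B).comp (inB R A B) = inW R A B := by
  ext x; simp [eI2, inB, inW, Algebra.TensorProduct.one_def]

theorem eD_inB : (eD R A B).comp (inB R A B) = inW R A B := by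
  ext x; simp [eD, inB, inW, Algebra.TensorProduct.one_def]

theorem bA_comp {B'' : Type u} [CommRing B''] [Algebra R B''] (g' : B' →ₐ[R] B'') :
    (bA A g').comp (bA A g) = bA A (g'.comp g) := by
  ext <;> simp [bA]

end Maps

variable {R A : Type u} [CommRing R] [CommRing A] [HopfAlgebra R A]
  {G : Over (Spec (CommRingCat.of R))} [GrpObj G]

theorem spMap_assoc {T T' T'' : Type u} [CommRing T] [Algebra R T] [CommRing T'] [Algebra R T'] [CommRing T'']
    [Algebra R T''] (f : T →ₐ[R] T') (f' : T' →ₐ[R] T'') (x : Pt G T) :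
    spMap f' ≫ spMap f ≫ x = spMap (f'.comp f) ≫ x := by rw [← Category.assoc, spMap_comp]

/-- A point over `B ⊗ A` which is multiplicative in the group variable. -/
def IsChar {B : Type u} [CommRing B] [Algebra R B] (y : Pt G (B ⊗[R] A)) : Prop :=
  spMap (eD R A B) ≫ y = (spMap (eI1 R A B) ≫ y) * (spMap (eI2 R A B) ≫ y)

theorem IsChar.res {B B' : Type u} [CommRing B] [Algebra R B] [CommRing B'] [Algebra R B'] {y : Pt G (B ⊗[R] A)}
    (h : IsChar y) (g : B →ₐ[R] B') : IsChar (spMap (bA A g) ≫ y) := by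
  unfold IsChar
  rw [spMap_assoc, spMap_assoc, spMap_assoc, ← eD_natural, ← eI1_natural, ← eI2_natural, ← spMap_assoc,
    ← spMap_assoc, ← spMap_assoc, h, MonObj.comp_mul]

theorem ker_map_sq_zero {B P : Type u} [CommRing B] [Algebra R B] [CommRing P] [Algebra R P] (g : B →ₐ[R] P)
    (hg : Function.Surjective g) (h : ∀ a b, g a = 0 → g b = 0 → a * b = 0) (X : Type u) [CommRing X] [Algebra R X]
    (a b : B ⊗[R] X) (ha : Algebra.TensorProduct.map g (AlgHom.id R X) a = 0)
    (hb : Algebra.TensorProduct.map g (AlgHom.id R X) b = 0) : a * b = 0 := by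
  have hk := Algebra.TensorProduct.rTensor_ker (R := R) (C := X) g hg
  have ha' : a ∈ (RingHom.ker g).map (Algebra.TensorProduct.includeLeft : B →ₐ[R] B ⊗[R] X) := hk ▸ ha
  have hb' : b ∈ (RingHom.ker g).map (Algebra.TensorProduct.includeLeft : B →ₐ[R] B ⊗[R] X) := hk ▸ hb
  have h0 : RingHom.ker g * RingHom.ker g = ⊥ := by
    rw [eq_bot_iff, Ideal.mul_le]
    exact fun x hx y hy => (Ideal.mem_bot).2 (h x y hx hy)
  have := Ideal.mul_mem_mul ha' hb'
  rwa [← Ideal.map_mul, h0, Ideal.map_bot, Ideal.mem_bot] at this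

/-- Primitive elements in two-variable form. -/
theorem eq_zero_of_prim (hA : SGA3b.IsMultType R A) (S : Type u) [CommRing S] [Algebra R S] (w : S ⊗[R] A)
    (h : eD R A S w = eI1 R A S w + eI2 R A S w) : w = 0 := by
  let L := TensorProduct.AlgebraTensorModule.distribBaseChange R S A A
  have h1 : ∀ v : S ⊗[R] A, L (eI1 R A S v) = v ⊗ₜ[S] 1 := fun v => by
    induction v using TensorProduct.induction_on with
    | zero => simp
    | add p q hp hq => simp only [map_add, hp, hq, TensorProduct.add_tmul]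
    | tmul s a => simp [L, eI1, Algebra.TensorProduct.one_def, TensorProduct.AlgebraTensorModule.distribBaseChange_tmul]
  have h2 : ∀ v : S ⊗[R] A, L (eI2 R A S v) = 1 ⊗ₜ[S] v := fun v => by
    induction v using TensorProduct.induction_on with
    | zero => simp
    | add p q hp hq => simp only [map_add, hp, hq, TensorProduct.tmul_add]
    | tmul s a =>
      simp only [L, eI2, Algebra.TensorProduct.map_tmul, AlgHom.id_apply, Algebra.TensorProduct.includeRight_apply,
        TensorProduct.AlgebraTensorModule.distribBaseChange_tmul, Algebra.TensorProduct.one_def]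
      rw [show s ⊗ₜ[R] (1 : A) = s • ((1 : S) ⊗ₜ[R] (1 : A)) by
          rw [TensorProduct.smul_tmul', smul_eq_mul, mul_one], TensorProduct.smul_tmul, TensorProduct.smul_tmul',
        smul_eq_mul, mul_one]
  have h3 : ∀ v : S ⊗[R] A, L (eD R A S v) = Coalgebra.comul (R := S) v := fun v => by
    induction v using TensorProduct.induction_on with
    | zero => simp
    | add p q hp hq => simp only [map_add, hp, hq]
    | tmul s a =>
      rw [TensorProduct.comul_tmul, CommSemiring.comul_apply]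
      simp only [L, eD, Algebra.TensorProduct.map_tmul, AlgHom.id_apply, Bialgebra.comulAlgHom_apply]
      induction Coalgebra.comul (R := R) a using TensorProduct.induction_on with
      | zero => simp
      | add p q hp hq => simp only [TensorProduct.tmul_add, map_add, hp, hq]
      | tmul p q =>
        rw [TensorProduct.AlgebraTensorModule.distribBaseChange_tmul,
          TensorProduct.AlgebraTensorModule.tensorTensorTensorComm_tmul]
        rw [show s ⊗ₜ[R] p = s • ((1 : S) ⊗ₜ[R] p) by rw [TensorProduct.smul_tmul', smul_eq_mul, mul_one],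
          TensorProduct.smul_tmul, TensorProduct.smul_tmul', smul_eq_mul, mul_one]
  refine primitive_eq_zero (Groth.Agent.MultT.isMultType_baseChange hA S) w ?_
  rw [← h3, h, map_add, h1, h2]

/-- Functoriality of trivial square-zero extensions, over a base ring. -/
def tzMap {B : Type u} [CommRing B] [Algebra R B] {M M' : Type u} [AddCommGroup M] [Module B M] [Module Bᵐᵒᵖ M]
    [IsCentralScalar B M] [Module R M] [IsScalarTower R B M] [AddCommGroup M'] [Module B M'] [Module Bᵐᵒᵖ M']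
    [IsCentralScalar B M'] [Module R M'] [IsScalarTower R B M'] (f : M →ₗ[B] M') :
    TrivSqZeroExt B M →ₐ[R] TrivSqZeroExt B M' :=
  (TrivSqZeroExt.map f).restrictScalars R

@[simp]
theorem fst_tzMap {B : Type u} [CommRing B] [Algebra R B] {M M' : Type u} [AddCommGroup M] [Module B M] [Module Bᵐᵒᵖ M]
    [IsCentralScalar B M] [Module R M] [IsScalarTower R B M] [AddCommGroup M'] [Module B M'] [Module Bᵐᵒᵖ M']
    [IsCentralScalar B M'] [Module R M'] [IsScalarTower R B M'] (f : M →ₗ[B] M') (w : TrivSqZeroExt B M) :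
    (tzMap (R := R) f w).fst = w.fst :=
  TrivSqZeroExt.fst_map f w

@[simp]
theorem snd_tzMap {B : Type u} [CommRing B] [Algebra R B] {M M' : Type u} [AddCommGroup M] [Module B M] [Module Bᵐᵒᵖ M]
    [IsCentralScalar B M] [Module R M] [IsScalarTower R B M] [AddCommGroup M'] [Module B M'] [Module Bᵐᵒᵖ M']
    [IsCentralScalar B M'] [Module R M'] [IsScalarTower R B M'] (f : M →ₗ[B] M') (w : TrivSqZeroExt B M) :
    (tzMap (R := R) f w).snd = f w.snd :=
  TrivSqZeroExt.snd_map f w

theorem exists_quot {S : Type u} [CommRing S] [Algebra R S] (J : Ideal S) :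
    ∃ (T : Type u) (_ : CommRing T) (_ : Algebra R T) (q : S →ₐ[R] T), ∀ w, q w = 0 ↔ w ∈ J :=
  ⟨S ⧸ J, inferInstance, inferInstance, Ideal.Quotient.mkₐ R J, fun _ => Ideal.Quotient.eq_zero_iff_mem⟩

section Kernel

variable {C : Type u} [CommRing C] {c : Spec (CommRingCat.of C) ⟶ G.left} [IsOpenImmersion c]

/-- A finiteness condition on the chart, or nilpotence. -/
def NakHyp {B : Type u} [CommRing B] [Algebra R B] (c : Spec (CommRingCat.of C) ⟶ G.left) (Q : Ideal B) : Prop :=
  IsNilpotent Q ∨ (((∃ G₀ : Finset C, Subring.closure ((G₀ : Set C) ∪ Set.range (Spec.preimage (c ≫ G.hom)).hom) = ⊤) ∨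
    IsNoetherianRing B) ∧ Q ≤ (⊥ : Ideal B).jacobson)

/-- **Points trivial modulo a square-zero ideal commute with a homomorphism central modulo `Q`.** -/
theorem commute_of_kernel (hA : SGA3b.IsMultType R A) [Module.Finite R A] {B : Type u} [CommRing B] [Algebra R B]
    (x : Pt G (B ⊗[R] A)) (hx : IsChar x) (Q : Ideal B) (hQ : NakHyp c Q)
    (hcomm : ∀ (L : Type u) [CommRing L] [Algebra R L] (h : B ⊗[R] A →ₐ[R] L), (∀ b ∈ Q, h (b ⊗ₜ 1) = 0) →
      ∀ p : Pt G L, (spMap h ≫ x) * p = p * (spMap h ≫ x))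
    (θe : C →+* B) (he : IsChart c 1 θe) (N : Ideal B) (hN : ∀ a ∈ N, ∀ b ∈ N, a * b = 0)
    (z : Pt G B) (θz : C →+* B) (hz : IsChart c z θz) (hzN : ∀ a, θz a - θe a ∈ N) :
    x * (spMap (inB R A B) ≫ z) = (spMap (inB R A B) ≫ z) * x := by
  classical
  haveI : Module.Flat R A := Groth.Agent.MultT.flat hA
  haveI : Module.Projective R A := Groth.Agent.MultT.projective hA
  obtain ⟨n, π, co, -, -, hπ⟩ := Module.Finite.exists_comp_eq_id_of_projective R A
  let inl : B →ₐ[R] TrivSqZeroExt B N := TrivSqZeroExt.inlAlgHom R B N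
  let fst : TrivSqZeroExt B N →ₐ[R] B := TrivSqZeroExt.fstHom R B N
  have hfst : Function.Surjective fst := fun b => ⟨inl b, rfl⟩
  have hsq : ∀ a b : TrivSqZeroExt B N, fst a = 0 → fst b = 0 → a * b = 0 := fun a b ha hb => by
    have ha' : a.fst = 0 := ha
    have hb' : b.fst = 0 := hb
    exact TrivSqZeroExt.ext (by rw [TrivSqZeroExt.fst_mul, ha', zero_mul, TrivSqZeroExt.fst_zero])
      (by rw [TrivSqZeroExt.snd_mul, ha', hb', zero_smul, MulOpposite.op_zero, zero_smul, add_zero,
        TrivSqZeroExt.snd_zero])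
  let π₀ : TrivSqZeroExt B N →ₐ[R] B :=
    { toFun := fun w => w.fst + w.snd
      map_one' := by simp
      map_mul' := fun a b => by
        have e1 := hN _ a.snd.2 _ b.snd.2
        simp only [TrivSqZeroExt.fst_mul, TrivSqZeroExt.snd_mul, op_smul_eq_smul, Submodule.coe_add,
          Submodule.coe_smul, smul_eq_mul]
        linear_combination -e1
      map_zero' := by simp
      map_add' := fun a b => by
        simp only [TrivSqZeroExt.fst_add, TrivSqZeroExt.snd_add, Submodule.coe_add]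
        ring
      commutes' := fun r => by
        show algebraMap R B r + ((0 : N) : B) = _
        simp }
  have hγe := RingHom.congr_fun he.comp_gamma
  have hγz := RingHom.congr_fun hz.comp_gamma
  let θt : C →+* TrivSqZeroExt B N :=
    { toFun := fun a => (θe a, ⟨_, hzN a⟩)
      map_one' := TrivSqZeroExt.ext (map_one θe) (Subtype.ext (by
        show θz 1 - θe 1 = 0
        rw [map_one, map_one, sub_self]))
      map_mul' := fun a b => TrivSqZeroExt.ext (map_mul θe a b) (Subtype.ext (by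
        show θz (a * b) - θe (a * b) = θe a * (θz b - θe b) + MulOpposite.op (θe b) • (θz a - θe a)
        rw [op_smul_eq_smul, smul_eq_mul, map_mul, map_mul]
        linear_combination hN _ (hzN a) _ (hzN b)))
      map_zero' := TrivSqZeroExt.ext (map_zero θe) (Subtype.ext (by
        show θz 0 - θe 0 = 0
        rw [map_zero, map_zero, sub_self]))
      map_add' := fun a b => TrivSqZeroExt.ext (map_add θe a b) (Subtype.ext (by
        show θz (a + b) - θe (a + b) = (θz a - θe a) + (θz b - θe b)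
        rw [map_add, map_add]; ring)) }
  obtain ⟨zt, hzt⟩ := exists_chartPoint (c := c) θt (RingHom.ext fun r => TrivSqZeroExt.ext (hγe r)
    (Subtype.ext (show θz _ - θe _ = 0 from by
      rw [← RingHom.comp_apply, ← RingHom.comp_apply, hγz, hγe, sub_self])))
  let X : Pt G ((TrivSqZeroExt B N) ⊗[R] A) := spMap (bA A inl) ≫ x
  let Zp : Pt G ((TrivSqZeroExt B N) ⊗[R] A) := spMap (inB R A (TrivSqZeroExt B N)) ≫ zt
  let cc : Pt G ((TrivSqZeroExt B N) ⊗[R] A) := X * Zp * X⁻¹ * Zp⁻¹
  let θeZ : C →+* (TrivSqZeroExt B N) ⊗[R] A := ((inB R A (TrivSqZeroExt B N)).comp inl).toRingHom.comp θe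
  have heZ : IsChart c (1 : Pt G ((TrivSqZeroExt B N) ⊗[R] A)) θeZ := by
    have := he.res ((inB R A (TrivSqZeroExt B N)).comp inl)
    rwa [MonObj.comp_one] at this
  have hzt1 : spMap fst ≫ zt = 1 := by
    apply Over.OverMorphism.ext
    rw [hzt.res fst, he, show fst.toRingHom.comp θt = θe from RingHom.ext fun a => rfl]
  have hfA : Function.Surjective (bA A fst) := TensorProduct.map_surjective hfst Function.surjective_id
  have hnil : ∀ w, bA A fst w = 0 → IsNilpotent w := fun w hw =>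
    ⟨2, by rw [pow_two]; exact ker_map_sq_zero fst hfst hsq A w w hw hw⟩
  have hZp1 : spMap (bA A fst) ≫ Zp = 1 := by
    simp only [Zp]
    rw [spMap_assoc, bA_inB, ← spMap_assoc, hzt1, MonObj.comp_one]
  have hcc1 : spMap (bA A fst) ≫ cc = 1 := by
    simp only [cc, MonObj.comp_mul, hZp1, GrpObj.comp_inv, inv_one, mul_one, mul_inv_cancel]
  obtain ⟨θc, hθc⟩ := exists_chart_of_congr (c := c) (bA A fst) hfA hnil cc 1 θeZ heZ
    (by rw [hcc1, MonObj.comp_one])
  have hθc1 : ∀ a, bA A fst (θc a - θeZ a) = 0 := by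
    intro a
    have h1 := hθc.res (bA A fst)
    rw [hcc1] at h1
    have h2 := heZ.res (bA A fst)
    rw [MonObj.comp_one] at h2
    rw [map_sub, sub_eq_zero]
    exact RingHom.congr_fun (h1.unique h2) a
  -- coordinates
  let zc : ∀ (S : Type u) [CommRing S] [Algebra R S], Fin n → (S ⊗[R] A →ₗ[R] S) := fun S _ _ i =>
    (TensorProduct.rid R S).toLinearMap ∘ₗ ((LinearMap.proj i).comp co).lTensor S
  have hzc : ∀ (S : Type u) [CommRing S] [Algebra R S] (i : Fin n) (s : S) (a : A),
      zc S i (s ⊗ₜ a) = co a i • s := fun S _ _ i s a => by simp [zc]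
  have hrec : ∀ (S : Type u) [CommRing S] [Algebra R S] (w : S ⊗[R] A),
      ∑ i, zc S i w ⊗ₜ[R] π (Pi.single i 1) = w := by
    intro S _ _ w
    induction w using TensorProduct.induction_on with
    | zero => simp
    | add p q hp hq => simp only [map_add, TensorProduct.add_tmul, Finset.sum_add_distrib, hp, hq]
    | tmul s a =>
      simp only [hzc, TensorProduct.smul_tmul, ← map_smul, ← TensorProduct.tmul_sum, ← map_sum]
      rw [show (∑ i, co a i • (Pi.single i 1 : Fin n → R)) = co a from by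
        ext j; simp [Finset.sum_apply, Pi.single_apply]]
      exact congrArg (fun y => s ⊗ₜ[R] y) (LinearMap.congr_fun hπ a)
  have hzc_nat : ∀ (S S' : Type u) [CommRing S] [Algebra R S] [CommRing S'] [Algebra R S'] (g : S →ₐ[R] S') (i : Fin n)
      (w : S ⊗[R] A), zc S' i (bA A g w) = g (zc S i w) := by
    intro S S' _ _ _ _ g i w
    induction w using TensorProduct.induction_on with
    | zero => simp
    | add p q hp hq => simp only [map_add, hp, hq]
    | tmul s a => simp [hzc, bA]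
  have hzc_mul : ∀ (S : Type u) [CommRing S] [Algebra R S] (i : Fin n) (s : S) (w : S ⊗[R] A),
      zc S i (inB R A S s * w) = s * zc S i w := by
    intro S _ _ i s w
    induction w using TensorProduct.induction_on with
    | zero => simp
    | add p q hp hq => simp only [mul_add, map_add, hp, hq]
    | tmul t a => simp [hzc, inB]
  let δ : Fin n → C → N := fun i a => (zc (TrivSqZeroExt B N) i (θc a - θeZ a)).snd
  have hfst0 : ∀ i a, (zc (TrivSqZeroExt B N) i (θc a - θeZ a)).fst = 0 := fun i a => by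
    have := hzc_nat (TrivSqZeroExt B N) B fst i (θc a - θeZ a)
    rw [hθc1, map_zero] at this
    exact this.symm
  have hδmul : ∀ i a b, δ i (a * b) = θe a • δ i b + θe b • δ i a := by
    intro i a b
    have h0 : (θc a - θeZ a) * (θc b - θeZ b) = 0 := ker_map_sq_zero fst hfst hsq A _ _ (hθc1 a) (hθc1 b)
    have h1 : θc (a * b) - θeZ (a * b) =
        inB R A (TrivSqZeroExt B N) (inl (θe a)) * (θc b - θeZ b) + inB R A (TrivSqZeroExt B N) (inl (θe b)) * (θc a - θeZ a) := by
      have ea : inB R A (TrivSqZeroExt B N) (inl (θe a)) = θeZ a := rfl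
      have eb : inB R A (TrivSqZeroExt B N) (inl (θe b)) = θeZ b := rfl
      rw [ea, eb, map_mul, map_mul]
      linear_combination h0
    simp only [δ, h1, map_add, hzc_mul, TrivSqZeroExt.snd_add, TrivSqZeroExt.snd_mul]
    simp [inl, op_smul_eq_smul]
  have hδadd : ∀ i a b, δ i (a + b) = δ i a + δ i b := fun i a b => by
    simp only [δ, map_add, add_sub_add_comm, TrivSqZeroExt.snd_add]
  have hδγ : ∀ i r, δ i ((Spec.preimage (c ≫ G.hom)).hom r) = 0 := fun i r => by
    simp only [δ]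
    rw [← RingHom.comp_apply, ← RingHom.comp_apply, hθc.comp_gamma, heZ.comp_gamma, sub_self, map_zero,
      TrivSqZeroExt.snd_zero]
  let N₁ : Submodule B N := Submodule.span B (Set.range fun k : Fin n × C => δ k.1 k.2)
  have hδN : ∀ i a, δ i a ∈ N₁ := fun i a => Submodule.subset_span ⟨(i, a), rfl⟩
  have hN₁ : ∀ a ∈ N₁, ∀ b ∈ N₁, ((a : N) : B) * ((b : N) : B) = 0 := fun a _ b _ => hN _ a.2 _ b.2
  -- the smaller extension
  let j : (TrivSqZeroExt B N₁) →ₐ[R] (TrivSqZeroExt B N) := tzMap N₁.subtype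
  have hj : Function.Injective j := fun a b hab =>
    TrivSqZeroExt.ext (by
      have := congrArg TrivSqZeroExt.fst hab
      simpa [j] using this) (N₁.injective_subtype (by
      have := congrArg TrivSqZeroExt.snd hab
      simpa [j] using this))
  let inl₁ : B →ₐ[R] (TrivSqZeroExt B N₁) := TrivSqZeroExt.inlAlgHom R B N₁
  have hjinl : j.comp inl₁ = inl := AlgHom.ext fun b => TrivSqZeroExt.ext (by simp [j, inl, inl₁]) (by simp [j, inl, inl₁])
  let fst₁ : (TrivSqZeroExt B N₁) →ₐ[R] B := TrivSqZeroExt.fstHom R B N₁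
  have hfj : fst.comp j = fst₁ := AlgHom.ext fun b => by simp [j, fst, fst₁]
  have hjA : Function.Injective (bA A j) := Module.Flat.rTensor_preserves_injective_linearMap (M := A) j.toLinearMap hj
  have hjW : Function.Injective (bW A j) := by
    haveI : Module.Flat R (A ⊗[R] A) := inferInstance
    exact Module.Flat.rTensor_preserves_injective_linearMap (M := A ⊗[R] A) j.toLinearMap hj
  have hpre : ∀ a, ∃ w, bA A j w = θc a := by
    intro a
    refine ⟨inB R A (TrivSqZeroExt B N₁) (inl₁ (θe a)) + ∑ i, TrivSqZeroExt.inr (⟨δ i a, hδN i a⟩ : N₁) ⊗ₜ[R] π (Pi.single i 1), ?_⟩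
    rw [map_add, map_sum, show bA A j (inB R A (TrivSqZeroExt B N₁) (inl₁ (θe a))) = θeZ a from by
      rw [← AlgHom.comp_apply, bA_inB, AlgHom.comp_apply, ← AlgHom.comp_apply j inl₁, hjinl]; rfl]
    conv_rhs => rw [← add_sub_cancel (θeZ a) (θc a), ← hrec (TrivSqZeroExt B N) (θc a - θeZ a)]
    congr 1
    refine Finset.sum_congr rfl fun i _ => ?_
    show j _ ⊗ₜ[R] _ = _
    congr 1
    exact TrivSqZeroExt.ext (by simpa [j] using (hfst0 i a).symm) (by simp [j, δ])
  choose θ₁f hθ₁f using hpre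
  let θ₁ : C →+* (TrivSqZeroExt B N₁) ⊗[R] A :=
    { toFun := θ₁f
      map_one' := hjA (by rw [hθ₁f, map_one, map_one])
      map_mul' := fun a b => hjA (by rw [hθ₁f, map_mul, map_mul, hθ₁f, hθ₁f])
      map_zero' := hjA (by rw [hθ₁f, map_zero, map_zero])
      map_add' := fun a b => hjA (by rw [hθ₁f, map_add, map_add, hθ₁f, hθ₁f]) }
  have hjθ : (bA A j).toRingHom.comp θ₁ = θc := RingHom.ext hθ₁f
  obtain ⟨c₁, hc₁⟩ := exists_chartPoint (c := c) θ₁ (RingHom.ext fun r => hjA (by
    show bA A j (θ₁ _) = bA A j (algebraMap R _ r)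
    rw [AlgHom.commutes]
    exact (hθ₁f _).trans (RingHom.congr_fun hθc.comp_gamma r)))
  have hjc : spMap (bA A j) ≫ c₁ = cc := by
    apply Over.OverMorphism.ext
    rw [hc₁.res (bA A j), hθc, hjθ]
  let X₁ : Pt G ((TrivSqZeroExt B N₁) ⊗[R] A) := spMap (bA A inl₁) ≫ x
  have hjX : spMap (bA A j) ≫ X₁ = X := by
    simp only [X₁, X]
    rw [spMap_assoc, bA_comp, hjinl]
  -- the cocycle identity
  let θeW : C →+* W2 R A (TrivSqZeroExt B N₁) := ((inW R A (TrivSqZeroExt B N₁)).comp inl₁).toRingHom.comp θe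
  have heW : IsChart c (1 : Pt G (W2 R A (TrivSqZeroExt B N₁))) θeW := by
    have := he.res ((inW R A (TrivSqZeroExt B N₁)).comp inl₁)
    rwa [MonObj.comp_one] at this
  have hc₁1 : spMap (bA A fst₁) ≫ c₁ = 1 := by
    rw [← hfj, ← bA_comp, ← spMap_assoc, hjc, hcc1]
  have hW1 : ∀ e : (TrivSqZeroExt B N₁) ⊗[R] A →ₐ[R] W2 R A (TrivSqZeroExt B N₁), ∀ e' : B ⊗[R] A →ₐ[R] W2 R A B,
      (bW A fst₁).comp e = e'.comp (bA A fst₁) → spMap (bW A fst₁) ≫ spMap e ≫ c₁ = 1 := fun e e' he' => by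
    rw [spMap_assoc, he', ← spMap_assoc, hc₁1, MonObj.comp_one]
  let r₁ : Pt G (W2 R A (TrivSqZeroExt B N₁)) := (spMap (eI1 R A (TrivSqZeroExt B N₁)) ≫ X₁) * (spMap (eI2 R A (TrivSqZeroExt B N₁)) ≫ c₁) *
    (spMap (eI1 R A (TrivSqZeroExt B N₁)) ≫ X₁)⁻¹ * (spMap (eI1 R A (TrivSqZeroExt B N₁)) ≫ c₁)
  have hr₁1 : spMap (bW A fst₁) ≫ r₁ = 1 := by
    simp only [r₁, MonObj.comp_mul, GrpObj.comp_inv, hW1 _ _ (eI1_natural fst₁), hW1 _ _ (eI2_natural fst₁), mul_one,
      mul_inv_cancel]
  have hfst₁ : Function.Surjective fst₁ := fun b => ⟨inl₁ b, rfl⟩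
  have hsq₁ : ∀ a b : (TrivSqZeroExt B N₁), fst₁ a = 0 → fst₁ b = 0 → a * b = 0 := fun a b ha hb => by
    have ha' : a.fst = 0 := ha
    have hb' : b.fst = 0 := hb
    exact TrivSqZeroExt.ext (by rw [TrivSqZeroExt.fst_mul, ha', zero_mul, TrivSqZeroExt.fst_zero])
      (by rw [TrivSqZeroExt.snd_mul, ha', hb', zero_smul, MulOpposite.op_zero, zero_smul, add_zero,
        TrivSqZeroExt.snd_zero])
  obtain ⟨θR, hθR⟩ := exists_chart_of_congr (c := c) (bW A fst₁)
    (TensorProduct.map_surjective hfst₁ Function.surjective_id)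
    (fun w hw => ⟨2, by rw [pow_two]; exact ker_map_sq_zero fst₁ hfst₁ hsq₁ (A ⊗[R] A) w w hw hw⟩) r₁ 1 θeW heW
    (by rw [hr₁1, MonObj.comp_one])
  have hid : spMap (eD R A (TrivSqZeroExt B N₁)) ≫ c₁ = r₁ := by
    have hL := hc₁.res (eD R A (TrivSqZeroExt B N₁))
    apply Over.OverMorphism.ext
    rw [hL, hθR]
    suffices h : (eD R A (TrivSqZeroExt B N₁)).toRingHom.comp θ₁ = θR by rw [h]
    refine RingHom.ext fun a => hjW ?_
    have h1 := hL.res (bW A j)
    have h2 := hθR.res (bW A j)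
    have hX : IsChar X := hx.res inl
    have e1 : spMap (bW A j) ≫ r₁ = (spMap (eI1 R A (TrivSqZeroExt B N)) ≫ X) * (spMap (eI2 R A (TrivSqZeroExt B N)) ≫ cc) *
        (spMap (eI1 R A (TrivSqZeroExt B N)) ≫ X)⁻¹ * (spMap (eI1 R A (TrivSqZeroExt B N)) ≫ cc) := by
      simp only [r₁, MonObj.comp_mul, GrpObj.comp_inv, spMap_assoc, eI1_natural, eI2_natural]
      simp only [← spMap_assoc, hjc, hjX]
    have e2 : spMap (bW A j) ≫ spMap (eD R A (TrivSqZeroExt B N₁)) ≫ c₁ = spMap (eD R A (TrivSqZeroExt B N)) ≫ cc := by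
      rw [spMap_assoc, eD_natural, ← spMap_assoc, hjc]
    have hZ : ∀ e : (TrivSqZeroExt B N) ⊗[R] A →ₐ[R] W2 R A (TrivSqZeroExt B N), e.comp (inB R A (TrivSqZeroExt B N)) = inW R A (TrivSqZeroExt B N) →
        spMap e ≫ Zp = spMap (inW R A (TrivSqZeroExt B N)) ≫ zt := fun e he' => by
      simp only [Zp]; rw [spMap_assoc, he']
    have e3 : spMap (eD R A (TrivSqZeroExt B N)) ≫ cc = (spMap (eI1 R A (TrivSqZeroExt B N)) ≫ X) * (spMap (eI2 R A (TrivSqZeroExt B N)) ≫ cc) *
        (spMap (eI1 R A (TrivSqZeroExt B N)) ≫ X)⁻¹ * (spMap (eI1 R A (TrivSqZeroExt B N)) ≫ cc) := by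
      simp only [cc, MonObj.comp_mul, GrpObj.comp_inv, hZ _ eD_inB, hZ _ eI1_inB, hZ _ eI2_inB,
        show spMap (eD R A (TrivSqZeroExt B N)) ≫ X = (spMap (eI1 R A (TrivSqZeroExt B N)) ≫ X) * (spMap (eI2 R A (TrivSqZeroExt B N)) ≫ X) from hX]
      group
    have e4 : spMap (bW A j) ≫ r₁ = spMap (bW A j) ≫ spMap (eD R A (TrivSqZeroExt B N₁)) ≫ c₁ := by rw [e1, e2, e3]
    rw [e4] at h2
    exact RingHom.congr_fun (h1.unique h2) a
  -- reduction modulo Q
  let J : Ideal (TrivSqZeroExt B N₁) :=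
    { carrier := {w | w.fst ∈ Q ∧ w.snd ∈ Q • (⊤ : Submodule B N₁)}
      add_mem' := fun {a b} ha hb => ⟨Q.add_mem ha.1 hb.1, Submodule.add_mem _ ha.2 hb.2⟩
      zero_mem' := ⟨Q.zero_mem, Submodule.zero_mem _⟩
      smul_mem' := fun a b hb => ⟨Q.mul_mem_left _ hb.1, by
        show (a * b).snd ∈ _
        rw [TrivSqZeroExt.snd_mul, op_smul_eq_smul]
        exact Submodule.add_mem _ (Submodule.smul_mem _ _ hb.2)
          (Submodule.smul_mem_smul hb.1 Submodule.mem_top)⟩ }
  obtain ⟨Zb, _, _, q, hq⟩ := exists_quot (R := R) J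
  have hkill : ∀ b ∈ Q, (((eI1 R A Zb).comp (bA A (q.comp inl₁)))) (b ⊗ₜ 1) = 0 := by
    intro b hb
    have hb0 : q (inl₁ b) = 0 := (hq _).2 ⟨hb, by
      show (TrivSqZeroExt.inl b : (TrivSqZeroExt B N₁)).snd ∈ _
      rw [TrivSqZeroExt.snd_inl]; exact Submodule.zero_mem _⟩
    simp [bA, eI1]
    rw [show q (inl₁ b) = 0 from hb0, TensorProduct.zero_tmul]
  have hcb : spMap (eD R A Zb) ≫ spMap (bA A q) ≫ c₁ =
      (spMap (eI2 R A Zb) ≫ spMap (bA A q) ≫ c₁) * (spMap (eI1 R A Zb) ≫ spMap (bA A q) ≫ c₁) := by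
    have h1 := congrArg (fun p => spMap (bW A q) ≫ p) hid
    simp only [r₁, X₁, MonObj.comp_mul, GrpObj.comp_inv, spMap_assoc] at h1
    simp only [← AlgHom.comp_assoc, eD_natural, eI1_natural, eI2_natural] at h1
    rw [AlgHom.comp_assoc, bA_comp, hcomm _ _ hkill, mul_inv_cancel_right] at h1
    simp only [spMap_assoc]
    exact h1
  let θb : C →+* Zb ⊗[R] A := (bA A q).toRingHom.comp θ₁
  have hθb : IsChart c (spMap (bA A q) ≫ c₁) θb := hc₁.res _
  let N' : Ideal (W2 R A Zb) := (RingHom.ker (bW A fst₁)).map (bW A q).toRingHom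
  have hN' : ∀ a ∈ N', ∀ b ∈ N', a * b = 0 := by
    intro a ha b hb
    have h0 : RingHom.ker (bW A fst₁) * RingHom.ker (bW A fst₁) = ⊥ := by
      rw [eq_bot_iff, Ideal.mul_le]
      exact fun v hv w hw => Ideal.mem_bot.2 (ker_map_sq_zero fst₁ hfst₁ hsq₁ _ v w hv hw)
    have := Ideal.mul_mem_mul ha hb
    rwa [← Ideal.map_mul, h0, Ideal.map_bot, Ideal.mem_bot] at this
  let θeb : C →+* W2 R A Zb := (bW A q).toRingHom.comp θeW
  have heb : IsChart c (1 : Pt G (W2 R A Zb)) θeb := by
    have := heW.res (bW A q)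
    rwa [MonObj.comp_one] at this
  have hθ₁1 : ∀ a, bA A fst₁ (θ₁ a) = inB R A B (θe a) := fun a => by
    have h1 := hc₁.res (bA A fst₁)
    rw [hc₁1] at h1
    have h2 : IsChart c (1 : Pt G (B ⊗[R] A)) ((inB R A B).toRingHom.comp θe) := by
      have := he.res (inB R A B)
      rwa [MonObj.comp_one] at this
    exact RingHom.congr_fun (h1.unique h2) a
  have hmemN : ∀ (e : Zb ⊗[R] A →ₐ[R] W2 R A Zb) (e₁ : (TrivSqZeroExt B N₁) ⊗[R] A →ₐ[R] W2 R A (TrivSqZeroExt B N₁)) (e₀ : B ⊗[R] A →ₐ[R] W2 R A B),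
      (bW A q).comp e₁ = e.comp (bA A q) → (bW A fst₁).comp e₁ = e₀.comp (bA A fst₁) →
      e₀.comp (inB R A B) = inW R A B → ∀ a, e (θb a) - θeb a ∈ N' := by
    intro e e₁ e₀ h1 h2 h3 a
    have h4 : e₁ (θ₁ a) - θeW a ∈ RingHom.ker (bW A fst₁) := by
      rw [RingHom.mem_ker, map_sub, sub_eq_zero]
      show (bW A fst₁).comp e₁ (θ₁ a) = _
      rw [h2, AlgHom.comp_apply, hθ₁1, ← AlgHom.comp_apply, h3]
      show inW R A B (θe a) = bW A fst₁ (inW R A (TrivSqZeroExt B N₁) (inl₁ (θe a)))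
      simp [inW, bW, fst₁, inl₁]
    have h5 := Ideal.mem_map_of_mem (bW A q).toRingHom h4
    rw [map_sub] at h5
    rw [show e (θb a) = (bW A q).comp e₁ (θ₁ a) by rw [h1]; rfl]
    exact h5
  obtain ⟨ψ, hψ, hψe⟩ := chart_mul N' hN' _ _ θeb _ _ heb (hθb.res (eI2 R A Zb)) (hθb.res (eI1 R A Zb))
    (hmemN _ _ _ (eI2_natural q) (eI2_natural fst₁) eI2_inB) (hmemN _ _ _ (eI1_natural q) (eI1_natural fst₁) eI1_inB)
  have hzero : ∀ a, θb a = inB R A Zb (q (inl₁ (θe a))) := by
    intro a
    have h1 := hθb.res (eD R A Zb)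
    rw [hcb] at h1
    have h2 : eD R A Zb (θb a) = eI2 R A Zb (θb a) + eI1 R A Zb (θb a) - θeb a :=
      (RingHom.congr_fun (h1.unique hψ) a).trans (hψe a)
    have hc : ∀ e : Zb ⊗[R] A →ₐ[R] W2 R A Zb, e.comp (inB R A Zb) = inW R A Zb →
        e (inB R A Zb (q (inl₁ (θe a)))) = θeb a := fun e he' => by
      rw [← AlgHom.comp_apply, he']
      show inW R A Zb (q (inl₁ (θe a))) = bW A q (inW R A (TrivSqZeroExt B N₁) (inl₁ (θe a)))
      simp [inW, bW]
    refine sub_eq_zero.1 (eq_zero_of_prim hA Zb _ ?_)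
    rw [map_sub, map_sub, map_sub, hc _ eD_inB, hc _ eI1_inB, hc _ eI2_inB, h2]
    ring
  have hle : N₁ ≤ (Q • (⊤ : Submodule B N₁)).map N₁.subtype := by
    refine Submodule.span_le.2 ?_
    rintro _ ⟨⟨i, a⟩, rfl⟩
    let w := θ₁ a - inB R A (TrivSqZeroExt B N₁) (inl₁ (θe a))
    have h1 : q (zc (TrivSqZeroExt B N₁) i w) = 0 := by
      rw [← hzc_nat (TrivSqZeroExt B N₁) Zb q i w, map_sub,
        show bA A q (θ₁ a) = θb a from rfl, hzero a, ← AlgHom.comp_apply (bA A q), bA_inB, AlgHom.comp_apply,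
        sub_self, map_zero]
    have h2 := ((hq _).1 h1).2
    have h3 : j (zc (TrivSqZeroExt B N₁) i w) = zc (TrivSqZeroExt B N) i (θc a - θeZ a) := by
      rw [← hzc_nat (TrivSqZeroExt B N₁) (TrivSqZeroExt B N) j i w, map_sub,
        show bA A j (θ₁ a) = θc a from hθ₁f a, ← AlgHom.comp_apply (bA A j), bA_inB, AlgHom.comp_apply,
        ← AlgHom.comp_apply j inl₁, hjinl]
      rfl
    refine ⟨_, h2, ?_⟩
    show N₁.subtype (zc (TrivSqZeroExt B N₁) i w).snd = (zc (TrivSqZeroExt B N) i (θc a - θeZ a)).snd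
    rw [← h3]
    simp [j]
  have hN₁0 : N₁ = ⊥ := by
    have hle' : N₁ ≤ Q • N₁ := by
      refine hle.trans ?_
      rw [Submodule.map_smul'', Submodule.map_subtype_top]
    rcases hQ with ⟨k, hk⟩ | ⟨⟨G₀, hG₀⟩ | hnoeth, hjac⟩
    · have hm : ∀ m : ℕ, N₁ ≤ Q ^ m • N₁ := by
        intro m
        induction m with
        | zero => rw [pow_zero, Ideal.one_eq_top, Submodule.top_smul]
        | succ m ih =>
          rw [pow_succ, Submodule.mul_smul]
          exact ih.trans (Submodule.smul_mono le_rfl hle')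
      have := hm k
      rwa [hk, Ideal.zero_eq_bot, Submodule.bot_smul, le_bot_iff] at this
    · refine Submodule.eq_bot_of_le_smul_of_le_jacobson_bot Q N₁ ?_ hle' hjac
      refine ⟨(Finset.univ ×ˢ G₀).image fun k => δ k.1 k.2, le_antisymm (Submodule.span_le.2 ?_) (Submodule.span_le.2 ?_)⟩
      · intro v hv
        obtain ⟨k, -, rfl⟩ := Finset.mem_image.1 (Finset.mem_coe.1 hv)
        exact hδN _ _
      · rintro _ ⟨⟨i, a⟩, rfl⟩
        let M₀ := Submodule.span B (((Finset.univ ×ˢ G₀).image fun k => δ k.1 k.2 : Finset N) : Set N)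
        have hmem : a ∈ Subring.closure ((G₀ : Set C) ∪ Set.range (Spec.preimage (c ≫ G.hom)).hom) := by
          rw [hG₀]; exact Subring.mem_top a
        show δ i a ∈ M₀
        have h0 : δ i 0 = 0 := by
          have := hδadd i 0 0
          rwa [add_zero, left_eq_add] at this
        induction hmem using Subring.closure_induction with
        | mem v hv =>
          rcases hv with hv | ⟨r, rfl⟩
          · exact Submodule.subset_span (Finset.mem_coe.2 (Finset.mem_image.2
              ⟨(i, v), Finset.mem_product.2 ⟨Finset.mem_univ _, hv⟩, rfl⟩))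
          · rw [hδγ]; exact M₀.zero_mem
        | zero => rw [h0]; exact M₀.zero_mem
        | one =>
          have := hδγ i 1
          rw [map_one] at this
          rw [this]; exact M₀.zero_mem
        | add v w _ _ hv hw => rw [hδadd]; exact add_mem hv hw
        | neg v _ hv =>
          have := hδadd i v (-v)
          rw [add_neg_cancel, h0, eq_comm, add_eq_zero_iff_neg_eq] at this
          rw [← this]; exact neg_mem hv
        | mul v w _ _ hv hw => rw [hδmul]; exact add_mem (M₀.smul_mem _ hw) (M₀.smul_mem _ hv)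
    · haveI := hnoeth
      haveI : IsNoetherian B N := isNoetherian_submodule' (N : Submodule B B)
      exact Submodule.eq_bot_of_le_smul_of_le_jacobson_bot Q N₁ (IsNoetherian.noetherian N₁) hle' hjac
  have hcc : cc = 1 := by
    apply Over.OverMorphism.ext
    rw [hθc, heZ]
    suffices h : θc = θeZ by rw [h]
    refine RingHom.ext fun a => sub_eq_zero.1 ?_
    rw [← hrec (TrivSqZeroExt B N) (θc a - θeZ a)]
    refine Finset.sum_eq_zero fun i _ => ?_
    rw [show zc (TrivSqZeroExt B N) i (θc a - θeZ a) = 0 from TrivSqZeroExt.ext (hfst0 i a) (by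
      have := hδN i a
      rw [hN₁0, Submodule.mem_bot] at this
      rw [TrivSqZeroExt.snd_zero]
      exact this), TensorProduct.zero_tmul]
  have hcom : X * Zp = Zp * X := by
    simp only [cc, mul_inv_eq_one, mul_inv_eq_iff_eq_mul, one_mul] at hcc
    exact hcc
  have h := congrArg (fun p => spMap (bA A π₀) ≫ p) hcom
  simp only [MonObj.comp_mul, X, Zp, spMap_assoc, bA_comp, bA_inB] at h
  have hπi : π₀.comp inl = AlgHom.id R B := AlgHom.ext fun b => by
    show (TrivSqZeroExt.inl b : (TrivSqZeroExt B N)).fst + (((TrivSqZeroExt.inl b : (TrivSqZeroExt B N)).snd : N) : B) = b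
    simp
  rw [hπi] at h
  have hzπ : spMap π₀ ≫ zt = z := by
    apply Over.OverMorphism.ext
    rw [hzt.res π₀, hz, show π₀.toRingHom.comp θt = θz from RingHom.ext fun a => by
      show θe a + (θz a - θe a) = θz a
      ring]
  have hid' : bA A (AlgHom.id R B) = AlgHom.id R (B ⊗[R] A) := Algebra.TensorProduct.map_id
  rwa [hid', spMap_id, Category.id_comp, ← spMap_assoc, hzπ] at h

/-- **Two homomorphisms equal modulo a square-zero ideal are equal** (central modulo `Q`). -/
theorem eq_of_sq_zero (hA : SGA3b.IsMultType R A) [Module.Finite R A] {B : Type u} [CommRing B] [Algebra R B]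
    (x y : Pt G (B ⊗[R] A)) (hx : IsChar x) (hy : IsChar y) (Q : Ideal B) (hQ : NakHyp c Q)
    (hcomm : ∀ (L : Type u) [CommRing L] [Algebra R L] (h : B ⊗[R] A →ₐ[R] L), (∀ b ∈ Q, h (b ⊗ₜ 1) = 0) →
      ∀ p : Pt G L, (spMap h ≫ x) * p = p * (spMap h ≫ x))
    (θe : C →+* B) (he : IsChart c 1 θe) (I : Ideal B) (hI : I * I = ⊥)
    (h : spMap (bA A (Ideal.Quotient.mkₐ R I)) ≫ x = spMap (bA A (Ideal.Quotient.mkₐ R I)) ≫ y) : x = y := by
  classical
  haveI : Module.Flat R A := Groth.Agent.MultT.flat hA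
  let m := Ideal.Quotient.mkₐ R I
  have hm : Function.Surjective m := Ideal.Quotient.mk_surjective
  have hmsq : ∀ a b, m a = 0 → m b = 0 → a * b = 0 := fun a b ha hb => by
    rw [← Ideal.mem_bot, ← hI]
    exact Ideal.mul_mem_mul (Ideal.Quotient.eq_zero_iff_mem.1 ha) (Ideal.Quotient.eq_zero_iff_mem.1 hb)
  let B' := B ⊗[R] A
  let w : Pt G B' := y * x⁻¹
  have hw1 : spMap (bA A m) ≫ w = 1 := by
    simp only [w, MonObj.comp_mul, GrpObj.comp_inv]
    rw [← h, mul_inv_cancel]
  let θe' : C →+* B' := (inB R A B).toRingHom.comp θe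
  have he' : IsChart c (1 : Pt G B') θe' := by
    have := he.res (inB R A B)
    rwa [MonObj.comp_one] at this
  obtain ⟨θw, hθw⟩ := exists_chart_of_congr (c := c) (bA A m) (TensorProduct.map_surjective hm Function.surjective_id)
    (fun t ht => ⟨2, by rw [pow_two]; exact ker_map_sq_zero m hm hmsq A t t ht ht⟩) w 1 θe' he'
    (by rw [hw1, MonObj.comp_one])
  have hwN : ∀ a, θw a - θe' a ∈ RingHom.ker (bA A m) := by
    intro a
    rw [RingHom.mem_ker, map_sub, sub_eq_zero]
    have h1 := hθw.res (bA A m)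
    rw [hw1] at h1
    have h2 := he'.res (bA A m)
    rw [MonObj.comp_one] at h2
    exact RingHom.congr_fun (h1.unique h2) a
  have hQ' : NakHyp c (Q.map (inB R A B)) := by
    rcases hQ with ⟨k, hk⟩ | ⟨hG₀, hjac⟩
    · refine Or.inl ⟨k, ?_⟩
      rw [← Ideal.map_pow, hk, Ideal.zero_eq_bot, Ideal.map_bot, Ideal.zero_eq_bot]
    · letI : Algebra B B' := Algebra.TensorProduct.leftAlgebra
      haveI : Module.Finite B B' := Module.Finite.base_change R B A
      refine Or.inr ⟨hG₀.imp id fun h => by haveI := h; exact IsNoetherianRing.of_finite B B', ?_⟩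
      refine le_sInf fun M ⟨_, hM⟩ => ?_
      haveI := hM
      have hmax : (M.comap (algebraMap B B')).IsMaximal := Ideal.isMaximal_comap_of_isIntegral_of_isMaximal M
      rw [Ideal.map_le_iff_le_comap]
      exact hjac.trans (sInf_le ⟨bot_le, hmax⟩)
  have key := commute_of_kernel (c := c) hA (spMap (bA A (inB R A B)) ≫ x) (hx.res _) (Q.map (inB R A B)) hQ'
    (fun L _ _ f hf p => by
      rw [spMap_assoc]
      refine hcomm L (f.comp (bA A (inB R A B))) (fun b hb => ?_) p
      rw [AlgHom.comp_apply, show bA A (inB R A B) (b ⊗ₜ[R] (1 : A)) = inB R A B b ⊗ₜ[R] (1 : A) by simp [bA]]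
      exact hf _ (Ideal.mem_map_of_mem _ hb))
    θe' he' (RingHom.ker (bA A m)) (fun a ha b hb => ker_map_sq_zero m hm hmsq A a b ha hb) w θw hθw hwN
  let em : B' ⊗[R] A →ₐ[R] W2 R A B := Algebra.TensorProduct.productMap (eI2 R A B)
    ((Algebra.TensorProduct.includeRight : A ⊗[R] A →ₐ[R] W2 R A B).comp Algebra.TensorProduct.includeLeft)
  have hem1 : em.comp (bA A (inB R A B)) = eI1 R A B := by
    ext <;> simp [em, bA, inB, eI1, eI2, ← Algebra.TensorProduct.one_def] <;> first | rfl | simp [Algebra.TensorProduct.one_def]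
  have hem2 : em.comp (inB R A (B ⊗[R] A)) = eI2 R A B := AlgHom.ext fun t => by
    show em (t ⊗ₜ 1) = _
    simp [em, ← Algebra.TensorProduct.one_def]
    rfl
  have h1 := congrArg (fun p => spMap em ≫ p) key
  simp only [MonObj.comp_mul, spMap_assoc, hem1, hem2] at h1
  have hΔ : spMap (eD R A B) ≫ w = (spMap (eI1 R A B) ≫ w) * (spMap (eI2 R A B) ≫ w) := by
    have hx' : spMap (eD R A B) ≫ x = (spMap (eI1 R A B) ≫ x) * (spMap (eI2 R A B) ≫ x) := hx
    have hy' : spMap (eD R A B) ≫ y = (spMap (eI1 R A B) ≫ y) * (spMap (eI2 R A B) ≫ y) := hy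
    simp only [w, MonObj.comp_mul, GrpObj.comp_inv, hx', hy'] at h1 ⊢
    generalize spMap (eI1 R A B) ≫ x = x1 at h1 ⊢
    generalize spMap (eI2 R A B) ≫ x = x2 at h1 ⊢
    generalize spMap (eI1 R A B) ≫ y = y1 at h1 ⊢
    generalize spMap (eI2 R A B) ≫ y = y2 at h1 ⊢
    calc y1 * y2 * (x1 * x2)⁻¹ = y1 * x1⁻¹ * (x1 * (y2 * x2⁻¹) * x1⁻¹) := by group
      _ = y1 * x1⁻¹ * (y2 * x2⁻¹) := by rw [h1, mul_inv_cancel_right]
  let N' : Ideal (W2 R A B) := RingHom.ker (bW A m)
  have heW : IsChart c (1 : Pt G (W2 R A B)) ((inW R A B).toRingHom.comp θe) := by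
    have := he.res (inW R A B)
    rwa [MonObj.comp_one] at this
  have hmem : ∀ (e : B' →ₐ[R] W2 R A B) (e₀ : (B ⧸ I) ⊗[R] A →ₐ[R] W2 R A (B ⧸ I)),
      (bW A m).comp e = e₀.comp (bA A m) → e.comp (inB R A B) = inW R A B →
      ∀ a, e (θw a) - inW R A B (θe a) ∈ N' := by
    intro e e₀ h2 h3 a
    rw [← h3, AlgHom.comp_apply, ← map_sub, RingHom.mem_ker, ← AlgHom.comp_apply, h2, AlgHom.comp_apply]
    have := hwN a
    rw [RingHom.mem_ker] at this
    exact (congrArg e₀ this).trans (map_zero e₀)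
  obtain ⟨ψ, hψ, hψe⟩ := chart_mul N' (fun a ha b hb => ker_map_sq_zero m hm hmsq _ a b ha hb) _ _ _ _ _ heW
    (hθw.res (eI1 R A B)) (hθw.res (eI2 R A B))
    (hmem _ _ (eI1_natural m) eI1_inB) (hmem _ _ (eI2_natural m) eI2_inB)
  have hzero : θw = θe' := RingHom.ext fun a => by
    refine sub_eq_zero.1 (eq_zero_of_prim hA B _ ?_)
    have h2 := hθw.res (eD R A B)
    rw [hΔ] at h2
    have h3 : eD R A B (θw a) = eI1 R A B (θw a) + eI2 R A B (θw a) - inW R A B (θe a) :=
      (RingHom.congr_fun (h2.unique hψ) a).trans (hψe a)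
    have hc : ∀ e : B' →ₐ[R] W2 R A B, e.comp (inB R A B) = inW R A B → e (θe' a) = inW R A B (θe a) := fun e he'' => by
      rw [← he'']; rfl
    rw [map_sub, map_sub, map_sub, hc _ eD_inB, hc _ eI1_inB, hc _ eI2_inB, h3]
    ring
  have hw : w = 1 := by
    apply Over.OverMorphism.ext
    rw [hθw, hzero, he']
  exact (mul_inv_eq_one.1 hw).symm

end Kernel

end Groth.Agent.MTBridge
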