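import Groth.Agent.MTBridge.NilConj
import Mathlib

/-!
# Commutativity of groups of multiplicative type and rigidity of their endomorphisms
-/

set_option autoImplicit false
set_option linter.style.haveILetI false
set_option backward.isDefEq.respectTransparency false
set_option maxHeartbeats 1000000
set_option synthInstance.maxHeartbeats 400000

universe u

open CategoryTheory MonoidalCategory CartesianMonoidalCategory AlgebraicGeometry
open scoped MonObj

noncomputable section

namespace Groth.Agent.MTBridge

variable {R : Type u} [CommRing R]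

/-- Points of a group of multiplicative type commute. -/
theorem comm_points (H : Over (Spec (CommRingCat.of R))) [GrpObj H]
    (hH : TwC.Locally (Spec (CommRingCat.of R)) TwC.Topology.fpqc (fun S' f => ∃ (M : Type) (_ : AddCommGroup M), Nonempty (Grp.mk (Red.bc f H) ≅ Grp.mk (Red.DS S' M))))
    {X : Over (Spec (CommRingCat.of R))} (x y : X ⟶ H) : x * y = y * x := by
  obtain ⟨A, _, _, hA, ⟨e⟩⟩ := exists_hopf_of_locally H hH
  haveI := Groth.Agent.MultT.isCocomm hA
  haveI : IsCommMonObj (specGrp R A).X :=
    inferInstanceAs (IsCommMonObj ((Spec (CommRingCat.of A)).asOver (Spec (CommRingCat.of R))))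
  haveI : IsIso e.hom.hom.hom := ((Grp.forget _).mapIso e).isIso_hom
  refine (cancel_mono e.hom.hom.hom).1 ?_
  rw [MonObj.mul_comp, MonObj.mul_comp]
  exact _root_.mul_comm _ _

/-- An endomorphism congruent to the identity modulo a nilpotent ideal is the identity. -/
theorem endo_eq_id (J : Ideal R) (hJ : IsNilpotent J) (H : Over (Spec (CommRingCat.of R))) [GrpObj H]
    (hH : TwC.Locally (Spec (CommRingCat.of R)) TwC.Topology.fpqc (fun S' f => ∃ (M : Type) (_ : AddCommGroup M), Nonempty (Grp.mk (Red.bc f H) ≅ Grp.mk (Red.DS S' M))))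
    (k : H ⟶ H) [IsMonHom k]
    (h0 : ∀ (X : Over (Spec (CommRingCat.of R))) (_ : X ⟶ Over.mk (qJ J)) (h : X ⟶ H), h ≫ k = h) : k = 𝟙 H := by
  let d : H ⟶ H := k * (𝟙 H)⁻¹
  haveI : IsMonHom d :=
    { one_hom := by
        simp only [d, MonObj.comp_mul, GrpObj.comp_inv, IsMonHom.one_hom, Category.comp_id, mul_inv_cancel]
        rw [Hom.one_def, toUnit_unique (toUnit (𝟙_ _)) (𝟙 _), Category.id_comp]
      mul_hom := by
        simp only [d, MonObj.comp_mul, GrpObj.comp_inv, IsMonHom.mul_hom, Category.comp_id]
        rw [← lift_fst_comp_snd_comp, ← Hom.mul_def, ← lift_fst_comp_snd_comp, ← Hom.mul_def]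
        simp only [MonObj.comp_mul, GrpObj.comp_inv, Category.comp_id]
        rw [show μ[H] = fst H H * snd H H by rw [Hom.mul_def, lift_fst_snd, Category.id_comp], _root_.mul_inv_rev]
        simp only [_root_.mul_assoc]
        rw [← _root_.mul_assoc (fst H H)⁻¹, comm_points H hH (fst H H)⁻¹ (snd H H ≫ k), _root_.mul_assoc,
          comm_points H hH (fst H H)⁻¹ (snd H H)⁻¹] }
  have h1 := hom_eq_one J hJ hH d fun Y p h => by
    simp only [d, MonObj.comp_mul, GrpObj.comp_inv, h0 Y p h, Category.comp_id, mul_inv_cancel]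
  exact mul_inv_eq_one.1 h1

end Groth.Agent.MTBridge
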