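import Groth.Agent.MTBridge.TwoHom
import Groth.Agent.MTBridge.CentralFibres
import Mathlib

/-!
# Factorization of characters through subgroup schemes
-/

set_option autoImplicit false
set_option linter.style.haveILetI false
set_option linter.unusedSectionVars false
set_option backward.isDefEq.respectTransparency false
set_option maxHeartbeats 1000000
set_option synthInstance.maxHeartbeats 400000

universe u

open CategoryTheory Limits MonoidalCategory CartesianMonoidalCategory AlgebraicGeometry TensorProduct Opposite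
open TopologicalSpace WithConv
open scoped CategoryTheory.Obj MonObj

noncomputable section

namespace Groth.Agent.MTBridge

variable {R A : Type u} [CommRing R] [CommRing A] [HopfAlgebra R A]
  {G X : Over (Spec (CommRingCat.of R))}

/-- The points of `G` which come from `X`. -/
def InIm (i : X ⟶ G) {T : Type u} [CommRing T] [Algebra R T] (x : Pt G T) : Prop := ∃ z : Pt X T, x = z ≫ i

theorem InIm.res {i : X ⟶ G} {T T' : Type u} [CommRing T] [Algebra R T] [CommRing T'] [Algebra R T'] {x : Pt G T}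
    (h : InIm i x) (g : T →ₐ[R] T') : InIm i (spMap g ≫ x) := by
  obtain ⟨z, rfl⟩ := h
  exact ⟨spMap g ≫ z, (Category.assoc _ _ _).symm⟩

section Locus

variable (i : X ⟶ G) {S : Type u} [CommRing S] [Algebra R S] (x : Pt G S)

/-- The set of primes at which the point comes from `X`. -/
def imLocus : Set (PrimeSpectrum S) := Set.range (pullback.snd i.left x.left)

theorem inIm_iff_factor {T : Type u} [CommRing T] [Algebra R T] (h : S →ₐ[R] T) :
    InIm i (spMap h ≫ x) ↔ ∃ l, l ≫ pullback.snd i.left x.left = Spec.map (CommRingCat.ofHom h.toRingHom) := by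
  constructor
  · rintro ⟨z, hz⟩
    have h1 := congrArg (fun m => m.left) hz
    simp only [Over.comp_left, spMap_left] at h1
    exact ⟨pullback.lift z.left (Spec.map (CommRingCat.ofHom h.toRingHom)) h1.symm, pullback.lift_snd _ _ _⟩
  · rintro ⟨l, hl⟩
    refine ⟨Over.homMk (l ≫ pullback.fst i.left x.left) ?_, Over.OverMorphism.ext ?_⟩
    · rw [← Over.w i, Category.assoc, pullback.condition_assoc, ← Category.assoc l, hl, Over.w x]
      exact Over.w (spMap h)
    · show Spec.map _ ≫ x.left = (l ≫ pullback.fst i.left x.left) ≫ i.left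
      rw [Category.assoc, pullback.condition, ← Category.assoc, hl]

theorem mem_imLocus_of_inIm {L : Type u} [Field L] [Algebra R L] (h : S →ₐ[R] L) (hh : InIm i (spMap h ≫ x))
    (P : PrimeSpectrum S) (hP : RingHom.ker h = P.asIdeal) : P ∈ imLocus i x := by
  obtain ⟨l, hl⟩ := (inIm_iff_factor i x h).1 hh
  refine ⟨l (⊥ : PrimeSpectrum L), ?_⟩
  rw [← Scheme.Hom.comp_apply, hl]
  exact PrimeSpectrum.ext hP

theorem inIm_residueField [IsImmersion i.left] (P : PrimeSpectrum S) (hP : P ∈ imLocus i x) :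
    InIm i (spMap (IsScalarTower.toAlgHom R S P.asIdeal.ResidueField) ≫ x) := by
  rw [inIm_iff_factor]
  haveI : IsImmersion (pullback.snd i.left x.left) := MorphismProperty.pullback_snd _ _ inferInstance
  obtain ⟨y, hy⟩ := hP
  let f : pullback i.left x.left ⟶ Spec (CommRingCat.of S) := pullback.snd i.left x.left
  haveI : IsIso (f.residueFieldMap y) := by
    rw [ConcreteCategory.isIso_iff_bijective]
    refine ⟨RingHom.injective (f.residueFieldMap y).hom, fun z => ?_⟩
    obtain ⟨z, rfl⟩ := IsLocalRing.residue_surjective z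
    obtain ⟨w, rfl⟩ := f.stalkMap_surjective y z
    exact ⟨IsLocalRing.residue _ w, rfl⟩
  let P' : ↥(Spec (CommRingCat.of S)) := P
  have hres : Spec.map (CommRingCat.ofHom (IsScalarTower.toAlgHom R S P.asIdeal.ResidueField).toRingHom) =
      Spec.map ((Scheme.Spec.residueFieldIso (CommRingCat.of S) P').hom) ≫
        (Spec (CommRingCat.of S)).fromSpecResidueField P' := by
    rw [← Scheme.Spec.map_residueFieldIso_inv_eq_fromSpecResidueField, ← Spec.map_comp_assoc, Iso.inv_hom_id,
      Spec.map_id, Category.id_comp]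
    rfl
  rw [hres]
  have key : ∀ Q : ↥(Spec (CommRingCat.of S)), f y = Q → ∃ l, l ≫ f = (Spec (CommRingCat.of S)).fromSpecResidueField Q := by
    rintro Q rfl
    refine ⟨inv (Spec.map (f.residueFieldMap y)) ≫ (pullback i.left x.left).fromSpecResidueField y, ?_⟩
    rw [Category.assoc, ← Scheme.Hom.SpecMap_residueFieldMap_fromSpecResidueField, IsIso.inv_hom_id_assoc]
  obtain ⟨l, hl⟩ := key P' hy
  exact ⟨Spec.map ((Scheme.Spec.residueFieldIso (CommRingCat.of S) P').hom) ≫ l, by rw [Category.assoc, hl]⟩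

theorem exists_isOpen_imLocus [IsImmersion i.left] :
    ∃ U, IsOpen U ∧ imLocus i x = U ∩ closure (imLocus i x) := by
  haveI : IsImmersion (pullback.snd i.left x.left) := MorphismProperty.pullback_snd _ _ inferInstance
  have h : IsLocallyClosed (imLocus i x) := (pullback.snd i.left x.left).isLocallyClosed_range
  exact ⟨coborder (imLocus i x), h.isOpen_coborder, (coborder_inter_closure).symm⟩

/-- A closed locus gives an ideal. -/
theorem exists_factor_ideal [IsImmersion i.left] (hcl : IsClosed (imLocus i x)) :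
    ∃ J : Ideal S, ((LocallyOfFinitePresentation i.left ∨ IsNoetherianRing S) → J.FG) ∧
      ∀ (T : Type u) [CommRing T] [Algebra R T] (h : S →ₐ[R] T), InIm i (spMap h ≫ x) ↔ J ≤ RingHom.ker h := by
  let f := pullback.snd i.left x.left
  haveI : IsImmersion f := MorphismProperty.pullback_snd _ _ inferInstance
  haveI hcli : IsClosedImmersion f := IsClosedImmersion.of_isPreimmersion f hcl
  obtain ⟨J, e, he⟩ := IsClosedImmersion.Spec_iff.1 hcli
  let mk := Ideal.Quotient.mk J
  refine ⟨J, fun hfin => ?_, fun T _ _ h => ?_⟩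
  · rcases hfin with hfin | hfin
    · haveI : LocallyOfFinitePresentation f := MorphismProperty.pullback_snd _ _ hfin
      haveI : LocallyOfFinitePresentation (Spec.map (CommRingCat.ofHom mk)) := by
        rw [show Spec.map (CommRingCat.ofHom mk) = e.inv ≫ f by rw [show f = _ from he, e.inv_hom_id_assoc]]
        infer_instance
      have h1 : mk.FinitePresentation :=
        (HasRingHomProperty.Spec_iff (P := @LocallyOfFinitePresentation)).1 ‹_›
      haveI : Algebra.FinitePresentation S (S ⧸ J) := h1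
      have := Algebra.FinitePresentation.ker_fG_of_surjective (Ideal.Quotient.mkₐ S J) Ideal.Quotient.mk_surjective
      simpa using this
    · haveI := hfin
      exact IsNoetherian.noetherian J
  · rw [inIm_iff_factor]
    constructor
    · rintro ⟨l, hl⟩
      obtain ⟨φ, hφ⟩ := Spec.map_surjective (l ≫ e.hom)
      have h2 : h.toRingHom = φ.hom.comp mk := by
        refine congrArg CommRingCat.Hom.hom (Spec.map_injective (a₁ := CommRingCat.ofHom h.toRingHom)
          (a₂ := CommRingCat.ofHom mk ≫ φ) ?_)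
        rw [Spec.map_comp, hφ, Category.assoc, ← show f = _ from he, hl]
      intro s hs
      rw [RingHom.mem_ker]
      show h.toRingHom s = 0
      rw [h2, RingHom.comp_apply, Ideal.Quotient.eq_zero_iff_mem.2 hs, map_zero]
    · intro hle
      refine ⟨Spec.map (CommRingCat.ofHom (Ideal.Quotient.lift J h.toRingHom fun s hs => hle hs)) ≫ e.inv, ?_⟩
      rw [Category.assoc, show pullback.snd i.left x.left = _ from he, e.inv_hom_id_assoc, ← Spec.map_comp,
        ← CommRingCat.ofHom_comp]
      rfl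

/-- A locus containing all closed points is closed. -/
theorem isClosed_imLocus_of_maximal [IsImmersion i.left]
    (h : ∀ P : PrimeSpectrum S, P.asIdeal.IsMaximal → P ∈ imLocus i x) : IsClosed (imLocus i x) := by
  obtain ⟨U, hU, hUeq⟩ := exists_isOpen_imLocus i x
  have hU1 : U = Set.univ := by
    refine Set.eq_univ_of_forall fun P => ?_
    obtain ⟨M, hM, hle⟩ := Ideal.exists_le_maximal P.asIdeal P.isPrime.ne_top
    have hMU : (⟨M, hM.isPrime⟩ : PrimeSpectrum S) ∈ U := (hUeq.le (h _ hM)).1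
    exact ((PrimeSpectrum.le_iff_specializes P ⟨M, hM.isPrime⟩).1 hle).mem_open hU hMU
  rw [hUeq, hU1, Set.univ_inter]
  exact isClosed_closure

end Locus

/-- Torsion is schematically dense. -/
theorem eq_bot_of_le_torsion (hA : SGA3b.IsMultType R A) [Algebra.FiniteType R A] {B : Type u} [CommRing B]
    [Algebra R B] (z : B ⊗[R] A) (a : B ⊗[R] A)
    (h : ∀ n : ℕ, 0 < n → ∃ k : ℕ, a ^ k * z ∈ (SGA3b.torsionIdeal R A n).map
      (Algebra.TensorProduct.includeRight : A →ₐ[R] B ⊗[R] A)) : ∃ k : ℕ, a ^ k * z = 0 := by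
  haveI : Algebra.FiniteType B (B ⊗[R] A) := Algebra.FiniteType.baseChange B
  refine Groth.Agent.MultT.dense_torsion (R := B) (A := B ⊗[R] A)
    (Groth.Agent.MultT.isMultType_baseChange hA B) a z fun n hn => ?_
  obtain ⟨k, hk⟩ := h n hn
  refine ⟨k, (Ideal.map_le_iff_le_comap.2 ?_ : _ ≤ SGA3b.torsionIdeal B (B ⊗[R] A) n) hk⟩
  refine Ideal.map_le_iff_le_comap.2 fun v hv => ?_
  rw [Ideal.mem_comap, Ideal.mem_comap]
  show (1 : B) ⊗ₜ[R] SGA3b.powConv R A n v ∈ _
  rw [← Groth.Agent.VerschComp.powConv_one_tmul]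
  refine Ideal.mem_map_of_mem _ (RingHom.mem_ker.2 ?_)
  have : Coalgebra.counit (R := R) v = 0 := hv
  simp [this]

/-- The torsion hypothesis: the restriction to every torsion subgroup comes from `X`. -/
def TorIm (i : X ⟶ G) {B : Type u} [CommRing B] [Algebra R B] (x : Pt G (B ⊗[R] A)) : Prop :=
  ∀ n : ℕ, 0 < n → InIm i (spMap (Algebra.TensorProduct.map (AlgHom.id R B)
    (Ideal.Quotient.mkₐ R (SGA3b.torsionIdeal R A n))) ≫ x)

variable [GrpObj G]

theorem TorIm.res {i : X ⟶ G} {B B' : Type u} [CommRing B] [Algebra R B] [CommRing B'] [Algebra R B']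
    {x : Pt G (B ⊗[R] A)} (h : TorIm i x) (g : B →ₐ[R] B') : TorIm i (spMap (bA A g) ≫ x) := by
  intro n hn
  rw [spMap_assoc, show (Algebra.TensorProduct.map (AlgHom.id R B') (Ideal.Quotient.mkₐ R
      (SGA3b.torsionIdeal R A n))).comp (bA A g) = (Algebra.TensorProduct.map g (AlgHom.id R _)).comp
      (Algebra.TensorProduct.map (AlgHom.id R B) (Ideal.Quotient.mkₐ R (SGA3b.torsionIdeal R A n))) from by
    ext <;> simp [bA], ← spMap_assoc]
  exact (h n hn).res _

/-- The locus of a point which comes from `X` on all torsion subgroups is dense. -/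
theorem dense_imLocus (hA : SGA3b.IsMultType R A) [Algebra.FiniteType R A] {i : X ⟶ G} {B : Type u} [CommRing B]
    [Algebra R B] {x : Pt G (B ⊗[R] A)} (h : TorIm i x) : Dense (imLocus i x) := by
  rw [dense_iff_closure_eq, ← PrimeSpectrum.zeroLocus_vanishingIdeal_eq_closure, PrimeSpectrum.zeroLocus_eq_univ_iff]
  intro a ha
  obtain ⟨k, hk⟩ := eq_bot_of_le_torsion hA 1 a fun n hn => by
    let g := Algebra.TensorProduct.map (AlgHom.id R B) (Ideal.Quotient.mkₐ R (SGA3b.torsionIdeal R A n))
    obtain ⟨l, hl⟩ := (inIm_iff_factor i x g).1 (h n hn)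
    have hnil : IsNilpotent (g a) := by
      rw [nilpotent_iff_mem_prime]
      intro Q hQ
      have hmem : (PrimeSpectrum.comap g.toRingHom ⟨Q, hQ⟩) ∈ imLocus i x :=
        ⟨l ⟨Q, hQ⟩, by rw [← Scheme.Hom.comp_apply, hl]; rfl⟩
      exact (PrimeSpectrum.mem_vanishingIdeal _ a).1 ha _ hmem
    obtain ⟨k, hk⟩ := hnil
    refine ⟨k, ?_⟩
    have hker := Algebra.TensorProduct.lTensor_ker (R := R) (A := B)
      (Ideal.Quotient.mkₐ R (SGA3b.torsionIdeal R A n)) (Ideal.Quotient.mkₐ_surjective R _)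
    rw [show RingHom.ker (Ideal.Quotient.mkₐ R (SGA3b.torsionIdeal R A n)) = SGA3b.torsionIdeal R A n from
      Ideal.mk_ker] at hker
    rw [mul_one, ← hker, RingHom.mem_ker]
    show g (a ^ k) = 0
    rw [map_pow, hk]
  exact (mem_nilradical).2 ⟨k, by simpa using hk⟩

variable [GrpObj X]

/-- Translation by a point with values in the base. -/
theorem exists_translation {B : Type u} [CommRing B] [Algebra R B] (ζ : WithConv (A →ₐ[R] B))
    (x : Pt G (B ⊗[R] A)) (hx : IsChar x) :
    ∃ τ τ' : B ⊗[R] A →ₐ[R] B ⊗[R] A, τ'.comp τ = AlgHom.id R _ ∧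
      spMap τ ≫ x = (spMap (inB R A B) ≫ spMap (Algebra.TensorProduct.productMap (AlgHom.id R B) ζ.ofConv) ≫ x) * x := by
  let q : Pt (specGrp R A).X (B ⊗[R] A) := pt (toConv Algebra.TensorProduct.includeRight)
  have hq : IsChar q := by
    have := isChar_universal (𝟙 (specGrp R A).X) B
    rwa [Category.comp_id] at this
  let ev : ∀ ξ : WithConv (A →ₐ[R] B), B ⊗[R] A →ₐ[R] B := fun ξ =>
    Algebra.TensorProduct.productMap (AlgHom.id R B) ξ.ofConv
  let E : ∀ ξ : WithConv (A →ₐ[R] B), W2 R A B →ₐ[R] B ⊗[R] A := fun ξ =>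
    Algebra.TensorProduct.productMap (inB R A B)
      (Algebra.TensorProduct.productMap ((inB R A B).comp ξ.ofConv) Algebra.TensorProduct.includeRight)
  have hE1 : ∀ ξ, (E ξ).comp (eI1 R A B) = (inB R A B).comp (ev ξ) := fun ξ => by
    ext <;> simp [E, ev, eI1, inB, Algebra.TensorProduct.one_def]
  have hE2 : ∀ ξ, (E ξ).comp (eI2 R A B) = AlgHom.id R _ := fun ξ => by
    ext <;> simp [E, eI2, inB, Algebra.TensorProduct.one_def]
  have key : ∀ {Y : Over (Spec (CommRingCat.of R))} [GrpObj Y] (y : Pt Y (B ⊗[R] A)), IsChar y →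
      ∀ ξ, spMap ((E ξ).comp (eD R A B)) ≫ y = (spMap (inB R A B) ≫ spMap (ev ξ) ≫ y) * y := by
    intro Y _ y hy ξ
    rw [← spMap_assoc, hy, MonObj.comp_mul, spMap_assoc, spMap_assoc, hE1, hE2, spMap_id, Category.id_comp,
      ← spMap_assoc]
  obtain ⟨ζ', hζ'⟩ := (Spec.mapMulEquiv (R := R) (S := A) (T := B)).surjective (pt ζ)⁻¹
  refine ⟨(E ζ).comp (eD R A B), (E ζ').comp (eD R A B), ?_, key x hx ζ⟩
  have hev : ∀ ξ, spMap (ev ξ) ≫ q = pt ξ := fun ξ => by
    rw [spMap_pt]
    refine congrArg pt (ofConv_injective (AlgHom.ext fun a => ?_))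
    simp [ev]
  have hinB : ∀ ξ, ((E ξ).comp (eD R A B)).comp (inB R A B) = inB R A B := fun ξ => by
    rw [AlgHom.comp_assoc, eD_inB]
    ext b
    simp [E, inW, inB]
  have h1 : spMap ((E ζ').comp (eD R A B)) ≫ spMap ((E ζ).comp (eD R A B)) ≫ q = q := by
    rw [key q hq ζ, MonObj.comp_mul, key q hq ζ', hev, hev, spMap_assoc, hinB, ← mul_assoc, ← MonObj.comp_mul,
      show pt ζ' = (pt ζ)⁻¹ from hζ', mul_inv_cancel, MonObj.comp_one, one_mul]
  rw [spMap_assoc, spMap_pt] at h1
  refine Algebra.TensorProduct.ext ?_ ?_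
  · ext b
    show ((E ζ').comp (eD R A B)) (((E ζ).comp (eD R A B)).comp (inB R A B) b) = inB R A B b
    rw [hinB, ← AlgHom.comp_apply, hinB]
  · have h2 := (Spec.mapMulEquiv (R := R) (S := A)).injective h1
    exact congrArg WithConv.ofConv h2

/-- **A character which comes from a subgroup scheme on all torsion subgroups comes from it.** -/
theorem char_factor (hA : SGA3b.IsMultType R A) [Algebra.FiniteType R A] (i : X ⟶ G) [IsMonHom i]
    [IsImmersion i.left] {B : Type u} [CommRing B] [Algebra R B] (x : Pt G (B ⊗[R] A)) (hx : IsChar x)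
    (h : TorIm i x) : InIm i x := by
  have hall : ∀ P : PrimeSpectrum (B ⊗[R] A), P ∈ imLocus i x := by
    intro P
    let L := P.asIdeal.ResidueField
    let hP : B ⊗[R] A →ₐ[R] L := IsScalarTower.toAlgHom R _ L
    let ζ : WithConv (A →ₐ[R] L) := toConv (hP.comp Algebra.TensorProduct.includeRight)
    let g : B →ₐ[R] L := hP.comp (inB R A B)
    let xL : Pt G (L ⊗[R] A) := spMap (bA A g) ≫ x
    obtain ⟨τ, τ', hττ', hτ⟩ := exists_translation ζ xL (hx.res g)
    have hev : (Algebra.TensorProduct.productMap (AlgHom.id R L) ζ.ofConv).comp (bA A g) = hP := by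
      ext <;> simp [bA, g, ζ, inB, ← Algebra.TensorProduct.one_def]
    obtain ⟨U, hU, hUeq⟩ := exists_isOpen_imLocus i xL
    have hd := dense_imLocus hA (h.res g)
    have hUeq' : imLocus i xL = U := by rw [hUeq, hd.closure_eq, Set.inter_univ]
    let em : L ⊗[R] A →ₐ[R] L := Algebra.TensorProduct.productMap (AlgHom.id R L) ζ.ofConv
    let t₀ : PrimeSpectrum (L ⊗[R] A) := PrimeSpectrum.comap em.toRingHom ⊥
    have hne : (PrimeSpectrum.comap τ.toRingHom ⁻¹' U).Nonempty := by
      obtain ⟨u, hu⟩ : (imLocus i xL).Nonempty := by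
        haveI : Nonempty (PrimeSpectrum (L ⊗[R] A)) := ⟨t₀⟩
        exact hd.nonempty
      refine ⟨PrimeSpectrum.comap τ'.toRingHom u, ?_⟩
      show PrimeSpectrum.comap τ.toRingHom (PrimeSpectrum.comap τ'.toRingHom u) ∈ U
      rw [← PrimeSpectrum.comap_comp_apply, show τ'.toRingHom.comp τ.toRingHom = RingHom.id _ from
        congrArg AlgHom.toRingHom hττ', PrimeSpectrum.comap_id]
      exact hUeq' ▸ hu
    obtain ⟨w, hwU, hw⟩ := hd.inter_open_nonempty _ (hU.preimage (PrimeSpectrum.continuous_comap _)) hne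
    let K := w.asIdeal.ResidueField
    let k : L ⊗[R] A →ₐ[R] K := IsScalarTower.toAlgHom R _ K
    obtain ⟨z₂, hz₂⟩ := inIm_residueField i xL w hw
    obtain ⟨z₁, hz₁⟩ : InIm i (spMap k ≫ spMap τ ≫ xL) := by
      have h1 := inIm_residueField i xL (PrimeSpectrum.comap τ.toRingHom w) (hUeq' ▸ hwU)
      rw [spMap_assoc]
      let Q := PrimeSpectrum.comap τ.toRingHom w
      let m : Q.asIdeal.ResidueField →ₐ[R] K := Ideal.ResidueField.mapₐ Q.asIdeal w.asIdeal τ rfl
      have hm : m.comp (IsScalarTower.toAlgHom R (L ⊗[R] A) Q.asIdeal.ResidueField) = k.comp τ :=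
        AlgHom.ext fun t => Ideal.ResidueField.map_algebraMap _ _ τ.toRingHom rfl t
      rw [← hm, ← spMap_assoc]
      exact h1.res m
    let e : L →ₐ[R] K := k.comp (inB R A L)
    have h3 : InIm i (spMap (e.comp hP) ≫ x) := by
      refine ⟨z₁ * z₂⁻¹, ?_⟩
      rw [MonObj.mul_comp, GrpObj.inv_comp, ← hz₁, ← hz₂, hτ, MonObj.comp_mul, mul_inv_cancel_right]
      simp only [xL, spMap_assoc, AlgHom.comp_assoc, hev, e]
    refine mem_imLocus_of_inIm i x (e.comp hP) h3 P (Ideal.ext fun a => ?_)
    rw [RingHom.mem_ker, AlgHom.comp_apply, map_eq_zero_iff e (RingHom.injective e.toRingHom)]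
    exact Ideal.algebraMap_residueField_eq_zero
  have hcl : IsClosed (imLocus i x) := by rw [Set.eq_univ_of_forall hall]; exact isClosed_univ
  obtain ⟨J, -, hJ⟩ := exists_factor_ideal i x hcl
  have hJ0 : J = ⊥ := by
    refine eq_bot_iff.2 fun z hz => ?_
    obtain ⟨k, hk⟩ := eq_bot_of_le_torsion hA z 1 fun n hn => ⟨0, by
      rw [pow_zero, one_mul]
      have hker := Algebra.TensorProduct.lTensor_ker (R := R) (A := B)
        (Ideal.Quotient.mkₐ R (SGA3b.torsionIdeal R A n)) (Ideal.Quotient.mkₐ_surjective R _)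
      rw [show RingHom.ker (Ideal.Quotient.mkₐ R (SGA3b.torsionIdeal R A n)) = SGA3b.torsionIdeal R A n from
        Ideal.mk_ker] at hker
      exact hker.le ((hJ _ _).1 (h n hn) hz)⟩
    simpa using hk
  have := (hJ _ (AlgHom.id R (B ⊗[R] A))).2 (by rw [hJ0]; exact bot_le)
  rwa [spMap_id, Category.id_comp] at this

end Groth.Agent.MTBridge
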