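import Groth.Agent.MTBridge.SqFactor
import Groth.Agent.MTBridge.SubEqNil
import Mathlib

/-!
# Homomorphisms from a group of multiplicative type which agree modulo a square-zero ideal are conjugate
-/

set_option autoImplicit false
set_option linter.style.haveILetI false
set_option backward.isDefEq.respectTransparency false
set_option maxHeartbeats 1000000
set_option synthInstance.maxHeartbeats 400000

universe u

open CategoryTheory Limits MonoidalCategory CartesianMonoidalCategory AlgebraicGeometry TensorProduct Opposite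
open TopologicalSpace WithConv
open scoped CategoryTheory.Obj MonObj

noncomputable section

namespace Groth.Agent.MTBridge

variable {R : Type u} [CommRing R] {J : Ideal R} {A : Type u} [CommRing A] [HopfAlgebra R A]

/-- An algebra map respects constants plus the ideal. -/
theorem exists_sq_restrict {T T' : Type u} [CommRing T] [Algebra R T] [CommRing T'] [Algebra R T']
    (F : T ⊗[R] A →ₐ[R] T' ⊗[R] A) (f : T →ₐ[R] T') (hF : ∀ t, F (t ⊗ₜ 1) = f t ⊗ₜ 1) :
    ∃ F' : sqSub J T A →ₐ[R] sqSub J T' A, (sqSub J T' A).val.comp F' = F.comp (sqSub J T A).val := by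
  refine ⟨(F.comp (sqSub J T A).val).codRestrict (sqSub J T' A) ?_, AlgHom.ext fun z => rfl⟩
  rintro ⟨z, hz⟩
  obtain ⟨t, ht⟩ := mem_sqSub.1 hz
  refine mem_sqSub.2 ⟨f t, ?_⟩
  have h := Ideal.mem_map_of_mem (F : T ⊗[R] A →+* T' ⊗[R] A) ht
  rw [Ideal.map_map, AlgHom.comp_algebraMap, map_sub] at h
  rw [← hF]
  exact h

theorem spMap_eq_pt {T : Type u} [CommRing T] [Algebra R T] (f : A →ₐ[R] T) :
    spMap f = pt (toConv f) := Over.OverMorphism.ext rfl

/-- **Homomorphisms which agree modulo a square-zero ideal are conjugate by a point trivial modulo it.** -/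
theorem exists_conj_sq {G : Over (Spec (CommRingCat.of R))} [GrpObj G] (hJ : J ^ 2 = ⊥)
    (hA : SGA3b.IsMultType R A) (u v : (specGrp R A).X ⟶ G) [IsMonHom u] [IsMonHom v]
    (h0 : ∀ (Y : Over (Spec (CommRingCat.of R))) (_ : Y ⟶ Over.mk (qJ J)) (h : Y ⟶ (specGrp R A).X),
      h ≫ u = h ≫ v) :
    ∃ g : Pt G R, spMap (Ideal.Quotient.mkₐ R J) ≫ g = 1 ∧
      v = (spMap (Algebra.ofId R A) ≫ g) * u * (spMap (Algebra.ofId R A) ≫ g)⁻¹ := by
  haveI := Groth.Agent.MultT.isCocomm hA
  obtain ⟨l, hl1, hl⟩ := Groth.Agent.MultT.exists_isHaar hA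
  have hJn : IsNilpotent J := ⟨2, hJ⟩
  let uA : Pt G A := u
  let vA : Pt G A := v
  let d : Pt G A := vA * uA⁻¹
  let ε : A →ₐ[R] R := Bialgebra.counitAlgHom R A
  let inR : A →ₐ[R] R ⊗[R] A := Algebra.TensorProduct.includeRight
  have htriv : ∀ (Q : Type u) [CommRing Q] [Algebra R Q] (f : A →ₐ[R] Q),
      (∀ x ∈ J, algebraMap R Q x = 0) → spMap f ≫ d = 1 := by
    intro Q _ _ f hQ
    let p : (Spec (CommRingCat.of Q)).asOver (Spec (CommRingCat.of R)) ⟶ Over.mk (qJ J) :=
      Over.homMk (Spec.map (CommRingCat.ofHom (Ideal.Quotient.lift J (algebraMap R Q) hQ))) (by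
        show Spec.map _ ≫ Spec.map (CommRingCat.ofHom (Ideal.Quotient.mk J)) = Spec.map _
        rw [← Spec.map_comp, ← CommRingCat.ofHom_comp]
        rfl)
    show spMap f ≫ (vA * uA⁻¹) = 1
    rw [MonObj.comp_mul, GrpObj.comp_inv, h0 _ p (spMap f), mul_inv_cancel]
  obtain ⟨d', hd'⟩ := exists_sq_factor hJn ε (spMap inR ≫ d) (fun Q _ _ f hQ => by
    rw [spMap_assoc]; exact htriv Q _ hQ)
  obtain ⟨IR, hIR⟩ := exists_sqInt (T := R) hJ l hl1
  obtain ⟨IA, hIA⟩ := exists_sqInt (T := A) hJ l hl1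
  let g : Pt G R := spMap IR ≫ d'
  -- maps into `A ⊗ A`
  let D : R ⊗[R] A →ₐ[R] A ⊗[R] A := (Bialgebra.comulAlgHom R A).comp (Algebra.TensorProduct.lid R A).toAlgHom
  let N : R ⊗[R] A →ₐ[R] A ⊗[R] A := Algebra.TensorProduct.map (Algebra.ofId R A) (AlgHom.id R A)
  obtain ⟨Db, hDb⟩ := exists_sq_restrict (J := J) D (Algebra.ofId R A) (fun t => by
    simp [D, Algebra.ofId_apply, Algebra.algebraMap_eq_smul_one, TensorProduct.smul_tmul',
      Algebra.TensorProduct.one_def])
  obtain ⟨Nb, hNb⟩ := exists_sq_restrict (J := J) N (Algebra.ofId R A) (fun t => by simp [N])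
  let iA : A →ₐ[R] sqSub J A A :=
    (Algebra.TensorProduct.includeLeft : A →ₐ[R] A ⊗[R] A).codRestrict _ fun t => tmul_one_mem t
  obtain ⟨hs, hd⟩ := epi_sqSub (J := J) (T := A) hJn ε
  haveI := hs
  haveI := hd
  haveI : Epi (spMap (sqSub J A A).val).left := by
    show Epi (Spec.map (CommRingCat.ofHom (algebraMap (sqSub J A A) (A ⊗[R] A))))
    exact QuotScheme.epi_of_surjective_of_injective _ (Scheme.Hom.surjective _)
      fun U => Scheme.Hom.app_injective _ U
  haveI : Epi (spMap (sqSub J A A).val) := Over.epi_of_epi_left _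
  let i₁ : A →ₐ[R] A ⊗[R] A := Algebra.TensorProduct.includeLeft
  let i₂ : A →ₐ[R] A ⊗[R] A := Algebra.TensorProduct.includeRight
  have hΔ : spMap (Bialgebra.comulAlgHom R A) = (spMap i₁ * spMap i₂ : Pt (specGrp R A).X (A ⊗[R] A)) := by
    rw [spMap_eq_pt, spMap_eq_pt, spMap_eq_pt]
    refine (congrArg pt (ofConv_injective (AlgHom.ext fun a => ?_))).trans (map_mul Spec.mapMulEquiv _ _)
    rw [AlgHom.convMul_apply]
    simp only [ofConv_toConv, Bialgebra.comulAlgHom_apply]
    induction Coalgebra.comul (R := R) a using TensorProduct.induction_on with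
    | zero => simp
    | add p q hp hq => simp only [map_add, ← hp, ← hq]
    | tmul p q => simp [i₁, i₂]
  have hD1 : D.comp inR = Bialgebra.comulAlgHom R A := AlgHom.ext fun a => by simp [D, inR]
  have hN1 : N.comp inR = i₂ := AlgHom.ext fun a => by simp [N, inR, i₂]
  have hE : spMap Db ≫ d' = (spMap iA ≫ d) * (spMap iA ≫ uA) * (spMap Nb ≫ d') * (spMap iA ≫ uA)⁻¹ := by
    refine (cancel_epi (spMap (sqSub J A A).val)).1 ?_
    rw [MonObj.comp_mul, MonObj.comp_mul, MonObj.comp_mul, GrpObj.comp_inv, spMap_assoc, spMap_assoc,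
      spMap_assoc, spMap_assoc, hDb, hNb, ← spMap_assoc _ _ d', ← spMap_assoc _ _ d', hd', spMap_assoc,
      spMap_assoc, hD1, hN1, show (sqSub J A A).val.comp iA = i₁ from AlgHom.ext fun a => rfl]
    show spMap (Bialgebra.comulAlgHom R A) ≫ (vA * uA⁻¹) =
      (spMap i₁ ≫ (vA * uA⁻¹)) * (spMap i₁ ≫ uA) * (spMap i₂ ≫ (vA * uA⁻¹)) * (spMap i₁ ≫ uA)⁻¹
    simp only [MonObj.comp_mul, GrpObj.comp_inv, inv_mul_cancel_right, hΔ]
    show (spMap i₁ * spMap i₂) ≫ v * ((spMap i₁ * spMap i₂) ≫ u)⁻¹ = _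
    rw [MonObj.mul_comp, MonObj.mul_comp, _root_.mul_inv_rev]
    simp only [_root_.mul_assoc]
    rfl
  have hID : IA.comp Db = (Algebra.ofId R A).comp IR := by
    refine AlgHom.ext fun z => ?_
    show IA (Db z) = algebraMap R A (IR z)
    rw [hIA, hIR, show ((Db z : sqSub J A A) : A ⊗[R] A) = D (z : R ⊗[R] A) from AlgHom.congr_fun hDb z]
    induction (z : R ⊗[R] A) using TensorProduct.induction_on with
    | zero => simp
    | add x y hx hy => simp only [map_add, hx, hy]
    | tmul r a =>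
      have h1 := congrArg (TensorProduct.comm R R A) (hl a)
      have h2 : ∀ t : A ⊗[R] A, TensorProduct.comm R R A (l.rTensor A t) =
          l.lTensor A (TensorProduct.comm R A A t) := fun t => by
        induction t using TensorProduct.induction_on with
        | zero => simp
        | add x y hx hy => simp only [map_add, hx, hy]
        | tmul x y => simp
      rw [h2, Coalgebra.comm_comul, TensorProduct.comm_tmul] at h1
      have h3 : ∀ x : A ⊗[R] A, (algebraMap R A r ⊗ₜ[R] (1 : A)) * x = r • x := fun x => by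
        rw [Algebra.smul_def]; rfl
      have h4 : D (r ⊗ₜ[R] a) = r • Coalgebra.comul (R := R) a := by
        rw [← map_smul]; simp [D]
      rw [h4, map_smul, map_smul, h1]
      simp [Algebra.smul_def, mul_comm]
  have hIN : IA.comp Nb = (Algebra.ofId R A).comp IR := by
    refine AlgHom.ext fun z => ?_
    show IA (Nb z) = algebraMap R A (IR z)
    rw [hIA, hIR, show ((Nb z : sqSub J A A) : A ⊗[R] A) = N (z : R ⊗[R] A) from AlgHom.congr_fun hNb z]
    induction (z : R ⊗[R] A) using TensorProduct.induction_on with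
    | zero => simp
    | add x y hx hy => simp only [map_add, hx, hy]
    | tmul r a => simp [N, Algebra.ofId_apply, Algebra.smul_def, mul_comm]
  have hIi : IA.comp iA = AlgHom.id R A := AlgHom.ext fun a => by
    show IA (iA a) = a
    rw [hIA]
    show TensorProduct.rid R A (l.lTensor A (a ⊗ₜ[R] (1 : A))) = a
    simp [hl1]
  refine ⟨g, ?_, ?_⟩
  · show spMap (Ideal.Quotient.mkₐ R J) ≫ spMap IR ≫ d' = 1
    let F : R ⊗[R] A →ₐ[R] R ⧸ J :=
      (Ideal.Quotient.mkₐ R J).comp (ε.comp (Algebra.TensorProduct.lid R A).toAlgHom)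
    have hF : (Ideal.Quotient.mkₐ R J).comp IR = F.comp (sqSub J R A).val := by
      refine AlgHom.ext fun z => ?_
      obtain ⟨z, hz⟩ := z
      show Ideal.Quotient.mk J (IR ⟨z, hz⟩) = F z
      obtain ⟨t, ht⟩ := mem_sqSub.1 hz
      rw [hIR]
      let K : R ⊗[R] A →ₗ[R] R ⧸ J :=
        ((Ideal.Quotient.mkₐ R J).toLinearMap ∘ₗ (TensorProduct.rid R R).toLinearMap ∘ₗ l.lTensor R) -
          F.toLinearMap
      have hK : ∀ x ∈ J.map (algebraMap R (R ⊗[R] A)), K x = 0 := by
        intro x hx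
        have h1 : x ∈ (J • ⊤ : Submodule R (R ⊗[R] A)) := by
          rw [Ideal.smul_top_eq_map, Submodule.restrictScalars_mem]; exact hx
        refine Submodule.smul_induction_on h1 (fun c hc p _ => ?_) (fun x y hx hy => by rw [map_add, hx, hy, add_zero])
        rw [map_smul, Algebra.smul_def, Ideal.Quotient.algebraMap_eq, Ideal.Quotient.eq_zero_iff_mem.2 hc, zero_mul]
      have h3 := hK _ ht
      rw [map_sub, sub_eq_zero] at h3
      have h4 : K (t ⊗ₜ[R] (1 : A)) = 0 := by simp [K, F, ε, hl1]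
      rw [h4] at h3
      exact sub_eq_zero.1 h3
    rw [spMap_assoc, hF, ← spMap_assoc, hd', spMap_assoc]
    exact htriv _ _ fun x hx => Ideal.Quotient.eq_zero_iff_mem.2 hx
  · let gA : Pt G A := spMap (Algebra.ofId R A) ≫ g
    have key := congrArg (fun k => spMap IA ≫ k) hE
    simp only [MonObj.comp_mul, GrpObj.comp_inv, spMap_assoc, hID, hIN, hIi, spMap_id, Category.id_comp] at key
    rw [← spMap_assoc] at key
    have key2 : gA = vA * gA * uA⁻¹ := by
      rw [show vA = d * uA from (inv_mul_cancel_right vA uA).symm]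
      exact key
    show vA = gA * uA * gA⁻¹
    rw [eq_mul_inv_iff_mul_eq]
    exact (eq_mul_inv_iff_mul_eq.1 key2).symm

end Groth.Agent.MTBridge

namespace Groth.Agent.MTBridge

variable {R : Type u} [CommRing R]

theorem specR_hom_eq_id : ((Spec (CommRingCat.of R)).asOver (Spec (CommRingCat.of R))).hom = 𝟙 _ := by
  show Spec.map (CommRingCat.ofHom (algebraMap R R)) = _
  rw [show algebraMap R R = RingHom.id R from rfl, CommRingCat.ofHom_id, Spec.map_id]
  rfl

theorem toSpecR_ext {X : Over (Spec (CommRingCat.of R))}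
    (k k' : X ⟶ (Spec (CommRingCat.of R)).asOver (Spec (CommRingCat.of R))) : k = k' := by
  have h : ∀ k : X ⟶ (Spec (CommRingCat.of R)).asOver (Spec (CommRingCat.of R)), k.left = X.hom := fun k => by
    rw [← Over.w k, specR_hom_eq_id]
    exact (Category.comp_id _).symm
  exact Over.OverMorphism.ext ((h k).trans (h k').symm)

/-- A point over the base ring is an `S`-point. -/
theorem exists_section (G : Over (Spec (CommRingCat.of R))) (g : Pt G R) :
    ∃ g' : 𝟙_ (Over (Spec (CommRingCat.of R))) ⟶ G, ∀ (X : Over (Spec (CommRingCat.of R)))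
      (k : X ⟶ (Spec (CommRingCat.of R)).asOver (Spec (CommRingCat.of R))), k ≫ g = toUnit X ≫ g' := by
  let i : 𝟙_ (Over (Spec (CommRingCat.of R))) ⟶ (Spec (CommRingCat.of R)).asOver (Spec (CommRingCat.of R)) :=
    Over.homMk (𝟙_ (Over (Spec (CommRingCat.of R)))).hom (by rw [specR_hom_eq_id]; exact Category.comp_id _)
  exact ⟨i ≫ g, fun X k => by rw [← Category.assoc, toSpecR_ext k (toUnit X ≫ i)]⟩

end Groth.Agent.MTBridge
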