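import Groth.Agent.MTBridge.SqFactorSec
import Groth.Agent.MTBridge.SqZeroConj
import Groth.Agent.MTBridge.ActTrivGeo
import Groth.Agent.MTBridge.ChartsAll
import Mathlib

/-!
# Fixed points of a group of multiplicative type lift along square-zero extensions
-/

set_option autoImplicit false
set_option linter.style.haveILetI false
set_option backward.isDefEq.respectTransparency false
set_option maxHeartbeats 1000000
set_option synthInstance.maxHeartbeats 400000

universe u

open CategoryTheory Limits MonoidalCategory CartesianMonoidalCategory AlgebraicGeometry TensorProduct Opposite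
open TopologicalSpace WithConv
open scoped CategoryTheory.Obj MonObj

noncomputable section

namespace Groth.Agent.MTBridge

variable {R : Type u} [CommRing R] {J : Ideal R} {A : Type u} [CommRing A] [HopfAlgebra R A]

/-- **Averaging a lift of a fixed point.** -/
theorem exists_fixed_sq {X : Over (Spec (CommRingCat.of R))} (hJ : J ^ 2 = ⊥) (hA : SGA3b.IsMultType R A)
    (α : ∀ {Y : Over (Spec (CommRingCat.of R))}, (Y ⟶ (specGrp R A).X) → (Y ⟶ X) → (Y ⟶ X))
    (hcomp : ∀ {Y Y' : Over (Spec (CommRingCat.of R))} (b : Y' ⟶ Y) (g : Y ⟶ (specGrp R A).X) (x : Y ⟶ X),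
      b ≫ α g x = α (b ≫ g) (b ≫ x))
    (hmul : ∀ {Y : Over (Spec (CommRingCat.of R))} (g h : Y ⟶ (specGrp R A).X) (x : Y ⟶ X),
      α (g * h) x = α g (α h x))
    (x₁ : Pt X R)
    (h0 : ∀ (Y : Over (Spec (CommRingCat.of R))) (_ : Y ⟶ Over.mk (qJ J)) (g : Y ⟶ (specGrp R A).X)
      (k : Y ⟶ (Spec (CommRingCat.of R)).asOver (Spec (CommRingCat.of R))), α g (k ≫ x₁) = k ≫ x₁) :
    ∃ x : Pt X R, spMap (Ideal.Quotient.mkₐ R J) ≫ x = spMap (Ideal.Quotient.mkₐ R J) ≫ x₁ ∧
      ∀ (Y : Over (Spec (CommRingCat.of R))) (g : Y ⟶ (specGrp R A).X)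
        (k : Y ⟶ (Spec (CommRingCat.of R)).asOver (Spec (CommRingCat.of R))), α g (k ≫ x) = k ≫ x := by
  haveI := Groth.Agent.MultT.isCocomm hA
  obtain ⟨l, hl1, hl⟩ := Groth.Agent.MultT.exists_isHaar hA
  have hJn : IsNilpotent J := ⟨2, hJ⟩
  let c : (specGrp R A).X ⟶ (Spec (CommRingCat.of R)).asOver (Spec (CommRingCat.of R)) := spMap (Algebra.ofId R A)
  let d : Pt X A := α (𝟙 (specGrp R A).X) (c ≫ x₁)
  let ε : A →ₐ[R] R := Bialgebra.counitAlgHom R A
  let inR : A →ₐ[R] R ⊗[R] A := Algebra.TensorProduct.includeRight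
  have htriv : ∀ (Q : Type u) [CommRing Q] [Algebra R Q] (f : A →ₐ[R] Q),
      (∀ x ∈ J, algebraMap R Q x = 0) → spMap f ≫ d = spMap (Algebra.ofId R Q) ≫ x₁ := by
    intro Q _ _ f hQ
    let p : (Spec (CommRingCat.of Q)).asOver (Spec (CommRingCat.of R)) ⟶ Over.mk (qJ J) :=
      Over.homMk (Spec.map (CommRingCat.ofHom (Ideal.Quotient.lift J (algebraMap R Q) hQ))) (by
        show Spec.map _ ≫ Spec.map (CommRingCat.ofHom (Ideal.Quotient.mk J)) = Spec.map _
        rw [← Spec.map_comp, ← CommRingCat.ofHom_comp]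
        rfl)
    show spMap f ≫ α (𝟙 (specGrp R A).X) (c ≫ x₁) = _
    rw [hcomp, ← Category.assoc, h0 _ p _ (spMap f ≫ c), toSpecR_ext (spMap f ≫ c) (spMap (Algebra.ofId R Q))]
  obtain ⟨hs₀, hd₀⟩ := epi_sqSub (J := J) (T := R) hJn ε
  obtain ⟨d', hd'⟩ := exists_factor_sec (hs := hs₀) (hd := hd₀) x₁ hJn Subtype.val_injective
    (fun c hc a => ⟨⟨c • a, smul_mem_sqSub hc a⟩, rfl⟩) (spMap inR ≫ d) (fun Q _ _ f hQ => by
      rw [spMap_assoc']; exact htriv Q _ hQ)
  replace hd' : spMap (sqSub J R A).val ≫ d' = spMap inR ≫ d := hd'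
  obtain ⟨IR, hIR⟩ := exists_sqInt (T := R) hJ l hl1
  obtain ⟨IA, hIA⟩ := exists_sqInt (T := A) hJ l hl1
  let x : Pt X R := spMap IR ≫ d'
  let D : R ⊗[R] A →ₐ[R] A ⊗[R] A := (Bialgebra.comulAlgHom R A).comp (Algebra.TensorProduct.lid R A).toAlgHom
  let N : R ⊗[R] A →ₐ[R] A ⊗[R] A := Algebra.TensorProduct.map (Algebra.ofId R A) (AlgHom.id R A)
  obtain ⟨Db, hDb⟩ := exists_sq_restrict (J := J) D (Algebra.ofId R A) (fun t => by
    simp [D, Algebra.ofId_apply, Algebra.algebraMap_eq_smul_one, TensorProduct.smul_tmul',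
      Algebra.TensorProduct.one_def])
  obtain ⟨Nb, hNb⟩ := exists_sq_restrict (J := J) N (Algebra.ofId R A) (fun t => by simp [N])
  let iA : A →ₐ[R] sqSub J A A :=
    (Algebra.TensorProduct.includeLeft : A →ₐ[R] A ⊗[R] A).codRestrict _ fun t => tmul_one_mem t
  obtain ⟨hs, hd⟩ := epi_sqSub (J := J) (T := A) hJn ε
  haveI := hs
  haveI := hd
  haveI : Epi (spMap (sqSub J A A).val).left := by
    show Epi (Spec.map (CommRingCat.ofHom (algebraMap (sqSub J A A) (A ⊗[R] A))))
    exact QuotScheme.epi_of_surjective_of_injective _ (Scheme.Hom.surjective _)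
      fun U => Scheme.Hom.app_injective _ U
  haveI : Epi (spMap (sqSub J A A).val) := Over.epi_of_epi_left _
  let i₁ : A →ₐ[R] A ⊗[R] A := Algebra.TensorProduct.includeLeft
  let i₂ : A →ₐ[R] A ⊗[R] A := Algebra.TensorProduct.includeRight
  have hΔ : spMap (Bialgebra.comulAlgHom R A) = (spMap i₁ * spMap i₂ : Pt (specGrp R A).X (A ⊗[R] A)) := by
    rw [spMap_eq_pt, spMap_eq_pt, spMap_eq_pt]
    refine (congrArg pt (ofConv_injective (AlgHom.ext fun a => ?_))).trans (map_mul Spec.mapMulEquiv _ _)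
    rw [AlgHom.convMul_apply]
    simp only [ofConv_toConv, Bialgebra.comulAlgHom_apply]
    induction Coalgebra.comul (R := R) a using TensorProduct.induction_on with
    | zero => simp
    | add p q hp hq => simp only [map_add, ← hp, ← hq]
    | tmul p q => simp [i₁, i₂]
  have hD1 : D.comp inR = Bialgebra.comulAlgHom R A := AlgHom.ext fun a => by simp [D, inR]
  have hN1 : N.comp inR = i₂ := AlgHom.ext fun a => by simp [N, inR, i₂]
  have hE : spMap Db ≫ d' = α (spMap iA : Pt (specGrp R A).X (sqSub J A A)) (spMap Nb ≫ d') := by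
    refine (cancel_epi (spMap (sqSub J A A).val)).1 ?_
    rw [hcomp, spMap_assoc', spMap_assoc', hDb, hNb, ← spMap_assoc' _ _ d', ← spMap_assoc' _ _ d', hd',
      spMap_assoc', spMap_assoc', hD1, hN1, spMap_comp,
      show (sqSub J A A).val.comp iA = i₁ from AlgHom.ext fun a => rfl]
    show spMap (Bialgebra.comulAlgHom R A) ≫ α (𝟙 (specGrp R A).X) (c ≫ x₁) =
      α (spMap i₁) (spMap i₂ ≫ α (𝟙 (specGrp R A).X) (c ≫ x₁))
    rw [hcomp, hcomp, Category.comp_id, Category.comp_id, ← Category.assoc, ← Category.assoc,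
      toSpecR_ext (spMap i₂ ≫ c) (spMap (Bialgebra.comulAlgHom R A) ≫ c), ← hmul, ← hΔ]
  have hID : IA.comp Db = (Algebra.ofId R A).comp IR := by
    refine AlgHom.ext fun z => ?_
    show IA (Db z) = algebraMap R A (IR z)
    rw [hIA, hIR, show ((Db z : sqSub J A A) : A ⊗[R] A) = D (z : R ⊗[R] A) from AlgHom.congr_fun hDb z]
    induction (z : R ⊗[R] A) using TensorProduct.induction_on with
    | zero => simp
    | add x y hx hy => simp only [map_add, hx, hy]
    | tmul r a =>
      have h1 := congrArg (TensorProduct.comm R R A) (hl a)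
      have h2 : ∀ t : A ⊗[R] A, TensorProduct.comm R R A (l.rTensor A t) =
          l.lTensor A (TensorProduct.comm R A A t) := fun t => by
        induction t using TensorProduct.induction_on with
        | zero => simp
        | add x y hx hy => simp only [map_add, hx, hy]
        | tmul x y => simp
      rw [h2, Coalgebra.comm_comul, TensorProduct.comm_tmul] at h1
      have h3 : ∀ x : A ⊗[R] A, (algebraMap R A r ⊗ₜ[R] (1 : A)) * x = r • x := fun x => by
        rw [Algebra.smul_def]; rfl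
      have h4 : D (r ⊗ₜ[R] a) = r • Coalgebra.comul (R := R) a := by
        rw [← map_smul]; simp [D]
      rw [h4, map_smul, map_smul, h1]
      simp [Algebra.smul_def, mul_comm]
  have hIN : IA.comp Nb = (Algebra.ofId R A).comp IR := by
    refine AlgHom.ext fun z => ?_
    show IA (Nb z) = algebraMap R A (IR z)
    rw [hIA, hIR, show ((Nb z : sqSub J A A) : A ⊗[R] A) = N (z : R ⊗[R] A) from AlgHom.congr_fun hNb z]
    induction (z : R ⊗[R] A) using TensorProduct.induction_on with
    | zero => simp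
    | add x y hx hy => simp only [map_add, hx, hy]
    | tmul r a => simp [N, Algebra.ofId_apply, Algebra.smul_def, mul_comm]
  have hIi : IA.comp iA = AlgHom.id R A := AlgHom.ext fun a => by
    show IA (iA a) = a
    rw [hIA]
    show TensorProduct.rid R A (l.lTensor A (a ⊗ₜ[R] (1 : A))) = a
    simp [hl1]
  have key : α (𝟙 (specGrp R A).X) (c ≫ x) = c ≫ x := by
    have h := congrArg (fun k => spMap IA ≫ k) hE
    simp only [hcomp, spMap_assoc', spMap_comp, hID, hIN, hIi, spMap_id] at h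
    rw [← spMap_assoc'] at h
    exact h.symm
  refine ⟨x, ?_, fun Y g k => ?_⟩
  · show spMap (Ideal.Quotient.mkₐ R J) ≫ spMap IR ≫ d' = _
    let F : R ⊗[R] A →ₐ[R] R ⧸ J :=
      (Ideal.Quotient.mkₐ R J).comp (ε.comp (Algebra.TensorProduct.lid R A).toAlgHom)
    have hF : (Ideal.Quotient.mkₐ R J).comp IR = F.comp (sqSub J R A).val := by
      refine AlgHom.ext fun z => ?_
      obtain ⟨z, hz⟩ := z
      show Ideal.Quotient.mk J (IR ⟨z, hz⟩) = F z
      obtain ⟨t, ht⟩ := mem_sqSub.1 hz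
      rw [hIR]
      let K : R ⊗[R] A →ₗ[R] R ⧸ J :=
        ((Ideal.Quotient.mkₐ R J).toLinearMap ∘ₗ (TensorProduct.rid R R).toLinearMap ∘ₗ l.lTensor R) -
          F.toLinearMap
      have hK : ∀ x ∈ J.map (algebraMap R (R ⊗[R] A)), K x = 0 := by
        intro x hx
        have h1 : x ∈ (J • ⊤ : Submodule R (R ⊗[R] A)) := by
          rw [Ideal.smul_top_eq_map, Submodule.restrictScalars_mem]; exact hx
        refine Submodule.smul_induction_on h1 (fun c hc p _ => ?_) (fun x y hx hy => by rw [map_add, hx, hy, add_zero])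
        rw [map_smul, Algebra.smul_def, Ideal.Quotient.algebraMap_eq, Ideal.Quotient.eq_zero_iff_mem.2 hc, zero_mul]
      have h3 := hK _ ht
      rw [map_sub, sub_eq_zero] at h3
      have h4 : K (t ⊗ₜ[R] (1 : A)) = 0 := by simp [K, F, ε, hl1]
      rw [h4] at h3
      exact sub_eq_zero.1 h3
    rw [spMap_assoc', hF, ← spMap_assoc', hd', spMap_assoc', htriv _ _ fun x hx => Ideal.Quotient.eq_zero_iff_mem.2 hx]
    congr 2
  · have h := congrArg (fun w => g ≫ w) key
    simp only [hcomp, Category.comp_id, ← Category.assoc] at h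
    rwa [toSpecR_ext (g ≫ c) k] at h

end Groth.Agent.MTBridge
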