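import Groth.Agent.MTBridge.FreeHopf
import Groth.Agent.MTBridge.NilConj
import Groth.Prelude.Def_AlgGrp
import Groth.Prelude.Def_ActBC
import Mathlib

/-!
# Free actions of groups of multiplicative type on affine schemes have closed graph
-/

set_option autoImplicit false
set_option linter.style.haveILetI false
set_option backward.isDefEq.respectTransparency false
set_option maxHeartbeats 1000000
set_option synthInstance.maxHeartbeats 400000

universe u

open CategoryTheory Limits MonoidalCategory CartesianMonoidalCategory AlgebraicGeometry TensorProduct Opposite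
open WithConv
open scoped CategoryTheory.Obj MonObj

noncomputable section

namespace Groth.Agent.MTBridge

variable {R : Type u} [CommRing R]

/-- Maps between spectra over the base are algebra maps. -/
theorem exists_spMap {B T : Type u} [CommRing B] [Algebra R B] [CommRing T] [Algebra R T]
    (m : (Spec (CommRingCat.of T)).asOver (Spec (CommRingCat.of R)) ⟶
      (Spec (CommRingCat.of B)).asOver (Spec (CommRingCat.of R))) : ∃ φ : B →ₐ[R] T, m = spMap φ := by
  obtain ⟨c, hc⟩ := Spec.map_surjective m.left
  have h : CommRingCat.ofHom (algebraMap R B) ≫ c = CommRingCat.ofHom (algebraMap R T) := by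
    apply Spec.map_injective
    rw [Spec.map_comp, hc]
    exact Over.w m
  exact ⟨{ c.hom with commutes' := fun r => congr($(h) r) }, Over.OverMorphism.ext hc.symm⟩

theorem spMap_injective {B T : Type u} [CommRing B] [Algebra R B] [CommRing T] [Algebra R T] (φ ψ : B →ₐ[R] T)
    (h : spMap φ = spMap ψ) : φ = ψ :=
  AlgHom.coe_ringHom_injective (congrArg CommRingCat.Hom.hom (Spec.map_injective (congrArg (fun k => k.left) h)))

/-- The product of two spectra. -/
def prodK (B C : Type u) [CommRing B] [Algebra R B] [CommRing C] [Algebra R C] :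
    (Spec (CommRingCat.of (B ⊗[R] C))).asOver (Spec (CommRingCat.of R)) ⟶
      (Spec (CommRingCat.of B)).asOver (Spec (CommRingCat.of R)) ⊗ (Spec (CommRingCat.of C)).asOver (Spec (CommRingCat.of R)) :=
  lift (spMap (Algebra.TensorProduct.includeLeft : B →ₐ[R] B ⊗[R] C))
    (spMap (Algebra.TensorProduct.includeRight : C →ₐ[R] B ⊗[R] C))

theorem isIso_prodK (B C : Type u) [CommRing B] [Algebra R B] [CommRing C] [Algebra R C] : IsIso (prodK (R := R) B C) := by
  haveI : IsIso (prodK (R := R) B C).left := by
    have hk : (prodK (R := R) B C).left = (pullbackSpecIso R B C).inv := by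
      apply pullback.hom_ext
      · rw [show (prodK (R := R) B C).left ≫ pullback.fst _ _ = (prodK (R := R) B C ≫ fst _ _).left from rfl, prodK,
          lift_fst, spMap_left]
        exact (pullbackSpecIso_inv_fst R B C).symm
      · rw [show (prodK (R := R) B C).left ≫ pullback.snd _ _ = (prodK (R := R) B C ≫ snd _ _).left from rfl, prodK,
          lift_snd, spMap_left]
        exact (pullbackSpecIso_inv_snd R B C).symm
    rw [hk]
    exact Iso.isIso_inv _
  haveI : IsIso ((Over.forget _).map (prodK (R := R) B C)) := inferInstanceAs (IsIso (prodK (R := R) B C).left)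
  exact isIso_of_reflects_iso _ (Over.forget _)

theorem lift_spMap {B C T : Type u} [CommRing B] [Algebra R B] [CommRing C] [Algebra R C] [CommRing T] [Algebra R T]
    (g : B →ₐ[R] T) (x : C →ₐ[R] T) :
    lift (spMap g) (spMap x) = spMap (Algebra.TensorProduct.productMap g x) ≫ prodK B C := by
  rw [prodK, comp_lift, spMap_comp, spMap_comp, Algebra.TensorProduct.productMap_left,
    Algebra.TensorProduct.productMap_right]

/-- **The affine case.** -/
theorem graph_affine {G X : Over (Spec (CommRingCat.of R))} [GrpObj G] [IsAffine X.left]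
    (hG : TwC.Locally (Spec (CommRingCat.of R)) TwC.Topology.fpqc (fun S' f => ∃ (M : Type) (_ : AddCommGroup M),
      Nonempty (Grp.mk (Red.bc f G) ≅ Grp.mk (Red.DS S' M))))
    (a : AlgGrp.Action G X)
    (hfree : ∀ (Y : Over (Spec (CommRingCat.of R))) (g : Y ⟶ G) (x : Y ⟶ X), lift g x ≫ a.act = x → g = 1) :
    IsClosedImmersion (lift a.act (snd G X)).left := by
  obtain ⟨A, _, _, hA, ⟨e⟩⟩ := exists_hopf_of_locally G hG
  let B : Type u := Γ(X.left, ⊤)
  letI : Algebra R B := (Spec.preimage (X.left.isoSpec.inv ≫ X.hom)).hom.toAlgebra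
  let i : X ≅ (Spec (CommRingCat.of B)).asOver (Spec (CommRingCat.of R)) := Over.isoMk X.left.isoSpec (by
    show X.left.isoSpec.hom ≫ Spec.map (CommRingCat.ofHom (algebraMap R B)) = X.hom
    rw [RingHom.algebraMap_toAlgebra, CommRingCat.ofHom_hom, Spec.map_preimage, Iso.hom_inv_id_assoc])
  let k : (specGrp R A).X ⟶ G := e.inv.hom.hom
  haveI : IsMonHom k := inferInstanceAs (IsMonHom e.inv.hom.hom)
  haveI : IsIso k := ((Grp.forget _).mapIso e).isIso_inv
  obtain ⟨ρ, hρ⟩ := exists_spMap (prodK A B ≫ (k ⊗ₘ i.inv) ≫ a.act ≫ i.hom)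
  have hact : ∀ {T : Type u} [CommRing T] [Algebra R T] (g : A →ₐ[R] T) (x : B →ₐ[R] T),
      lift (spMap g ≫ k) (spMap x ≫ i.inv) ≫ a.act = spMap (hopfAct ρ g x) ≫ i.inv := by
    intro T _ _ g x
    rw [← lift_map, lift_spMap, ← spMap_comp, ← hρ]
    simp only [Category.assoc, Iso.hom_inv_id, Category.comp_id]
  have hxinj : ∀ {T : Type u} [CommRing T] [Algebra R T] (x y : B →ₐ[R] T),
      spMap x ≫ i.inv = spMap y ≫ i.inv → x = y := fun x y h => spMap_injective _ _ ((cancel_mono i.inv).1 h)
  have hgone : ∀ (T : Type u) [CommRing T] [Algebra R T],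
      spMap ((Algebra.ofId R T).comp (Bialgebra.counitAlgHom R A)) ≫ k = 1 := by
    intro T _ _
    rw [← MonObj.one_comp k]
    refine congrArg (· ≫ k) ?_
    exact (spMap_eq_pt _).trans ((congrArg pt (ofConv_injective rfl)).trans (map_one Spec.mapMulEquiv))
  have hsurj := surjective_graph_hopf hA ρ
    (fun T _ _ x => hxinj _ _ (by
      rw [← hact, hgone]
      have h1 : lift (1 : _ ⟶ G) (spMap x ≫ i.inv) =
          lift (toUnit _) (spMap x ≫ i.inv) ≫ (η[G] ▷ X) := by
        rw [lift_whiskerRight, Hom.one_def]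
      rw [h1, Category.assoc, a.one_act, lift_leftUnitor_hom]))
    (fun T _ _ g h x => hxinj _ _ (by
      rw [← hact, ← hact g, ← hact h]
      have h2 : spMap (toConv g * toConv h).ofConv ≫ k = (spMap g ≫ k) * (spMap h ≫ k) := by
        rw [← MonObj.mul_comp]
        refine congrArg (· ≫ k) ?_
        rw [spMap_eq_pt, spMap_eq_pt, spMap_eq_pt, toConv_ofConv]
        exact map_mul Spec.mapMulEquiv _ _
      rw [h2, Hom.mul_def, ← lift_whiskerRight, Category.assoc, a.mul_act, lift_lift_associator_hom_assoc,
        lift_whiskerLeft_assoc]))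
    (fun T _ _ g x hgx => by
      have h3 := hfree _ (spMap g ≫ k) (spMap x ≫ i.inv) (by rw [hact, hgx])
      rw [← hgone T] at h3
      exact spMap_injective _ _ ((cancel_mono k).1 h3))
  let Φ := Algebra.TensorProduct.productMap ρ (Algebra.TensorProduct.includeRight : B →ₐ[R] A ⊗[R] B)
  haveI := isIso_prodK (R := R) A B
  haveI := isIso_prodK (R := R) B B
  have hgr : (prodK A B ≫ (k ⊗ₘ i.inv)) ≫ lift a.act (snd G X) = spMap Φ ≫ prodK B B ≫ (i.inv ⊗ₘ i.inv) := by
    rw [← Category.assoc (spMap Φ), ← lift_spMap, lift_map, comp_lift, ← hρ]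
    congr 1
    · simp only [Category.assoc, Iso.hom_inv_id, Category.comp_id]
    · rw [Category.assoc, tensorHom_snd, ← Category.assoc, prodK, lift_snd]
  haveI : IsClosedImmersion (spMap Φ).left :=
    IsClosedImmersion.spec_of_surjective (CommRingCat.ofHom Φ.toRingHom) hsurj
  haveI : IsIso (k ⊗ₘ i.inv) := inferInstance
  haveI : IsIso (prodK A B ≫ (k ⊗ₘ i.inv)).left :=
    inferInstanceAs (IsIso ((Over.forget _).map (prodK A B ≫ (k ⊗ₘ i.inv))))
  haveI : IsIso (prodK B B ≫ (i.inv ⊗ₘ i.inv)).left :=
    inferInstanceAs (IsIso ((Over.forget _).map (prodK B B ≫ (i.inv ⊗ₘ i.inv))))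
  rw [← MorphismProperty.cancel_left_of_respectsIso @IsClosedImmersion (prodK A B ≫ (k ⊗ₘ i.inv)).left,
    ← Over.comp_left, hgr, Over.comp_left, MorphismProperty.cancel_right_of_respectsIso @IsClosedImmersion]
  infer_instance

/-- **Free actions of groups of multiplicative type on affine schemes have closed graph.** -/
theorem graph_closed {S : Scheme.{u}} (G X : Over S) [GrpObj G]
    (hG : TwC.Locally S TwC.Topology.fpqc (fun S' f => ∃ (M : Type) (_ : AddCommGroup M),
      Nonempty (Grp.mk (Red.bc f G) ≅ Grp.mk (Red.DS S' M))))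
    (hX : IsAffineHom X.hom) (a : AlgGrp.Action G X)
    (hfree : ∀ (Y : Over S) (g : Y ⟶ G) (x : Y ⟶ X), lift g x ≫ a.act = x → g = 1) :
    IsClosedImmersion (lift a.act (snd G X)).left := by
  rw [IsZariskiLocalAtTarget.iff_of_openCover (P := @IsClosedImmersion)
    (S.affineOpenCover.openCover.pullback₁ (X ⊗ X).hom)]
  intro i
  let R' : Type u := S.affineOpenCover.X i
  let j : Spec (CommRingCat.of R') ⟶ S := S.affineOpenCover.f i
  haveI := hX
  haveI : IsAffineHom (Red.bc j X).hom := MorphismProperty.pullback_snd _ _ hX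
  haveI : IsAffine (Red.bc j X).left := isAffine_of_isAffineHom (Red.bc j X).hom
  have hfree' : ∀ (Y : Over (Spec (CommRingCat.of R'))) (g : Y ⟶ Red.bc j G) (x : Y ⟶ Red.bc j X),
      lift g x ≫ (a.bc j).act = x → g = 1 := by
    intro Y g x hgx
    have h1 : fromBC j (lift g x ≫ Functor.LaxMonoidal.μ (Over.pullback j) G X) = lift (fromBC j g) (fromBC j x) := by
      apply CartesianMonoidalCategory.hom_ext
      · rw [lift_fst]
        show fromBC j _ ≫ fst G X = _
        rw [← fromBC_comp_map j, Category.assoc, Functor.Monoidal.μ_fst, lift_fst]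
      · rw [lift_snd]
        show fromBC j _ ≫ snd G X = _
        rw [← fromBC_comp_map j, Category.assoc, Functor.Monoidal.μ_snd, lift_snd]
    have h2 := congrArg (fromBC j) hgx
    rw [AlgGrp.Action.bc_act, ← Category.assoc, fromBC_comp_map, h1] at h2
    have h3 := congrArg (toBC j) (hfree _ _ _ h2)
    rwa [toBC_fromBC, ← fromBC_one (X := Y), toBC_fromBC] at h3
  have key : lift (a.bc j).act (snd _ _) ≫ Functor.LaxMonoidal.μ (Over.pullback j) X X =
      Functor.LaxMonoidal.μ (Over.pullback j) G X ≫ (Over.pullback j).map (lift a.act (snd G X)) := by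
    rw [← Functor.Monoidal.lift_μ, comp_lift_assoc, Functor.Monoidal.μ_snd, AlgGrp.Action.bc_act]
  haveI := graph_affine (locally_bc G j hG) (a.bc j) hfree'
  haveI hmap : IsClosedImmersion ((Over.pullback j).map (lift a.act (snd G X))).left := by
    haveI : IsIso (Functor.LaxMonoidal.μ (Over.pullback j) G X).left :=
      inferInstanceAs (IsIso ((Over.forget _).map (Functor.LaxMonoidal.μ (Over.pullback j) G X)))
    haveI : IsIso (Functor.LaxMonoidal.μ (Over.pullback j) X X).left :=
      inferInstanceAs (IsIso ((Over.forget _).map (Functor.LaxMonoidal.μ (Over.pullback j) X X)))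
    rw [← MorphismProperty.cancel_left_of_respectsIso @IsClosedImmersion
      (Functor.LaxMonoidal.μ (Over.pullback j) G X).left, ← Over.comp_left, ← key, Over.comp_left]
    infer_instance
  have sq : IsPullback (pullback.fst (G ⊗ X).hom j) ((Over.pullback j).map (lift a.act (snd G X))).left
      (lift a.act (snd G X)).left (pullback.fst (X ⊗ X).hom j) := by
    refine IsPullback.of_bot ?_ (pullback.lift_fst _ _ _).symm (IsPullback.of_hasPullback (X ⊗ X).hom j)
    rw [Over.w (lift a.act (snd G X))]
    have h := IsPullback.of_hasPullback (G ⊗ X).hom j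
    rwa [← show ((Over.pullback j).map (lift a.act (snd G X))).left ≫ pullback.snd (X ⊗ X).hom j =
      pullback.snd (G ⊗ X).hom j from Over.w ((Over.pullback j).map (lift a.act (snd G X)))] at h
  show IsClosedImmersion (pullback.snd (lift a.act (snd G X)).left (pullback.fst (X ⊗ X).hom j))
  rw [← sq.isoPullback_inv_snd]
  infer_instance

end Groth.Agent.MTBridge
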