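import Groth.Agent.MTBridge.TrivAct
import Mathlib

/-!
# Free actions of diagonalisable groups on affine schemes: the graph is closed
-/

set_option autoImplicit false
set_option maxHeartbeats 1000000
set_option synthInstance.maxHeartbeats 400000

universe u v

open MonoidAlgebra TensorProduct

noncomputable section

namespace Groth.Agent.MTBridge

variable {R : Type u} [CommRing R] {B : Type u} [CommRing B] [Algebra R B] {M : Type v} [CommGroup M]

/-- **A free grading has surjective graph.** -/
theorem surjective_graph_of_free (ψ : B →ₐ[R] MonoidAlgebra B M)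
    (h1 : evAct ψ (1 : M →* B) (AlgHom.id R B) = AlgHom.id R B)
    (h2 : ∀ (g h : M →* MonoidAlgebra (MonoidAlgebra B M) M) (x : B →ₐ[R] MonoidAlgebra (MonoidAlgebra B M) M),
      evAct ψ (g * h) x = evAct ψ g (evAct ψ h x))
    (hfree : ∀ (T : Type (max u v)) [CommRing T] [Algebra R T] (g : M →* T) (x : B →ₐ[R] T),
      evAct ψ g x = x → g = 1) :
    Function.Surjective (Algebra.TensorProduct.productMap ψ (singleOneAlgHom : B →ₐ[R] MonoidAlgebra B M)) := by
  classical
  let p : M → B →ₗ[R] B := fun m =>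
    ((Finsupp.lapply m).comp (coeffLinearEquiv R).toLinearMap).comp ψ.toLinearMap
  have hp : ∀ m b, p m b = (ψ b).coeff m := fun m b => rfl
  -- coefficients of a coefficient
  have hψp : ∀ k b, ψ (p k b) = single k (p k b) := by
    intro k b
    let W := MonoidAlgebra B M
    let inW : W →ₐ[R] MonoidAlgebra W M := singleOneAlgHom
    have e := h2 (MonoidAlgebra.of W M) ((inW : W →* MonoidAlgebra W M).comp (MonoidAlgebra.of B M))
      (inW.comp singleOneAlgHom)
    have e1 : evAct ψ ((inW : W →* MonoidAlgebra W M).comp (MonoidAlgebra.of B M)) (inW.comp singleOneAlgHom) =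
        inW.comp ψ := by
      refine congrArg (fun f => AlgHom.comp f ψ) (MonoidAlgebra.algHom_ext (fun l => ?_) ?_)
      · simp [liftNCAlgHom, liftNCRingHom, singleOneAlgHom, MonoidAlgebra.of, ← MonoidAlgebra.one_def]
      · ext c
        simp [liftNCAlgHom, liftNCRingHom, singleOneAlgHom, MonoidAlgebra.of, ← MonoidAlgebra.one_def]
    rw [e1] at e
    have e2 := congrArg (fun f : B →ₐ[R] MonoidAlgebra W M => (f b).coeff k) e
    simp only [evAct_apply, MonoidHom.mul_apply] at e2
    have l : (((ψ b).coeff.sum fun j c => (inW.comp singleOneAlgHom) c *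
        (MonoidAlgebra.of W M j * ((inW : W →* MonoidAlgebra W M).comp (MonoidAlgebra.of B M)) j))).coeff k =
          single k (p k b) := by
      rw [hp, Finsupp.sum, coeff_sum, Finsupp.finsetSum_apply, Finset.sum_eq_single k]
      · simp [inW, singleOneAlgHom, MonoidAlgebra.of, single_mul_single]
        exact (single_mul_single ..).trans (by simp)
      · intro j _ hj
        simp [inW, singleOneAlgHom, MonoidAlgebra.of, single_mul_single, hj]
      · intro hk
        simp [inW, singleOneAlgHom, MonoidAlgebra.of, single_mul_single, Finsupp.notMem_support_iff.1 hk]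
    have r : (((ψ b).coeff.sum fun j c => (inW.comp ψ) c * MonoidAlgebra.of W M j)).coeff k = ψ (p k b) := by
      rw [hp, Finsupp.sum, coeff_sum, Finsupp.finsetSum_apply, Finset.sum_eq_single k]
      · simp [inW, singleOneAlgHom, MonoidAlgebra.of, single_mul_single]
      · intro j _ hj
        simp [inW, singleOneAlgHom, MonoidAlgebra.of, single_mul_single, hj]
      · intro hk
        simp [inW, singleOneAlgHom, MonoidAlgebra.of, single_mul_single, Finsupp.notMem_support_iff.1 hk]
    exact r.symm.trans (e2.symm.trans l)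
  have hsum : ∀ b, (ψ b).coeff.sum (fun _ c => c) = b := fun b => by
    have e := AlgHom.congr_fun h1 b
    simpa [evAct_apply] using e
  let Φ := Algebra.TensorProduct.productMap ψ (singleOneAlgHom : B →ₐ[R] MonoidAlgebra B M)
  have hmem1 : ∀ b, single (1 : M) b ∈ Φ.range := fun b => ⟨1 ⊗ₜ b, by simp [Φ, singleOneAlgHom]⟩
  have hmem2 : ∀ b, ψ b ∈ Φ.range := fun b => ⟨b ⊗ₜ 1, by simp [Φ, ← MonoidAlgebra.one_def]⟩
  suffices key : ∀ m : M, single m (1 : B) ∈ Φ.range by
    intro z
    have hz : z ∈ Φ.range := by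
      induction z using MonoidAlgebra.induction_linear with
      | zero => exact zero_mem _
      | add x y hx hy => exact add_mem hx hy
      | single m c =>
        rw [show single m c = single (1 : M) c * single m (1 : B) by simp [single_mul_single]]
        exact mul_mem (hmem1 c) (key m)
    exact hz
  intro m
  let I : Ideal B :=
    { carrier := {c | single m c ∈ Φ.range}
      add_mem' := fun {a b} ha hb => by
        show single m (a + b) ∈ Φ.range
        rw [MonoidAlgebra.single_add]; exact add_mem ha hb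
      zero_mem' := by
        show single m (0 : B) ∈ Φ.range
        rw [MonoidAlgebra.single_zero]; exact zero_mem _
      smul_mem' := fun c x hx => by
        show single m (c * x) ∈ Φ.range
        rw [show single m (c * x) = single (1 : M) c * single m x by simp [single_mul_single]]
        exact mul_mem (hmem1 c) hx }
  let J₀ : Ideal B := Ideal.span (Set.range (p m))
  suffices hJ : J₀ = ⊤ by
    have hle : J₀ ≤ I := Ideal.span_le.2 (by
      rintro _ ⟨b, rfl⟩
      show single m (p m b) ∈ Φ.range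
      rw [← hψp]; exact hmem2 _)
    exact hle (hJ ▸ Submodule.mem_top : (1 : B) ∈ J₀)
  by_contra hJ
  -- multiplicativity with homogeneous elements
  have hmul : ∀ (d n : M) (c y : B), ψ c = single d c → p n (c * y) = c * p (d⁻¹ * n) y := by
    intro d n c y hc
    rw [hp, hp, map_mul, hc, MonoidAlgebra.coeff_single_mul_apply]
  let Gr : Ideal B → Prop := fun q => ∀ n, ∀ b ∈ q, p n b ∈ q
  have hspan : ∀ (S : Set B), (∀ c ∈ S, ∃ d, ψ c = single d c) → Gr (Ideal.span S) := by
    intro S hS n b hb
    induction hb using Submodule.span_induction generalizing n with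
    | mem c hc =>
      obtain ⟨d, hd⟩ := hS c hc
      rw [hp, hd, MonoidAlgebra.coeff_single, Finsupp.single_apply]
      split_ifs
      · exact Ideal.subset_span hc
      · exact zero_mem _
    | zero => rw [map_zero]; exact zero_mem _
    | add x y _ _ hx hy => rw [map_add]; exact add_mem (hx n) (hy n)
    | smul r x _ hx =>
      rw [smul_eq_mul, hp, map_mul ψ, MonoidAlgebra.coeff_mul, Finsupp.sum]
      refine Ideal.sum_mem _ fun i _ => ?_
      rw [Finsupp.sum]
      refine Ideal.sum_mem _ fun j _ => ?_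
      split_ifs
      · exact Ideal.mul_mem_left _ _ (hx j)
      · exact zero_mem _
  have hJ₀ : Gr J₀ := hspan _ (by rintro _ ⟨b, rfl⟩; exact ⟨m, hψp m b⟩)
  obtain ⟨q, hJq, ⟨hqg, hqne⟩, hmax⟩ : ∃ q, J₀ ≤ q ∧ (Gr q ∧ q ≠ ⊤) ∧
      ∀ q', Gr q' ∧ q' ≠ ⊤ → q ≤ q' → q' ≤ q := by
    obtain ⟨q, hle, hq⟩ := zorn_le_nonempty₀ {q : Ideal B | Gr q ∧ q ≠ ⊤} (fun c hc hchain y hy => by
      refine ⟨sSup c, ⟨fun n b hb => ?_, fun htop => ?_⟩, fun z hz => le_sSup hz⟩
      · obtain ⟨z, hz, hbz⟩ := (Submodule.mem_sSup_of_directed ⟨y, hy⟩ hchain.directedOn).1 hb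
        exact le_sSup hz ((hc hz).1 n b hbz)
      · rw [Ideal.eq_top_iff_one] at htop
        obtain ⟨z, hz, h1z⟩ := (Submodule.mem_sSup_of_directed ⟨y, hy⟩ hchain.directedOn).1 htop
        exact (hc hz).2 ((Ideal.eq_top_iff_one z).2 h1z)) J₀ ⟨hJ₀, hJ⟩
    exact ⟨q, hle, hq.1, fun q' hq' hle' => hq.2 hq' hle'⟩
  -- nonzero homogeneous elements are units modulo q
  have hunit : ∀ d b, p d b ∉ q → ∃ y, p d b * p d⁻¹ y - 1 ∈ q := by
    intro d b hb
    let c := p d b
    have hsup : q ⊔ Ideal.span {c} = ⊤ := by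
      by_contra hne
      have hg : Gr (q ⊔ Ideal.span {c}) := fun n x hx => by
        obtain ⟨t, ht, s, hs, rfl⟩ := Submodule.mem_sup.1 hx
        rw [map_add]
        refine Submodule.add_mem_sup (hqg n t ht) (hspan {c} ?_ n s hs)
        rintro _ rfl
        exact ⟨d, hψp d b⟩
      exact hb (hmax _ ⟨hg, hne⟩ le_sup_left (Submodule.mem_sup_right (Ideal.mem_span_singleton_self c)))
    obtain ⟨t, ht, s, hs, hts⟩ := Submodule.mem_sup.1 ((Ideal.eq_top_iff_one _).1 hsup)
    obtain ⟨y, rfl⟩ := Ideal.mem_span_singleton'.1 hs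
    have h1' : p (1 : M) (1 : B) = 1 := by simp [hp, MonoidAlgebra.one_def]
    refine ⟨y, ?_⟩
    have := congrArg (p 1) hts
    rw [map_add, h1', mul_comm y, hmul d 1 c y (hψp d b), mul_one] at this
    rw [show p d b * p d⁻¹ y - 1 = -(p (1 : M) t) by linear_combination this]
    exact neg_mem (hqg 1 t ht)
  let H : Subgroup M :=
    { carrier := {n | ∃ b, p n b ∉ q}
      one_mem' := ⟨1, by
        simp only [hp, map_one, MonoidAlgebra.one_def, MonoidAlgebra.coeff_single, Finsupp.single_eq_same]
        exact fun h => hqne ((Ideal.eq_top_iff_one q).2 h)⟩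
      mul_mem' := fun {a a'} ⟨b, hb⟩ ⟨b', hb'⟩ => by
        refine ⟨p a b * p a' b', fun h => hb' ?_⟩
        rw [hp, map_mul ψ, hψp, hψp, single_mul_single, MonoidAlgebra.coeff_single, Finsupp.single_eq_same] at h
        obtain ⟨y, hy⟩ := hunit a b hb
        have : p a' b' = p a⁻¹ y * (p a b * p a' b') - p a' b' * (p a b * p a⁻¹ y - 1) := by ring
        rw [this]
        exact sub_mem (Ideal.mul_mem_left _ _ h) (Ideal.mul_mem_left _ _ hy)
      inv_mem' := fun {a} ⟨b, hb⟩ => by
        obtain ⟨y, hy⟩ := hunit a b hb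
        refine ⟨y, fun h => hqne ((Ideal.eq_top_iff_one q).2 ?_)⟩
        rw [show (1 : B) = p a b * p a⁻¹ y - (p a b * p a⁻¹ y - 1) by ring]
        exact sub_mem (Ideal.mul_mem_left _ _ h) hy }
  have hm : m ∉ H := fun ⟨b, hb⟩ => hb (hJq (Ideal.subset_span ⟨b, rfl⟩))
  haveI : Nontrivial (B ⧸ q) := Ideal.Quotient.nontrivial_iff.2 hqne
  let π : M →* M ⧸ H := QuotientGroup.mk' H
  let g : M →* MonoidAlgebra (B ⧸ q) (M ⧸ H) := (MonoidAlgebra.of (B ⧸ q) (M ⧸ H)).comp π
  let x : B →ₐ[R] MonoidAlgebra (B ⧸ q) (M ⧸ H) := singleOneAlgHom.comp (Ideal.Quotient.mkₐ R q)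
  have hfix : evAct ψ g x = x := by
    refine AlgHom.ext fun b => ?_
    rw [evAct_apply]
    conv_rhs => rw [← hsum b, Finsupp.sum, map_sum]
    refine Finset.sum_congr rfl fun n _ => ?_
    by_cases hn : (ψ b).coeff n ∈ q
    · have hx0 : x ((ψ b).coeff n) = 0 := by simp [x, Ideal.Quotient.eq_zero_iff_mem.2 hn]
      show x _ * g n = x _
      rw [hx0, zero_mul]
    · have hπ : π n = 1 := (QuotientGroup.eq_one_iff n).2 ⟨b, hn⟩
      simp [g, hπ, ← MonoidAlgebra.one_def]
  have hg := DFunLike.congr_fun (hfree _ g x hfix) m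
  simp only [g, MonoidHom.comp_apply, MonoidAlgebra.of_apply, MonoidHom.one_apply, MonoidAlgebra.one_def] at hg
  have h3 := congrArg (fun z : MonoidAlgebra (B ⧸ q) (M ⧸ H) => z.coeff (π m)) hg
  simp only [MonoidAlgebra.coeff_single, Finsupp.single_eq_same, Finsupp.single_apply] at h3
  split_ifs at h3 with h4
  · exact hm ((QuotientGroup.eq_one_iff m).1 h4.symm)
  · exact one_ne_zero h3

end Groth.Agent.MTBridge
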