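import Groth.Agent.MTBridge.FreeGrading
import Groth.Agent.MultT.Basic2
import Groth.Agent.MultT.NilLift
import Mathlib

/-!
# Free coactions of Hopf algebras of multiplicative type have surjective graph
-/

set_option autoImplicit false
set_option linter.style.haveILetI false
set_option backward.isDefEq.respectTransparency false
set_option maxHeartbeats 2000000
set_option synthInstance.maxHeartbeats 400000

universe u

open TensorProduct WithConv MonoidAlgebra

noncomputable section

namespace Groth.Agent.MTBridge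

variable {R A B : Type u} [CommRing R] [CommRing A] [HopfAlgebra R A] [CommRing B] [Algebra R B]

/-- The value of a coaction at a pair of points. -/
abbrev hopfAct (ρ : B →ₐ[R] A ⊗[R] B) {T : Type u} [CommRing T] [Algebra R T] (g : A →ₐ[R] T) (x : B →ₐ[R] T) :
    B →ₐ[R] T :=
  (Algebra.TensorProduct.productMap g x).comp ρ

/-- **Free coactions of Hopf algebras of multiplicative type have surjective graph.** -/
theorem surjective_graph_hopf (hA : SGA3b.IsMultType R A) (ρ : B →ₐ[R] A ⊗[R] B)
    (hone : ∀ (T : Type u) [CommRing T] [Algebra R T] (x : B →ₐ[R] T),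
      hopfAct ρ ((Algebra.ofId R T).comp (Bialgebra.counitAlgHom R A)) x = x)
    (hmul : ∀ (T : Type u) [CommRing T] [Algebra R T] (g h : A →ₐ[R] T) (x : B →ₐ[R] T),
      hopfAct ρ (toConv g * toConv h).ofConv x = hopfAct ρ g (hopfAct ρ h x))
    (hfree : ∀ (T : Type u) [CommRing T] [Algebra R T] (g : A →ₐ[R] T) (x : B →ₐ[R] T),
      hopfAct ρ g x = x → g = (Algebra.ofId R T).comp (Bialgebra.counitAlgHom R A)) :
    Function.Surjective (Algebra.TensorProduct.productMap ρ
      (Algebra.TensorProduct.includeRight : B →ₐ[R] A ⊗[R] B)) := by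
  classical
  let Φ := Algebra.TensorProduct.productMap ρ (Algebra.TensorProduct.includeRight : B →ₐ[R] A ⊗[R] B)
  obtain ⟨ι, _, c, hc, hcov⟩ := Groth.Agent.MultT.exists_finite_charts hA
  let N := (A ⊗[R] B) ⧸ LinearMap.range Φ.toLinearMap
  suffices h0 : ∀ z : N, z = 0 by
    intro w
    have := (Submodule.Quotient.mk_eq_zero _).1 (h0 (Submodule.Quotient.mk w))
    exact this
  intro z
  refine Groth.Agent.MultT.eq_zero_of_cover c hc hcov z fun i => ?_
  obtain ⟨w, rfl⟩ := Submodule.Quotient.mk_surjective _ z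
  let S := (c i).S
  suffices hs : Function.Surjective (Φ.toLinearMap.lTensor S) by
    obtain ⟨v, hv⟩ := hs (1 ⊗ₜ w)
    have hz : ∀ v : S ⊗[R] (B ⊗[R] B),
        (LinearMap.range Φ.toLinearMap).mkQ.lTensor S (Φ.toLinearMap.lTensor S v) = 0 := fun v => by
      rw [← LinearMap.comp_apply, ← LinearMap.lTensor_comp, LinearMap.range_mkQ_comp, LinearMap.lTensor_zero]
      rfl
    have := hz v
    rw [hv] at this
    simpa using this
  let M := (c i).M
  obtain ⟨e⟩ := (c i).exists_bialgEquiv S
  let B' := S ⊗[R] B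
  letI icB : CommRing B' := Algebra.TensorProduct.instCommRing
  letI icW : CommRing (MonoidAlgebra B' M) := MonoidAlgebra.commRing
  let iB : B →ₐ[R] B' := Algebra.TensorProduct.includeRight
  let θ₀ : S ⊗[R] A →ₐ[S] MonoidAlgebra B' M :=
    (MonoidAlgebra.mapAlgHom M (Algebra.ofId S B')).comp (e : S ⊗[R] A →ₐ[S] MonoidAlgebra S M)
  let θ : A →ₐ[R] MonoidAlgebra B' M := (θ₀.restrictScalars R).comp Algebra.TensorProduct.includeRight
  let sB : B →ₐ[R] MonoidAlgebra B' M :=
    ((singleOneAlgHom : B' →ₐ[S] MonoidAlgebra B' M).restrictScalars R).comp iB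
  let ψ : B' →ₐ[S] MonoidAlgebra B' M :=
    Algebra.TensorProduct.lift (Algebra.ofId S _) (hopfAct ρ θ sB) fun _ _ => Commute.all _ _
  -- translation of points
  let gχ : ∀ {T : Type u} [CommRing T] [Algebra R T] [Algebra S T] [IsScalarTower R S T], (M →* T) → (A →ₐ[R] T) :=
    fun {T} _ _ _ _ χ => (((MonoidAlgebra.lift S T M χ).comp (e : S ⊗[R] A →ₐ[S] MonoidAlgebra S M)).restrictScalars R).comp
      Algebra.TensorProduct.includeRight
  have hev : ∀ {T : Type u} [CommRing T] [Algebra R T] [Algebra S T] [IsScalarTower R S T] (χ : M →* T)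
      (x : B' →ₐ[S] T), ((evAct ψ χ x).restrictScalars R).comp iB =
        hopfAct ρ (gχ χ) ((x.restrictScalars R).comp iB) := by
    intro T _ _ _ _ χ x
    let Λ : MonoidAlgebra B' M →ₐ[S] T := MonoidAlgebra.liftNCAlgHom x χ fun _ _ => Commute.all _ _
    have h1 : (Λ.restrictScalars R).comp θ = gχ χ := by
      have : Λ.comp (MonoidAlgebra.mapAlgHom M (Algebra.ofId S B')) = MonoidAlgebra.lift S T M χ :=
        MonoidAlgebra.algHom_ext (fun k => by simp [Λ, MonoidAlgebra.liftNCAlgHom, MonoidAlgebra.liftNCRingHom]) (by ext)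
      show (((Λ.comp (MonoidAlgebra.mapAlgHom M (Algebra.ofId S B'))).comp
        (e : S ⊗[R] A →ₐ[S] MonoidAlgebra S M)).restrictScalars R).comp _ = _
      rw [this]
    have h2 : (Λ.restrictScalars R).comp sB = (x.restrictScalars R).comp iB := AlgHom.ext fun b => by
      simp [Λ, sB, MonoidAlgebra.liftNCAlgHom, MonoidAlgebra.liftNCRingHom, singleOneAlgHom]
    rw [← h1, ← h2]
    refine AlgHom.ext fun b => ?_
    show Λ (ψ (1 ⊗ₜ b)) = _
    rw [show ψ (1 ⊗ₜ b) = hopfAct ρ θ sB b by
      show Algebra.TensorProduct.lift (Algebra.ofId S _) (hopfAct ρ θ sB) _ (1 ⊗ₜ b) = _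
      rw [Algebra.TensorProduct.lift_tmul, map_one, one_mul]]
    show Λ (Algebra.TensorProduct.productMap θ sB (ρ b)) =
      Algebra.TensorProduct.productMap ((Λ.restrictScalars R).comp θ) ((Λ.restrictScalars R).comp sB) (ρ b)
    induction ρ b using TensorProduct.induction_on with
    | zero => simp
    | add p q hp hq => simp only [map_add, hp, hq]
    | tmul p q => simp
  have hext : ∀ {T : Type u} [CommRing T] [Algebra R T] [Algebra S T] [IsScalarTower R S T]
      (x y : B' →ₐ[S] T), (x.restrictScalars R).comp iB = (y.restrictScalars R).comp iB → x = y := by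
    intro T _ _ _ _ x y h
    exact Algebra.TensorProduct.ext (Subsingleton.elim _ _) h
  have hg1 : ∀ {T : Type u} [CommRing T] [Algebra R T] [Algebra S T] [IsScalarTower R S T],
      gχ (1 : M →* T) = (Algebra.ofId R T).comp (Bialgebra.counitAlgHom R A) := by
    intro T _ _ _ _
    refine AlgHom.ext fun a => ?_
    have h1 : ∀ w : MonoidAlgebra S M, MonoidAlgebra.lift S T M (1 : M →* T) w = algebraMap S T (Coalgebra.counit w) := by
      intro w
      induction w using MonoidAlgebra.induction_linear with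
      | zero => simp
      | add p q hp hq => simp only [map_add, hp, hq]
      | single l s => simp [Algebra.smul_def]
    show MonoidAlgebra.lift S T M (1 : M →* T) (e ((1 : S) ⊗ₜ[R] a)) = algebraMap R T (Coalgebra.counit a)
    rw [h1, CoalgHomClass.counit_comp_apply, TensorProduct.counit_tmul]
    simp [Algebra.smul_def, IsScalarTower.algebraMap_apply R S T]
  have hgmul : ∀ {T : Type u} [CommRing T] [Algebra R T] [Algebra S T] [IsScalarTower R S T] (χ χ' : M →* T),
      gχ (χ * χ') = (toConv (gχ χ) * toConv (gχ χ')).ofConv := by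
    intro T _ _ _ _ χ χ'
    have h1 : ∀ w : MonoidAlgebra S M, MonoidAlgebra.lift S T M (χ * χ') w =
        Algebra.TensorProduct.productMap (MonoidAlgebra.lift S T M χ) (MonoidAlgebra.lift S T M χ') (Coalgebra.comul w) := by
      intro w
      induction w using MonoidAlgebra.induction_linear with
      | zero => simp
      | add p q hp hq => simp only [map_add, hp, hq]
      | single l s => simp [MonoidAlgebra.comul_single, mul_assoc]
    refine AlgHom.ext fun a => ?_
    show MonoidAlgebra.lift S T M (χ * χ') (e ((1 : S) ⊗ₜ[R] a)) = _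
    rw [h1, ← CoalgHomClass.map_comp_comul_apply, AlgHom.convMul_apply, TensorProduct.comul_tmul,
      CommSemiring.comul_apply]
    simp only [ofConv_toConv]
    induction Coalgebra.comul (R := R) a using TensorProduct.induction_on with
    | zero => simp
    | add p q hp hq => simp only [map_add, TensorProduct.tmul_add, hp, hq]
    | tmul p q =>
      simp [gχ]
      rfl
  have h1' : evAct ψ (1 : M →* B') (AlgHom.id S B') = AlgHom.id S B' := by
    refine hext _ _ ?_
    rw [hev, hg1, hone]
  have h2' : ∀ (g h : M →* MonoidAlgebra (MonoidAlgebra B' M) M) (x : B' →ₐ[S] MonoidAlgebra (MonoidAlgebra B' M) M),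
      evAct ψ (g * h) x = evAct ψ g (evAct ψ h x) := by
    intro g h x
    refine hext _ _ ?_
    rw [hev, hgmul, hmul, hev, hev]
  have hfree' : ∀ (T : Type u) [CommRing T] [Algebra S T] (g : M →* T) (x : B' →ₐ[S] T),
      evAct ψ g x = x → g = 1 := by
    intro T _ _ g x hgx
    letI : Algebra R T := Algebra.compHom T (algebraMap R S)
    haveI : IsScalarTower R S T := .of_algebraMap_eq fun _ => rfl
    have h := hfree T (gχ g) ((x.restrictScalars R).comp iB) (by rw [← hev, hgx])
    rw [← hg1] at h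
    have h' : (MonoidAlgebra.lift S T M g).comp (e : S ⊗[R] A →ₐ[S] MonoidAlgebra S M) =
        (MonoidAlgebra.lift S T M 1).comp (e : S ⊗[R] A →ₐ[S] MonoidAlgebra S M) :=
      Algebra.TensorProduct.ext (Subsingleton.elim _ _) h
    refine MonoidHom.ext fun m => ?_
    obtain ⟨w, hw⟩ := e.surjective (MonoidAlgebra.single m 1)
    have h'' : MonoidAlgebra.lift S T M g (e w) = MonoidAlgebra.lift S T M 1 (e w) := AlgHom.congr_fun h' w
    rw [show e w = MonoidAlgebra.single m 1 from hw] at h''
    simpa using h''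
  have hsurj := surjective_graph_of_free ψ h1' h2' hfree'
  -- compare with the base change
  let L : A ⊗[R] B →ₐ[R] MonoidAlgebra B' M := Algebra.TensorProduct.productMap θ sB
  let κ : S ⊗[R] (A ⊗[R] B) →ₐ[S] MonoidAlgebra B' M :=
    Algebra.TensorProduct.lift (Algebra.ofId S _) L fun _ _ => Commute.all _ _
  let inA : S ⊗[R] A →ₐ[S] S ⊗[R] (A ⊗[R] B) :=
    Algebra.TensorProduct.map (AlgHom.id S S) (Algebra.TensorProduct.includeLeft : A →ₐ[R] A ⊗[R] B)
  let inB : B' →ₐ[S] S ⊗[R] (A ⊗[R] B) :=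
    Algebra.TensorProduct.map (AlgHom.id S S) (Algebra.TensorProduct.includeRight : B →ₐ[R] A ⊗[R] B)
  let ν₀ : MonoidAlgebra S M →ₐ[S] S ⊗[R] (A ⊗[R] B) := inA.comp (e.toAlgEquiv.symm : MonoidAlgebra S M →ₐ[S] S ⊗[R] A)
  let ν : MonoidAlgebra B' M →ₐ[S] S ⊗[R] (A ⊗[R] B) :=
    MonoidAlgebra.liftNCAlgHom inB ((ν₀ : MonoidAlgebra S M →* _).comp (MonoidAlgebra.of S M)) fun _ _ => Commute.all _ _
  have hν : ν.comp κ = AlgHom.id S _ := by
    refine Algebra.TensorProduct.ext (Subsingleton.elim _ _) (Algebra.TensorProduct.ext ?_ ?_)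
    · refine AlgHom.ext fun a => ?_
      show ν (κ (1 ⊗ₜ (a ⊗ₜ 1))) = 1 ⊗ₜ (a ⊗ₜ 1)
      simp only [κ, Algebra.TensorProduct.lift_tmul, map_one, one_mul, L, Algebra.TensorProduct.productMap_apply_tmul,
        mul_one]
      have h3 : ν.comp (MonoidAlgebra.mapAlgHom M (Algebra.ofId S B')) = ν₀ :=
        MonoidAlgebra.algHom_ext (fun k => by simp [ν, MonoidAlgebra.liftNCAlgHom, MonoidAlgebra.liftNCRingHom]) (by ext)
      show ν (MonoidAlgebra.mapAlgHom M (Algebra.ofId S B') (e ((1 : S) ⊗ₜ[R] a))) = _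
      rw [← AlgHom.comp_apply ν, h3]
      show inA (e.toAlgEquiv.symm (e.toAlgEquiv ((1 : S) ⊗ₜ[R] a))) = _
      rw [AlgEquiv.symm_apply_apply]
      simp [inA]
    · refine AlgHom.ext fun b => ?_
      show ν (κ (1 ⊗ₜ (1 ⊗ₜ b))) = 1 ⊗ₜ (1 ⊗ₜ b)
      simp [κ, L, ν, sB, iB, inB, MonoidAlgebra.liftNCAlgHom, MonoidAlgebra.liftNCRingHom, singleOneAlgHom]
      rw [show ν₀ (MonoidAlgebra.single (1 : M) 1) = 1 from map_one ν₀, mul_one,
        Algebra.TensorProduct.includeRight_apply, Algebra.TensorProduct.map_tmul]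
      rfl
  have hinj : Function.Injective κ := fun p q h => by
    simpa using (AlgHom.congr_fun hν p).symm.trans ((congrArg ν h).trans (AlgHom.congr_fun hν q))
  let Φ' : S ⊗[R] (B ⊗[R] B) →ₐ[S] S ⊗[R] (A ⊗[R] B) := Algebra.TensorProduct.map (AlgHom.id S S) Φ
  have hκb : ∀ b : B', κ (Φ' (Algebra.TensorProduct.map (AlgHom.id S S)
      (Algebra.TensorProduct.includeLeft : B →ₐ[R] B ⊗[R] B) b)) = ψ b := by
    intro b
    induction b using TensorProduct.induction_on with
    | zero => simp
    | add p q hp hq => simp only [map_add, hp, hq]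
    | tmul s b =>
      simp [κ, Φ', Φ, ψ, L]
      erw [Algebra.TensorProduct.lift_tmul]
      simp [Algebra.ofId_apply, MonoidAlgebra.coe_algebraMap]
  have hκc : ∀ b : B', κ (Φ' (Algebra.TensorProduct.map (AlgHom.id S S)
      (Algebra.TensorProduct.includeRight : B →ₐ[R] B ⊗[R] B) b)) = (singleOneAlgHom : B' →ₐ[S] MonoidAlgebra B' M) b := by
    intro b
    induction b using TensorProduct.induction_on with
    | zero => simp
    | add p q hp hq => simp only [map_add, hp, hq]
    | tmul s b =>
      simp [κ, Φ', Φ, L, sB, iB, singleOneAlgHom, Algebra.ofId_apply, MonoidAlgebra.coe_algebraMap, single_mul_single,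
        Algebra.TensorProduct.algebraMap_apply]
      show (s ⊗ₜ[R] (1 : B)) * ((1 : S) ⊗ₜ[R] b) = s ⊗ₜ[R] b
      simp
  intro y
  obtain ⟨x, hx⟩ := hsurj (κ y)
  have hall : ∀ x : B' ⊗[S] B', ∃ v, κ (Φ' v) = Algebra.TensorProduct.productMap ψ singleOneAlgHom x := by
    intro x
    induction x using TensorProduct.induction_on with
    | zero => exact ⟨0, by simp⟩
    | add p q hp hq =>
      obtain ⟨v, hv⟩ := hp; obtain ⟨v', hv'⟩ := hq
      exact ⟨v + v', by simp only [map_add, hv, hv']⟩
    | tmul p q =>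
      refine ⟨Algebra.TensorProduct.map (AlgHom.id S S) (Algebra.TensorProduct.includeLeft : B →ₐ[R] B ⊗[R] B) p *
        Algebra.TensorProduct.map (AlgHom.id S S) (Algebra.TensorProduct.includeRight : B →ₐ[R] B ⊗[R] B) q, ?_⟩
      rw [map_mul, map_mul, hκb, hκc, Algebra.TensorProduct.productMap_apply_tmul]
  obtain ⟨v, hv⟩ := hall x
  exact ⟨v, hinj (hv.trans hx)⟩

end Groth.Agent.MTBridge
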