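import Groth.Agent.MTBridge.Factor
import Groth.Agent.MTBridge.CharLift
import Groth.Agent.MultT.AlgFP
import Groth.Agent.LimDesc.FPCancel
import Mathlib

/-!
# Inclusion of subgroups of multiplicative type over a local base
-/

set_option autoImplicit false
set_option linter.style.haveILetI false
set_option linter.unusedSectionVars false
set_option backward.isDefEq.respectTransparency false
set_option maxHeartbeats 1000000
set_option synthInstance.maxHeartbeats 400000

universe u

open CategoryTheory Limits MonoidalCategory CartesianMonoidalCategory AlgebraicGeometry TensorProduct Opposite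
open TopologicalSpace WithConv
open scoped CategoryTheory.Obj MonObj

noncomputable section

namespace Groth.Agent.MTBridge

variable {R A A' : Type u} [CommRing R] [CommRing A] [HopfAlgebra R A] [CommRing A'] [HopfAlgebra R A']
  {G : Over (Spec (CommRingCat.of R))} [GrpObj G]

/-- A chart around the unit point of a local ring. -/
theorem exists_unit_chart (B : Type u) [CommRing B] [Algebra R B] [IsLocalRing B] :
    ∃ (C : Type u) (_ : CommRing C) (c : Spec (CommRingCat.of C) ⟶ G.left) (_ : IsOpenImmersion c) (θe : C →+* B),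
      IsChart c (1 : Pt G B) θe ∧ (LocallyOfFiniteType G.hom →
        ∃ G₀ : Finset C, Subring.closure ((G₀ : Set C) ∪ Set.range (Spec.preimage (c ≫ G.hom)).hom) = ⊤) := by
  let e : Pt G B := 1
  let cl : ↥(Spec (CommRingCat.of B)) := IsLocalRing.closedPoint B
  obtain ⟨U, hU, hclU, -⟩ := exists_isAffineOpen_mem_and_subset (x := e.left cl) (U := ⊤) trivial
  let C : Type u := Γ(G.left, U)
  let c : Spec (CommRingCat.of C) ⟶ G.left := hU.fromSpec
  have hr : Set.range e.left ⊆ Set.range c := by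
    rintro _ ⟨z, rfl⟩
    rw [show Set.range c = (U : Set G.left) from hU.range_fromSpec]
    exact ((IsLocalRing.specializes_closedPoint (z : PrimeSpectrum B)).map e.left.continuous).mem_open U.2 hclU
  let θe : C →+* B := (Spec.preimage (IsOpenImmersion.lift c e.left hr)).hom
  refine ⟨C, inferInstance, c, inferInstance, θe, ?_, fun _ => ?_⟩
  · show e.left = _
    rw [CommRingCat.ofHom_hom, Spec.map_preimage, IsOpenImmersion.lift_fac]
  · have h1 : (Spec.preimage (c ≫ G.hom)).hom.FiniteType := by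
      refine (HasRingHomProperty.Spec_iff (P := @LocallyOfFiniteType)).1 ?_
      rw [Spec.map_preimage]
      infer_instance
    letI := (Spec.preimage (c ≫ G.hom)).hom.toAlgebra
    obtain ⟨G₀, hG₀⟩ := h1.out
    refine ⟨G₀, ?_⟩
    have h2 := congrArg Subalgebra.toSubring hG₀
    rw [Algebra.adjoin_eq_ring_closure, Algebra.top_toSubring] at h2
    rw [Set.union_comm]
    exact h2

/-- A homomorphism from a spectrum of finite presentation is locally of finite presentation. -/
theorem lfp_left (hA' : SGA3b.IsMultType R A') [Algebra.FiniteType R A'] [LocallyOfFiniteType G.hom]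
    (i : (specGrp R A').X ⟶ G) : LocallyOfFinitePresentation i.left := by
  haveI : Algebra.FinitePresentation R A' := Groth.Agent.MultT.finitePresentation_algebra hA'
  haveI : LocallyOfFinitePresentation (Spec.map (CommRingCat.ofHom (algebraMap R A'))) :=
    (HasRingHomProperty.Spec_iff (P := @LocallyOfFinitePresentation)).2
      (RingHom.finitePresentation_algebraMap.2 ‹_›)
  haveI : LocallyOfFinitePresentation (i.left ≫ G.hom) := by
    rw [Over.w i]
    exact ‹LocallyOfFinitePresentation (Spec.map (CommRingCat.ofHom (algebraMap R A')))›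
  exact Groth.Agent.LimDesc.lfp_of_comp i.left G.hom

/-- The finite case. -/
theorem char_factor_finite (hA : SGA3b.IsMultType R A) [Module.Finite R A] (hA' : SGA3b.IsMultType R A')
    [Algebra.FiniteType R A'] (i : (specGrp R A').X ⟶ G) [IsMonHom i] [IsImmersion i.left] {B : Type u}
    [CommRing B] [Algebra R B] [IsLocalRing B] (hfin : LocallyOfFiniteType G.hom ∨ IsNoetherianRing B)
    (x : Pt G (B ⊗[R] A)) (hx : IsChar x)
    (hcomm : ∀ (L : Type u) [CommRing L] [Algebra R L] (h : B ⊗[R] A →ₐ[R] L),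
      (∀ b ∈ IsLocalRing.maximalIdeal B, h (b ⊗ₜ 1) = 0) → ∀ p : Pt G L, (spMap h ≫ x) * p = p * (spMap h ≫ x))
    (hclosed : InIm i (spMap (bA A (Ideal.Quotient.mkₐ R (IsLocalRing.maximalIdeal B))) ≫ x)) : InIm i x := by
  classical
  haveI : Module.Projective R A := Groth.Agent.MultT.projective hA
  haveI : Mono i.left := inferInstance
  haveI : Mono i := Over.mono_of_mono_left i
  haveI : Module.Finite B (B ⊗[R] A) := Module.Finite.base_change R B A
  set m := IsLocalRing.maximalIdeal B with hm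
  let mk : B →ₐ[R] B ⧸ m := Ideal.Quotient.mkₐ R m
  have hmax : ∀ P : PrimeSpectrum (B ⊗[R] A), P.asIdeal.IsMaximal → P ∈ imLocus i x := by
    intro P hP
    haveI := hP
    let hPa : B ⊗[R] A →ₐ[R] P.asIdeal.ResidueField := IsScalarTower.toAlgHom R _ _
    have h0 : m = P.asIdeal.comap (algebraMap B (B ⊗[R] A)) :=
      (IsLocalRing.eq_maximalIdeal (Ideal.isMaximal_comap_of_isIntegral_of_isMaximal P.asIdeal)).symm
    let φ : B ⧸ m →ₐ[R] P.asIdeal.ResidueField := Ideal.Quotient.liftₐ m (hPa.comp (inB R A B)) fun b hb => by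
      exact Ideal.algebraMap_residueField_eq_zero.2 (h0.le hb)
    let k : (B ⧸ m) ⊗[R] A →ₐ[R] P.asIdeal.ResidueField :=
      Algebra.TensorProduct.productMap φ (hPa.comp Algebra.TensorProduct.includeRight)
    have hk : k.comp (bA A mk) = hPa := by
      ext <;> simp [k, bA, φ, mk, inB, ← Algebra.TensorProduct.one_def]
    refine mem_imLocus_of_inIm i x hPa ?_ P (Ideal.ext fun a => ?_)
    · rw [← hk, ← spMap_assoc]
      exact hclosed.res k
    · rw [RingHom.mem_ker]
      exact Ideal.algebraMap_residueField_eq_zero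
  obtain ⟨J, hJfg, hJu⟩ := exists_factor_ideal i x (isClosed_imLocus_of_maximal i x hmax)
  have hJ : J.FG := hJfg (hfin.imp (fun h => by haveI := h; exact lfp_left hA' i)
    fun h => by haveI := h; exact IsNoetherianRing.of_finite B (B ⊗[R] A))
  obtain ⟨K, hKfg, hK⟩ := exists_coord_ideal J hJ
  have hker : ∀ (T : Type u) [CommRing T] [Algebra R T] (g : B →ₐ[R] T), Function.Surjective g →
      (InIm i (spMap (bA A g) ≫ x) ↔ K ≤ RingHom.ker g) := fun T _ _ g hg => by
    rw [hJu, ker_bA g hg, hK]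
  have hKm : K ≤ m := fun b hb =>
    Ideal.Quotient.eq_zero_iff_mem.1 ((hker _ mk Ideal.Quotient.mk_surjective).1 hclosed hb)
  obtain ⟨C, _, c, _, θe, he, hgen⟩ := exists_unit_chart (G := G) B
  let B₂ := B ⧸ K * K
  let m₂ : B →ₐ[R] (B ⧸ K * K) := Ideal.Quotient.mkₐ R (K * K)
  let I : Ideal (B ⧸ K * K) := K.map m₂
  have hI : I * I = ⊥ := by
    rw [← Ideal.map_mul, Ideal.map_eq_bot_iff_le_ker]
    exact fun b hb => Ideal.Quotient.eq_zero_iff_mem.2 hb
  have hQ : NakHyp c (m.map m₂) := by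
    refine Or.inr ⟨hfin.imp hgen fun h => by haveI := h; infer_instance, le_sInf fun M ⟨_, hM⟩ => ?_⟩
    haveI := hM
    rw [Ideal.map_le_iff_le_comap]
    exact (IsLocalRing.eq_maximalIdeal (Ideal.comap_isMaximal_of_surjective m₂ Ideal.Quotient.mk_surjective)).ge
  let mI : (B ⧸ K * K) →ₐ[R] (B ⧸ K * K) ⧸ I := Ideal.Quotient.mkₐ R I
  have key : InIm i (spMap (bA A m₂) ≫ x) := by
    obtain ⟨z, hz⟩ : InIm i (spMap (bA A mI) ≫ spMap (bA A m₂) ≫ x) := by
      rw [spMap_assoc, bA_comp]
      refine (hker _ _ ((Ideal.Quotient.mk_surjective).comp Ideal.Quotient.mk_surjective)).2 fun b hb => ?_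
      exact Ideal.Quotient.eq_zero_iff_mem.2 (Ideal.mem_map_of_mem m₂ hb)
    have hzc : IsChar z := IsChar.of_comp i (by rw [← hz]; exact (hx.res m₂).res mI)
    obtain ⟨φ, rfl⟩ : ∃ φ, pt φ = z := (Spec.mapMulEquiv (R := R) (S := A')).surjective z
    obtain ⟨φ, rfl⟩ : ∃ f, toConv f = φ := ⟨φ.ofConv, rfl⟩
    obtain ⟨ψ, hψ, hψφ⟩ := exists_char_lift hA hA' (B ⧸ K * K) I
      (fun a ha => ⟨2, by rw [pow_two, ← Ideal.mem_bot, ← hI]; exact Ideal.mul_mem_mul ha ha⟩) φ hzc
    refine ⟨pt (toConv ψ), eq_of_sq_zero hA (spMap (bA A m₂) ≫ x) (pt (toConv ψ) ≫ i) (hx.res m₂) (hψ.comp i)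
      (m.map m₂) hQ (fun L _ _ h hh p => ?_) (m₂.toRingHom.comp θe) ?_ I hI ?_⟩
    · rw [spMap_assoc]
      refine hcomm L _ (fun b hb => ?_) p
      rw [AlgHom.comp_apply, show bA A m₂ (b ⊗ₜ[R] (1 : A)) = m₂ b ⊗ₜ[R] (1 : A) by simp [bA]]
      exact hh _ (Ideal.mem_map_of_mem _ hb)
    · have := he.res m₂
      rwa [MonObj.comp_one] at this
    · rw [hz, ← Category.assoc, spMap_pt]
      simp only [ofConv_toConv]
      rw [hψφ]
  have hK2 : K ≤ K • K := fun b hb =>
    Ideal.Quotient.eq_zero_iff_mem.1 ((hker _ m₂ Ideal.Quotient.mk_surjective).1 key hb)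
  have hK0 : K = ⊥ := Submodule.eq_bot_of_le_smul_of_le_jacobson_bot K K hKfg hK2
    (by rw [IsLocalRing.jacobson_eq_maximalIdeal ⊥ bot_ne_top]; exact hKm)
  have := (hker B (AlgHom.id R B) Function.surjective_id).2 (by rw [hK0]; exact bot_le)
  rwa [show bA A (AlgHom.id R B) = AlgHom.id R (B ⊗[R] A) from Algebra.TensorProduct.map_id, spMap_id,
    Category.id_comp] at this

/-- **Inclusion over a local base.** -/
theorem char_factor_local (hA : SGA3b.IsMultType R A) [Algebra.FiniteType R A] (hA' : SGA3b.IsMultType R A')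
    [Algebra.FiniteType R A'] (i : (specGrp R A').X ⟶ G) [IsMonHom i] [IsImmersion i.left] {B : Type u}
    [CommRing B] [Algebra R B] [IsLocalRing B] (hfin : LocallyOfFiniteType G.hom ∨ IsNoetherianRing B)
    (x : Pt G (B ⊗[R] A)) (hx : IsChar x)
    (hcomm : ∀ (L : Type u) [CommRing L] [Algebra R L] (h : B ⊗[R] A →ₐ[R] L),
      (∀ b ∈ IsLocalRing.maximalIdeal B, h (b ⊗ₜ 1) = 0) → ∀ p : Pt G L, (spMap h ≫ x) * p = p * (spMap h ≫ x))
    (hclosed : InIm i (spMap (bA A (Ideal.Quotient.mkₐ R (IsLocalRing.maximalIdeal B))) ≫ x)) : InIm i x := by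
  refine char_factor hA i x hx fun n hn => ?_
  haveI : Coalgebra.IsCocomm R A := Groth.Agent.MultT.isCocomm hA
  let T := SGA3b.torsionIdeal R A n
  haveI : T.IsHopfIdeal R := Groth.Agent.MultT.isHopfIdeal_torsion n
  obtain ⟨hT, hTf⟩ := Groth.Agent.S5242.result R A inferInstance hA n hn T rfl
  haveI := hTf
  let π : A →ₐc[R] A ⧸ T := Bialgebra.Quotient.mkBialgHom T
  show InIm i (spMap (gA π B) ≫ x)
  refine char_factor_finite hT hA' i hfin _ (hx.change π B) (fun L _ _ h hh p => ?_) ?_
  · rw [spMap_assoc]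
    refine hcomm L _ (fun b hb => ?_) p
    rw [AlgHom.comp_apply, show gA π B (b ⊗ₜ[R] (1 : A)) = b ⊗ₜ[R] (1 : A ⧸ T) by simp [gA]]
    exact hh b hb
  · rw [spMap_assoc, gA_bA, ← spMap_assoc]
    exact hclosed.res _

end Groth.Agent.MTBridge
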