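import Groth.Agent.MTBridge.Rigid
import Mathlib

/-!
# The kernel of reduction modulo a square-zero ideal is commutative
-/

set_option autoImplicit false
set_option linter.style.haveILetI false
set_option backward.isDefEq.respectTransparency false
set_option maxHeartbeats 1000000
set_option synthInstance.maxHeartbeats 400000

universe u

open CategoryTheory Limits MonoidalCategory CartesianMonoidalCategory AlgebraicGeometry Opposite
open TopologicalSpace
open scoped CategoryTheory.Obj MonObj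

noncomputable section

namespace Groth.Agent.MTBridge

variable {R : Type u} [CommRing R]

/-- A point trivial on the reduction of the base is trivial on reductions of test rings. -/
theorem spMap_eq_one_of_map_eq_one (J : Ideal R) {X Y : Over (Spec (CommRingCat.of R))} [GrpObj X] (g : Y ⟶ X)
    (hg : (Over.pullback (Spec.map (CommRingCat.ofHom (Ideal.Quotient.mk J)))).map g = 1)
    (T : Type u) [CommRing T] [Algebra R T] (q : Pt Y T) :
    spMap (Ideal.Quotient.mkₐ R (J.map (algebraMap R T))) ≫ q ≫ g = 1 := by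
  let W := T ⧸ J.map (algebraMap R T)
  let j := Spec.map (CommRingCat.ofHom (Ideal.Quotient.mk J))
  let w : (Spec (CommRingCat.of W)).asOver (Spec (CommRingCat.of R)) ⟶ Y :=
    spMap (Ideal.Quotient.mkₐ R (J.map (algebraMap R T))) ≫ q
  let ρ : R ⧸ J →+* W := Ideal.Quotient.lift J (algebraMap R W) fun r hr => by
    rw [IsScalarTower.algebraMap_apply R T W]
    exact Ideal.Quotient.eq_zero_iff_mem.2 (Ideal.mem_map_of_mem _ hr)
  have hρ : Spec.map (CommRingCat.ofHom ρ) ≫ j = Spec.map (CommRingCat.ofHom (algebraMap R W)) := by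
    rw [← Spec.map_comp, ← CommRingCat.ofHom_comp]
    rfl
  have hlift : w.left ≫ Y.hom = Spec.map (CommRingCat.ofHom ρ) ≫ j := by rw [hρ]; exact Over.w w
  let l : Spec (CommRingCat.of W) ⟶ pullback Y.hom j := pullback.lift w.left (Spec.map (CommRingCat.ofHom ρ)) hlift
  have h0 : (Over.pullback j).map g = (Over.pullback j).map (1 : Y ⟶ X) := by
    rw [hg]; exact (Functor.map_one _).symm
  have h1 := congrArg (fun x => l ≫ x.left ≫ pullback.fst X.hom j) h0
  simp only [map_left_fst, l, ← Category.assoc, pullback.lift_fst] at h1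
  have h2 : w ≫ g = w ≫ (1 : Y ⟶ X) := Over.OverMorphism.ext h1
  rwa [MonObj.comp_one, Category.assoc] at h2

/-- **S8363.** -/
theorem mul_comm_of_reduction (J : Ideal R) (hJ : J * J = ⊥) (X : Over (Spec (CommRingCat.of R))) [GrpObj X]
    (Y : Over (Spec (CommRingCat.of R))) (g g' : Y ⟶ X)
    (hg : (Over.pullback (Spec.map (CommRingCat.ofHom (Ideal.Quotient.mk J)))).map g = 1)
    (hg' : (Over.pullback (Spec.map (CommRingCat.ofHom (Ideal.Quotient.mk J)))).map g' = 1) :
    g * g' = g' * g := by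
  have hloc : ∀ y : Y.left, ∃ (V : Y.left.Opens) (hV : IsAffineOpen V) (U : X.left.Opens) (hU : IsAffineOpen U),
      y ∈ V ∧ (1 : Y ⟶ X).left '' (V : Set Y.left) ⊆ U := by
    intro y
    obtain ⟨_, ⟨U, hU, rfl⟩, hyU, -⟩ := X.left.isBasis_affineOpens.exists_subset_of_mem_open
      (Set.mem_univ ((1 : Y ⟶ X).left y)) isOpen_univ
    obtain ⟨_, ⟨V, hV, rfl⟩, hyV, hVU⟩ := Y.left.isBasis_affineOpens.exists_subset_of_mem_open
      (show y ∈ ((1 : Y ⟶ X).left ⁻¹' (U : Set X.left)) from hyU) (U.isOpen.preimage (1 : Y ⟶ X).left.continuous)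
    exact ⟨V, hV, U, hU, hyV, Set.image_subset_iff.2 hVU⟩
  choose V hV U hU hyV hVU using hloc
  apply Over.OverMorphism.ext
  let 𝒰 : Y.left.OpenCover := Scheme.Cover.mkOfCovers Y.left (fun y => Spec Γ(Y.left, V y))
    (fun y => (hV y).fromSpec) (fun y => ⟨y, (hV y).range_fromSpec.ge (hyV y)⟩)
  refine Scheme.Cover.hom_ext 𝒰 _ _ fun (y : Y.left) => ?_
  show (hV y).fromSpec ≫ (g * g').left = (hV y).fromSpec ≫ (g' * g).left
  let T : Type u := Γ(Y.left, V y)
  letI : Algebra R T := (Spec.preimage ((hV y).fromSpec ≫ Y.hom)).hom.toAlgebra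
  let q : Pt Y T := Over.homMk (hV y).fromSpec (Spec.map_preimage ((hV y).fromSpec ≫ Y.hom)).symm
  let N : Ideal T := J.map (algebraMap R T)
  have hN2 : N * N = ⊥ := by rw [← Ideal.map_mul, hJ, Ideal.map_bot]
  have hN : ∀ a ∈ N, ∀ b ∈ N, a * b = 0 := fun a ha b hb => by
    rw [← Ideal.mem_bot, ← hN2]; exact Ideal.mul_mem_mul ha hb
  have hr : Set.range (q ≫ (1 : Y ⟶ X)).left ⊆ Set.range (hU y).fromSpec := by
    rintro _ ⟨z, rfl⟩
    rw [(hU y).range_fromSpec, Over.comp_left, Scheme.Hom.comp_apply]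
    exact hVU y ⟨_, (hV y).range_fromSpec.le ⟨z, rfl⟩, rfl⟩
  rw [MonObj.comp_one] at hr
  let θe : Γ(X.left, U y) →+* T := (Spec.preimage (IsOpenImmersion.lift (hU y).fromSpec (1 : Pt X T).left hr)).hom
  have he : IsChart (hU y).fromSpec (1 : Pt X T) θe := by
    show _ = _
    rw [CommRingCat.ofHom_hom, Spec.map_preimage, IsOpenImmersion.lift_fac]
  have hex : ∀ a : Y ⟶ X, (Over.pullback (Spec.map (CommRingCat.ofHom (Ideal.Quotient.mk J)))).map a = 1 →
      ∃ θ : Γ(X.left, U y) →+* T, IsChart (hU y).fromSpec (q ≫ a) θ ∧ ∀ c, θ c - θe c ∈ N := by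
    intro a ha
    let m : T →ₐ[R] T ⧸ N := Ideal.Quotient.mkₐ R N
    have h1 : spMap m ≫ (q ≫ a) = 1 := spMap_eq_one_of_map_eq_one J a ha T q
    obtain ⟨θ, hθ⟩ := exists_chart_of_congr (c := (hU y).fromSpec) m Ideal.Quotient.mk_surjective (fun t ht => ⟨2, by
      have htN : t ∈ N := Ideal.Quotient.eq_zero_iff_mem.1 ht
      rw [pow_two]
      exact hN t htN t htN⟩) (q ≫ a) 1 θe he (by rw [h1, MonObj.comp_one])
    refine ⟨θ, hθ, fun c => ?_⟩
    have h2 := hθ.res m
    rw [h1] at h2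
    have h3 := he.res m
    rw [MonObj.comp_one] at h3
    exact (Ideal.Quotient.mk_eq_mk_iff_sub_mem _ _).1 (RingHom.congr_fun (h2.unique h3) c)
  obtain ⟨θ, hθ, hθN⟩ := hex g hg
  obtain ⟨θ', hθ', hθN'⟩ := hex g' hg'
  obtain ⟨ψ, hψ, hψe⟩ := chart_mul N hN (q ≫ g) (q ≫ g') θe θ θ' he hθ hθ' hθN hθN'
  obtain ⟨ψ', hψ', hψe'⟩ := chart_mul N hN (q ≫ g') (q ≫ g) θe θ' θ he hθ' hθ hθN' hθN
  have h : q ≫ (g * g') = q ≫ (g' * g) := by
    rw [MonObj.comp_mul, MonObj.comp_mul]
    apply Over.OverMorphism.ext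
    rw [hψ, hψ', show ψ = ψ' from RingHom.ext fun c => by rw [hψe, hψe', add_comm]]
  exact congrArg (fun x => x.left) h

end Groth.Agent.MTBridge
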