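import Groth.Agent.MTBridge.Pieces
import Mathlib

/-!
# Loci of bialgebra maps between Hopf algebras of multiplicative type, and global properties
-/

set_option autoImplicit false
set_option linter.style.haveILetI false
set_option synthInstance.maxHeartbeats 400000
set_option maxHeartbeats 1000000

universe u

open TensorProduct WithConv PrimeSpectrum

noncomputable section

namespace Groth.Agent.MTBridge

open Groth.Agent.MultT

variable {R A B : Type u} [CommRing R] [CommRing A] [HopfAlgebra R A] [CommRing B] [HopfAlgebra R B]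

/-- A prime of the fibre over a prime of an algebra. -/
theorem exists_fibre_prime (X : Type u) [CommRing X] [Algebra R X] (P : PrimeSpectrum X) :
    ∃ Q : PrimeSpectrum ((P.comap (algebraMap R X)).asIdeal.ResidueField ⊗[R] X),
      ∀ x : X, (1 : (P.comap (algebraMap R X)).asIdeal.ResidueField) ⊗ₜ[R] x ∈ Q.asIdeal ↔ x ∈ P.asIdeal := by
  haveI : P.asIdeal.LiesOver (P.comap (algebraMap R X)).asIdeal := ⟨rfl⟩
  let a : (P.comap (algebraMap R X)).asIdeal.ResidueField →ₐ[R] P.asIdeal.ResidueField :=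
    Ideal.ResidueField.mapₐ (P.comap (algebraMap R X)).asIdeal P.asIdeal (Algebra.ofId R X) (P.asIdeal.over_def _)
  let m := Algebra.TensorProduct.productMap a (IsScalarTower.toAlgHom R X P.asIdeal.ResidueField)
  refine ⟨⟨RingHom.ker m, RingHom.ker_isPrime m⟩, fun x => ?_⟩
  show m (_ ⊗ₜ x) = 0 ↔ _
  rw [show m ((1 : (P.comap (algebraMap R X)).asIdeal.ResidueField) ⊗ₜ[R] x) = a 1 * algebraMap X P.asIdeal.ResidueField x from rfl,
    map_one, one_mul]
  exact Ideal.algebraMap_residueField_eq_zero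

variable {f : B →ₐc[R] A}

/-- A prime of the chart base change over given points. -/
theorem Piece.exists_prime (P : Piece f) (Q : PrimeSpectrum A) (q : PrimeSpectrum P.T)
    (h : q.comap (algebraMap R P.T) = Q.comap (algebraMap R A)) :
    ∃ q' : PrimeSpectrum (P.T ⊗[R] A), ∀ x : A, (1 : P.T) ⊗ₜ[R] x ∈ q'.asIdeal ↔ x ∈ Q.asIdeal := by
  obtain ⟨Q₀, hQ₀⟩ := exists_fibre_prime (R := R) A Q
  haveI : q.asIdeal.LiesOver (Q.comap (algebraMap R A)).asIdeal := ⟨by rw [← h]; rfl⟩
  let a : (Q.comap (algebraMap R A)).asIdeal.ResidueField →ₐ[R] q.asIdeal.ResidueField :=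
    Ideal.ResidueField.mapₐ (Q.comap (algebraMap R A)).asIdeal q.asIdeal (Algebra.ofId R P.T) (q.asIdeal.over_def _)
  obtain ⟨Q₁, hQ₁⟩ := (RingHom.FaithfullyFlat.iff_flat_and_comap_surjective.1 (chStage_faithfullyFlat a A)).2 Q₀
  refine ⟨Q₁.comap (chStage (IsScalarTower.toAlgHom R P.T q.asIdeal.ResidueField) A).toRingHom, fun x => ?_⟩
  rw [← hQ₀ x, ← hQ₁]
  show chStage _ A ((1 : P.T) ⊗ₜ[R] x) ∈ Q₁.asIdeal ↔ chStage a A (_ ⊗ₜ x) ∈ Q₁.asIdeal
  rw [show chStage (IsScalarTower.toAlgHom R P.T q.asIdeal.ResidueField) A ((1 : P.T) ⊗ₜ[R] x) = 1 ⊗ₜ x by simp [chStage],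
    show chStage a A ((1 : (Q.comap (algebraMap R A)).asIdeal.ResidueField) ⊗ₜ[R] x) = 1 ⊗ₜ x from
      congrArg (fun y => y ⊗ₜ[R] x) (map_one a)]

theorem Piece.composite_flat (P : Piece f) (h : Function.Injective P.φ) :
    ((Algebra.TensorProduct.includeRight : A →ₐ[R] P.T ⊗[R] A).toRingHom.comp
      (f : B →ₐ[R] A).toRingHom).Flat := by
  haveI := P.flat
  have h1 : (Algebra.TensorProduct.includeRight : B →ₐ[R] P.T ⊗[R] B).toRingHom.Flat := by
    letI : Algebra B (P.T ⊗[R] B) := Algebra.TensorProduct.rightAlgebra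
    show Module.Flat B (P.T ⊗[R] B)
    exact Module.Flat.of_linearEquiv
      (AlgEquiv.ofRingEquiv (f := (Algebra.TensorProduct.comm R B P.T).toRingEquiv) fun x => rfl).symm.toLinearEquiv
  have h2 : (Algebra.TensorProduct.includeRight : A →ₐ[R] P.T ⊗[R] A).toRingHom.comp (f : B →ₐ[R] A).toRingHom =
      (idT f P.T).toRingHom.comp (Algebra.TensorProduct.includeRight : B →ₐ[R] P.T ⊗[R] B).toRingHom :=
    RingHom.ext fun x => by simp
  rw [h2]
  exact RingHom.Flat.comp h1 (P.idT_faithfullyFlat h).flat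

/-- **Global flatness from pieces.** -/
theorem flat_of_pieces {ι : Type u} (P : ι → Piece f)
    (hcov : ∀ p : PrimeSpectrum R, ∃ i q, PrimeSpectrum.comap (algebraMap R (P i).T) q = p)
    (h : ∀ i, Function.Injective (P i).φ) : (f : B →ₐ[R] A).toRingHom.Flat := by
  letI : Algebra B A := (f : B →ₐ[R] A).toRingHom.toAlgebra
  show Module.Flat B A
  rw [Module.Flat.iff_lTensor_preserves_injective_linearMap]
  intro M M' _ _ _ _ j hj
  rw [injective_iff_map_eq_zero]
  intro x hx
  by_contra hne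
  obtain ⟨m, hm, hle⟩ := Ideal.exists_le_maximal (Submodule.colon (⊥ : Submodule A (A ⊗[B] M)) ({x} : Set (A ⊗[B] M)))
    (fun ht => hne (by
      have h1 : (1 : A) ∈ Submodule.colon (⊥ : Submodule A (A ⊗[B] M)) ({x} : Set (A ⊗[B] M)) := ht ▸ Submodule.mem_top
      simpa [Submodule.mem_colon_singleton] using h1))
  let Q : PrimeSpectrum A := ⟨m, hm.isPrime⟩
  obtain ⟨i, q, hq⟩ := hcov (Q.comap (algebraMap R A))
  haveI := (P i).flat
  obtain ⟨q', hq'⟩ := (P i).exists_prime Q q hq
  let C := (P i).T ⊗[R] A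
  letI : Algebra A C := Algebra.TensorProduct.rightAlgebra
  letI : Algebra B C := ((Algebra.TensorProduct.includeRight : A →ₐ[R] C).toRingHom.comp
    (f : B →ₐ[R] A).toRingHom).toAlgebra
  haveI : IsScalarTower B A C := .of_algebraMap_eq fun _ => rfl
  haveI : Module.Flat B C := (P i).composite_flat (h i)
  haveI : Module.Flat A C := Module.Flat.of_linearEquiv
    (AlgEquiv.ofRingEquiv (f := (Algebra.TensorProduct.comm R A (P i).T).toRingEquiv) fun x => rfl).symm.toLinearEquiv
  let g : A ⊗[B] M →ₗ[A] A ⊗[B] M' := j.baseChange A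
  let cM := TensorProduct.AlgebraTensorModule.cancelBaseChange B A C C M
  let cM' := TensorProduct.AlgebraTensorModule.cancelBaseChange B A C C M'
  have hcomm : ∀ z, cM' (g.lTensor C z) = j.lTensor C (cM z) := by
    intro z
    induction z using TensorProduct.induction_on with
    | zero => simp
    | add u v hu hv => simp only [map_add, hu, hv]
    | tmul c w =>
      induction w using TensorProduct.induction_on with
      | zero => simp
      | add u v hu hv => simp only [TensorProduct.tmul_add, map_add, hu, hv]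
      | tmul y m => simp [g, cM, cM']
  have h1 : (1 : C) ⊗ₜ[A] x = 0 := by
    apply cM.injective
    rw [map_zero]
    apply Module.Flat.lTensor_preserves_injective_linearMap (M := C) j hj
    rw [← hcomm, LinearMap.lTensor_tmul, show g x = 0 from hx, TensorProduct.tmul_zero, map_zero, map_zero]
  obtain ⟨r, hr, hr0⟩ := exists_smul_eq_zero_of_tmul h1 q'.asIdeal
  exact hr ((hq' r).2 (hle (Submodule.mem_colon_singleton.2 ((Submodule.mem_bot A).2 hr0))))

/-- **Global surjectivity from pieces.** -/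
theorem surjective_of_pieces {ι : Type u} (P : ι → Piece f)
    (hcov : ∀ p : PrimeSpectrum R, ∃ i q, PrimeSpectrum.comap (algebraMap R (P i).T) q = p)
    (h : ∀ i, Function.Surjective (P i).φ) : Function.Surjective f := by
  let F : B →ₗ[R] A := (f : B →ₐ[R] A).toLinearMap
  intro y
  by_contra hne
  have hne' : (LinearMap.range F).mkQ y ≠ 0 := fun h0 => hne (by
    rw [Submodule.mkQ_apply, Submodule.Quotient.mk_eq_zero] at h0
    exact h0)
  obtain ⟨m, hm, hle⟩ := Ideal.exists_le_maximal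
    (Submodule.colon (⊥ : Submodule R (A ⧸ LinearMap.range F)) ({(LinearMap.range F).mkQ y} : Set _))
    (fun ht => hne' (by
      have h1 : (1 : R) ∈ Submodule.colon (⊥ : Submodule R (A ⧸ LinearMap.range F))
        ({(LinearMap.range F).mkQ y} : Set _) := ht ▸ Submodule.mem_top
      simpa [Submodule.mem_colon_singleton] using h1))
  obtain ⟨i, q, hq⟩ := hcov ⟨m, hm.isPrime⟩
  haveI := (P i).flat
  obtain ⟨z, hz⟩ := (P i).idT_surjective (h i) ((1 : (P i).T) ⊗ₜ y)
  have h0 : (1 : (P i).T) ⊗ₜ[R] (LinearMap.range F).mkQ y = 0 := by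
    rw [show (1 : (P i).T) ⊗ₜ[R] (LinearMap.range F).mkQ y =
      (LinearMap.range F).mkQ.lTensor (P i).T ((1 : (P i).T) ⊗ₜ y) from rfl, ← hz]
    clear hz
    induction z using TensorProduct.induction_on with
    | zero => simp
    | add u v hu hv => rw [map_add, map_add, hu, hv, add_zero]
    | tmul t b =>
      rw [Algebra.TensorProduct.map_tmul, LinearMap.lTensor_tmul, Submodule.mkQ_apply,
        show ((f : B →ₐ[R] A) b) = F b from rfl, (Submodule.Quotient.mk_eq_zero _).2 (LinearMap.mem_range.2 ⟨b, rfl⟩), TensorProduct.tmul_zero]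
  obtain ⟨r, hr, hr0⟩ := exists_smul_eq_zero_of_tmul h0 q.asIdeal
  apply hr
  rw [show q.asIdeal.comap (algebraMap R (P i).T) = m from congrArg PrimeSpectrum.asIdeal hq]
  exact hle (Submodule.mem_colon_singleton.2 ((Submodule.mem_bot R).2 hr0))

variable (f)

/-- **Loci theorem (affine).** -/
theorem exists_loci (hA : SGA3b.IsMultType R A) (hB : SGA3b.IsMultType R B) [Algebra.FiniteType R B] :
    IsClopen {p : PrimeSpectrum R | Function.Surjective (idT f p.asIdeal.ResidueField)} ∧
    IsClopen {p : PrimeSpectrum R | (idT f p.asIdeal.ResidueField).toRingHom.FaithfullyFlat} ∧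
    ((∀ p : PrimeSpectrum R, Function.Surjective (idT f p.asIdeal.ResidueField)) → Function.Surjective f) ∧
    ((∀ p : PrimeSpectrum R, (idT f p.asIdeal.ResidueField).toRingHom.FaithfullyFlat) →
      (f : B →ₐ[R] A).toRingHom.FaithfullyFlat) := by
  classical
  obtain ⟨ι, _, P, hcov⟩ := exists_pieces f hA hB
  -- restrict to pieces with points
  let ι' := {i : ι // Nonempty (PrimeSpectrum (P i).T)}
  have hcov' : ∀ p : PrimeSpectrum R, ∃ (i : ι') (q : _), PrimeSpectrum.comap (algebraMap R (P i.1).T) q = p :=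
    fun p => by
      obtain ⟨i, q, hq⟩ := hcov p
      exact ⟨⟨i, ⟨q⟩⟩, q, hq⟩
  refine ⟨isClopen_of_pieces f (fun i : ι' => P i.1) hcov' _ (fun i => Function.Surjective (P i.1).φ)
      fun i q => ((P i.1).fibre_iff q _ rfl).1,
    isClopen_of_pieces f (fun i : ι' => P i.1) hcov' _ (fun i => Function.Injective (P i.1).φ)
      fun i q => ((P i.1).fibre_iff q _ rfl).2, fun h => ?_, fun h => ?_⟩
  · exact surjective_of_pieces (fun i : ι' => P i.1) hcov' fun i =>
      (((P i.1).fibre_iff i.2.some _ rfl).1).1 (h _)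
  · rw [RingHom.FaithfullyFlat.iff_flat_and_comap_surjective]
    refine ⟨flat_of_pieces (fun i : ι' => P i.1) hcov' fun i => (((P i.1).fibre_iff i.2.some _ rfl).2).1 (h _),
      fun Q => ?_⟩
    obtain ⟨Q₀, hQ₀⟩ := exists_fibre_prime (R := R) B Q
    obtain ⟨Q₁, hQ₁⟩ := (RingHom.FaithfullyFlat.iff_flat_and_comap_surjective.1
      (h (Q.comap (algebraMap R B)))).2 Q₀
    refine ⟨Q₁.comap (Algebra.TensorProduct.includeRight :
      A →ₐ[R] (Q.comap (algebraMap R B)).asIdeal.ResidueField ⊗[R] A).toRingHom, PrimeSpectrum.ext (Ideal.ext fun x => ?_)⟩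
    rw [← hQ₀ x, ← hQ₁]
    show _ ⊗ₜ[R] f x ∈ Q₁.asIdeal ↔ idT f _ (_ ⊗ₜ[R] x) ∈ Q₁.asIdeal
    exact Iff.rfl

end Groth.Agent.MTBridge
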