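import Groth.Agent.MTBridge.Prim
import Groth.Agent.MTBridge.MonoNhd
import Mathlib.Algebra.TrivSqZeroExt.Basic

/-!
# Square-zero rigidity: a homomorphism from a group of multiplicative type trivial modulo a square-zero
ideal is trivial
-/

set_option autoImplicit false
set_option linter.style.haveILetI false
set_option backward.isDefEq.respectTransparency false
set_option maxHeartbeats 1000000
set_option synthInstance.maxHeartbeats 400000

universe u

open CategoryTheory Limits MonoidalCategory CartesianMonoidalCategory AlgebraicGeometry TensorProduct Opposite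
open TopologicalSpace WithConv
open scoped CategoryTheory.Obj MonObj

noncomputable section

namespace Groth.Agent.MTBridge

variable {R : Type u} [CommRing R] {G : Over (Spec (CommRingCat.of R))}

/-- The points of `G` in an algebra. -/
abbrev Pt (G : Over (Spec (CommRingCat.of R))) (T : Type u) [CommRing T] [Algebra R T] :=
  (Spec (CommRingCat.of T)).asOver (Spec (CommRingCat.of R)) ⟶ G

section Chart

variable {C T T' : Type u} [CommRing C] [CommRing T] [Algebra R T] [CommRing T'] [Algebra R T']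

/-- The map of test schemes. -/
def spMap (g : T →ₐ[R] T') : (Spec (CommRingCat.of T')).asOver (Spec (CommRingCat.of R)) ⟶
    (Spec (CommRingCat.of T)).asOver (Spec (CommRingCat.of R)) :=
  Over.homMk (Spec.map (CommRingCat.ofHom g.toRingHom)) (by
    show Spec.map (CommRingCat.ofHom g.toRingHom) ≫ Spec.map (CommRingCat.ofHom (algebraMap R T)) =
      Spec.map (CommRingCat.ofHom (algebraMap R T'))
    rw [← Spec.map_comp, ← CommRingCat.ofHom_comp]
    congr 2
    exact g.comp_algebraMap)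

@[simp] theorem spMap_left (g : T →ₐ[R] T') : (spMap g).left = Spec.map (CommRingCat.ofHom g.toRingHom) := rfl

theorem spMap_comp {T'' : Type u} [CommRing T''] [Algebra R T''] (g : T →ₐ[R] T') (g' : T' →ₐ[R] T'') :
    spMap g' ≫ spMap g = spMap (g'.comp g) := by
  apply Over.OverMorphism.ext
  show Spec.map _ ≫ Spec.map _ = Spec.map _
  rw [← Spec.map_comp, ← CommRingCat.ofHom_comp]
  rfl

theorem spMap_id : spMap (AlgHom.id R T) = 𝟙 _ := by
  apply Over.OverMorphism.ext
  show Spec.map (CommRingCat.ofHom (RingHom.id T)) = _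
  rw [CommRingCat.ofHom_id, Spec.map_id]
  rfl

variable (c : Spec (CommRingCat.of C) ⟶ G.left)

/-- `θ` represents `x` in the chart. -/
def IsChart (x : Pt G T) (θ : C →+* T) : Prop := x.left = Spec.map (CommRingCat.ofHom θ) ≫ c

variable {c}

theorem IsChart.res {x : Pt G T} {θ : C →+* T} (h : IsChart c x θ) (g : T →ₐ[R] T') :
    IsChart c (spMap g ≫ x) (g.toRingHom.comp θ) := by
  show (spMap g).left ≫ x.left = _
  rw [h, spMap_left, ← Category.assoc, ← Spec.map_comp, ← CommRingCat.ofHom_comp]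

theorem IsChart.unique [IsOpenImmersion c] {x : Pt G T} {θ θ' : C →+* T} (h : IsChart c x θ)
    (h' : IsChart c x θ') : θ = θ' := by
  have h1 := (cancel_mono c).1 (h.symm.trans h')
  exact congrArg CommRingCat.Hom.hom (Spec.map_injective h1)

theorem IsChart.comp_gamma {x : Pt G T} {θ : C →+* T} (h : IsChart c x θ) :
    θ.comp (Spec.preimage (c ≫ G.hom)).hom = algebraMap R T := by
  have h1 : Spec.map (Spec.preimage (c ≫ G.hom) ≫ CommRingCat.ofHom θ) = Spec.map (CommRingCat.ofHom (algebraMap R T)) := by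
    rw [Spec.map_comp, Spec.map_preimage, ← Category.assoc, ← h]
    exact Over.w x
  exact congrArg CommRingCat.Hom.hom (Spec.map_injective h1)

theorem exists_chartPoint (θ : C →+* T) (h : θ.comp (Spec.preimage (c ≫ G.hom)).hom = algebraMap R T) :
    ∃ x : Pt G T, IsChart c x θ := by
  refine ⟨Over.homMk (Spec.map (CommRingCat.ofHom θ) ≫ c) ?_, rfl⟩
  show (_ ≫ c) ≫ G.hom = Spec.map (CommRingCat.ofHom (algebraMap R T))
  rw [Category.assoc, ← Spec.map_preimage (c ≫ G.hom), ← Spec.map_comp, ← h]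
  rfl

/-- A point congruent to a charted point modulo a nil ideal is charted. -/
theorem exists_chart_of_congr [IsOpenImmersion c] (g : T →ₐ[R] T') (hg : Function.Surjective g)
    (hnil : ∀ t, g t = 0 → IsNilpotent t) (x x₀ : Pt G T) (θ₀ : C →+* T) (h₀ : IsChart c x₀ θ₀)
    (h : spMap g ≫ x = spMap g ≫ x₀) : ∃ θ, IsChart c x θ := by
  have hr : Set.range x.left ⊆ Set.range c := by
    rintro _ ⟨z, rfl⟩
    let z' : PrimeSpectrum T := z
    obtain ⟨w, hw⟩ : ∃ w : ↥(Spec (CommRingCat.of T')), (spMap g).left w = z := by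
      refine ⟨⟨z'.asIdeal.map g.toRingHom, Ideal.map_isPrime_of_surjective hg ?_⟩, ?_⟩
      · intro t ht
        exact nilpotent_iff_mem_prime.1 (hnil t ht) z'.asIdeal z'.2
      · refine PrimeSpectrum.ext ?_
        show (z'.asIdeal.map g.toRingHom).comap g.toRingHom = z'.asIdeal
        refine (Ideal.comap_map_of_surjective _ hg _).trans (sup_eq_left.2 fun t ht => ?_)
        exact nilpotent_iff_mem_prime.1 (hnil t ht) z'.asIdeal z'.2
    rw [← hw, ← Scheme.Hom.comp_apply, ← Over.comp_left, h, Over.comp_left, Scheme.Hom.comp_apply, h₀,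
      Scheme.Hom.comp_apply]
    exact ⟨_, rfl⟩
  refine ⟨(Spec.preimage (IsOpenImmersion.lift c x.left hr)).hom, ?_⟩
  show x.left = _
  rw [CommRingCat.ofHom_hom, Spec.map_preimage, IsOpenImmersion.lift_fac]

variable [GrpObj G]

/-- **Addition formula** for points trivial modulo a square-zero ideal. -/
theorem chart_mul [IsOpenImmersion c] (N : Ideal T) (hN : ∀ a ∈ N, ∀ b ∈ N, a * b = 0) (x y : Pt G T)
    (θe θx θy : C →+* T) (he : IsChart c 1 θe) (hx : IsChart c x θx) (hy : IsChart c y θy)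
    (hxN : ∀ a, θx a - θe a ∈ N) (hyN : ∀ a, θy a - θe a ∈ N) :
    ∃ θ : C →+* T, IsChart c (x * y) θ ∧ ∀ a, θ a = θx a + θy a - θe a := by
  let mkθ : ∀ (d : C → N × N), d 1 = 0 → (∀ a b, d (a + b) = d a + d b) →
      (∀ a b, d (a * b) = θe a • d b + θe b • d a) → (C →+* (TrivSqZeroExt T (N × N))) := fun d h1 hadd hmul =>
    { toFun := fun a => (θe a, d a)
      map_one' := TrivSqZeroExt.ext (map_one θe) h1
      map_mul' := fun a b => TrivSqZeroExt.ext (map_mul θe a b) (by
        show d (a * b) = θe a • d b + MulOpposite.op (θe b) • d a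
        rw [op_smul_eq_smul, hmul])
      map_zero' := TrivSqZeroExt.ext (map_zero θe) (by
        have := hadd 0 0
        rw [add_zero, left_eq_add] at this
        exact this)
      map_add' := fun a b => TrivSqZeroExt.ext (map_add θe a b) (hadd a b) }
  have hd : ∀ (θ : C →+* T), (∀ a, θ a - θe a ∈ N) →
      ∀ a b, θ (a * b) - θe (a * b) = θe a * (θ b - θe b) + θe b * (θ a - θe a) := fun θ h a b => by
    have := hN _ (h a) _ (h b)
    rw [map_mul, map_mul]
    linear_combination this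
  let θ₁ : C →+* (TrivSqZeroExt T (N × N)) := mkθ (fun a => (⟨_, hxN a⟩, 0)) (by simp) (fun a b => by
      refine Prod.ext (Subtype.ext ?_) (by simp)
      show θx (a + b) - θe (a + b) = (θx a - θe a) + (θx b - θe b)
      rw [map_add, map_add]; ring) fun a b => by
      refine Prod.ext (Subtype.ext ?_) (by simp)
      exact hd θx hxN a b
  let θ₂ : C →+* (TrivSqZeroExt T (N × N)) := mkθ (fun a => (0, ⟨_, hyN a⟩)) (by simp) (fun a b => by
      refine Prod.ext (by simp) (Subtype.ext ?_)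
      show θy (a + b) - θe (a + b) = (θy a - θe a) + (θy b - θe b)
      rw [map_add, map_add]; ring) fun a b => by
      refine Prod.ext (by simp) (Subtype.ext ?_)
      exact hd θy hyN a b
  let inl : T →ₐ[R] (TrivSqZeroExt T (N × N)) :=
    { TrivSqZeroExt.inlHom T (N × N) with commutes' := fun r => rfl }
  have hγ : ∀ r, θe ((Spec.preimage (c ≫ G.hom)).hom r) = algebraMap R T r := RingHom.congr_fun he.comp_gamma
  obtain ⟨z₁, hz₁⟩ := exists_chartPoint (c := c) θ₁ (RingHom.ext fun r => TrivSqZeroExt.ext (hγ r)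
    (Prod.ext (Subtype.ext (show θx _ - θe _ = 0 by
      rw [hγ, ← RingHom.comp_apply, hx.comp_gamma, sub_self])) rfl))
  obtain ⟨z₂, hz₂⟩ := exists_chartPoint (c := c) θ₂ (RingHom.ext fun r => TrivSqZeroExt.ext (hγ r)
    (Prod.ext rfl (Subtype.ext (show θy _ - θe _ = 0 by
      rw [hγ, ← RingHom.comp_apply, hy.comp_gamma, sub_self]))))
  have heW : ∀ {W' : Type u} [CommRing W'] [Algebra R W'] (g : T →ₐ[R] W'),
      IsChart c (1 : Pt G W') (g.toRingHom.comp θe) := fun g => by
    have := he.res g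
    rwa [MonObj.comp_one] at this
  let fst : (TrivSqZeroExt T (N × N)) →ₐ[R] T := TrivSqZeroExt.fstHom R T (N × N)
  have hfst : ∀ (z : Pt G (TrivSqZeroExt T (N × N))) (θ : C →+* (TrivSqZeroExt T (N × N))), IsChart c z θ → (∀ a, (θ a).fst = θe a) → spMap fst ≫ z = 1 := by
    intro z θ hz hθ
    apply Over.OverMorphism.ext
    rw [hz.res fst, he, show fst.toRingHom.comp θ = θe from RingHom.ext hθ]
  have hnil : ∀ w : (TrivSqZeroExt T (N × N)), fst w = 0 → IsNilpotent w := fun w hw => ⟨2, by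
    have hw' : w.fst = 0 := hw
    rw [pow_two]
    exact TrivSqZeroExt.ext (by rw [TrivSqZeroExt.fst_mul, hw', mul_zero, TrivSqZeroExt.fst_zero])
      (by rw [TrivSqZeroExt.snd_mul, hw', zero_smul, MulOpposite.op_zero, zero_smul, add_zero, TrivSqZeroExt.snd_zero])⟩
  have h12 : spMap fst ≫ (z₁ * z₂) = 1 := by
    rw [MonObj.comp_mul, hfst z₁ θ₁ hz₁ fun _ => rfl, hfst z₂ θ₂ hz₂ fun _ => rfl, one_mul]
  obtain ⟨θ, hθ⟩ := exists_chart_of_congr (c := c) fst (fun t => ⟨inl t, rfl⟩) hnil (z₁ * z₂) 1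
    (inl.toRingHom.comp θe) (heW inl) (by rw [h12, MonObj.comp_one])
  -- killing components
  let k₁ : (TrivSqZeroExt T (N × N)) →ₐ[R] (TrivSqZeroExt T (N × N)) :=
    { toFun := fun w => (w.fst, (w.snd.1, 0))
      map_one' := TrivSqZeroExt.ext rfl rfl
      map_mul' := fun a b => TrivSqZeroExt.ext rfl (Prod.ext rfl (show (0 : N) = a.fst • (0 : N) + MulOpposite.op b.fst • (0 : N) by rw [smul_zero, smul_zero, add_zero]))
      map_zero' := TrivSqZeroExt.ext rfl rfl
      map_add' := fun a b => TrivSqZeroExt.ext rfl (Prod.ext rfl (add_zero (0 : N)).symm)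
      commutes' := fun r => TrivSqZeroExt.ext rfl (Prod.ext rfl rfl) }
  let k₂ : (TrivSqZeroExt T (N × N)) →ₐ[R] (TrivSqZeroExt T (N × N)) :=
    { toFun := fun w => (w.fst, (0, w.snd.2))
      map_one' := TrivSqZeroExt.ext rfl rfl
      map_mul' := fun a b => TrivSqZeroExt.ext rfl (Prod.ext (show (0 : N) = a.fst • (0 : N) + MulOpposite.op b.fst • (0 : N) by rw [smul_zero, smul_zero, add_zero]) rfl)
      map_zero' := TrivSqZeroExt.ext rfl rfl
      map_add' := fun a b => TrivSqZeroExt.ext rfl (Prod.ext (add_zero (0 : N)).symm rfl)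
      commutes' := fun r => TrivSqZeroExt.ext rfl (Prod.ext rfl rfl) }
  have hk : ∀ (k : (TrivSqZeroExt T (N × N)) →ₐ[R] (TrivSqZeroExt T (N × N))) (z : Pt G (TrivSqZeroExt T (N × N))) (θz ψ : C →+* (TrivSqZeroExt T (N × N))), IsChart c z θz → k.toRingHom.comp θz = ψ →
      IsChart c (spMap k ≫ z) ψ := fun k z θz ψ hz h => h ▸ hz.res k
  have h1 : k₁.toRingHom.comp θ = θ₁ := by
    refine (hθ.res k₁).unique ?_
    rw [MonObj.comp_mul]
    have hb : spMap k₁ ≫ z₂ = 1 := by
      apply Over.OverMorphism.ext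
      rw [hk k₁ z₂ θ₂ (inl.toRingHom.comp θe) hz₂ (RingHom.ext fun a => TrivSqZeroExt.ext rfl (Prod.ext rfl rfl)),
        heW inl]
    rw [hb, mul_one]
    exact hk k₁ z₁ θ₁ θ₁ hz₁ (RingHom.ext fun a => TrivSqZeroExt.ext rfl (Prod.ext rfl rfl))
  have h2 : k₂.toRingHom.comp θ = θ₂ := by
    refine (hθ.res k₂).unique ?_
    rw [MonObj.comp_mul]
    have hb : spMap k₂ ≫ z₁ = 1 := by
      apply Over.OverMorphism.ext
      rw [hk k₂ z₁ θ₁ (inl.toRingHom.comp θe) hz₁ (RingHom.ext fun a => TrivSqZeroExt.ext rfl (Prod.ext rfl rfl)),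
        heW inl]
    rw [hb, one_mul]
    exact hk k₂ z₂ θ₂ θ₂ hz₂ (RingHom.ext fun a => TrivSqZeroExt.ext rfl (Prod.ext rfl rfl))
  let π : (TrivSqZeroExt T (N × N)) →ₐ[R] T :=
    { toFun := fun w => w.fst + w.snd.1 + w.snd.2
      map_one' := by simp [TrivSqZeroExt.fst_one, TrivSqZeroExt.snd_one]
      map_mul' := fun a b => by
        have e1 := hN _ a.snd.1.2 _ b.snd.1.2
        have e2 := hN _ a.snd.1.2 _ b.snd.2.2
        have e3 := hN _ a.snd.2.2 _ b.snd.1.2
        have e4 := hN _ a.snd.2.2 _ b.snd.2.2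
        simp only [TrivSqZeroExt.fst_mul, TrivSqZeroExt.snd_mul, op_smul_eq_smul, Prod.fst_add, Prod.snd_add,
          Prod.smul_fst, Prod.smul_snd, Submodule.coe_add, Submodule.coe_smul, smul_eq_mul]
        linear_combination -e1 - e2 - e3 - e4
      map_zero' := by simp [TrivSqZeroExt.fst_zero, TrivSqZeroExt.snd_zero]
      map_add' := fun a b => by
        simp only [TrivSqZeroExt.fst_add, TrivSqZeroExt.snd_add, Prod.fst_add, Prod.snd_add, Submodule.coe_add]
        ring
      commutes' := fun r => by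
        show (algebraMap R T r) + ((0 : N) : T) + ((0 : N) : T) = _
        simp }
  have hπ : ∀ (z : Pt G (TrivSqZeroExt T (N × N))) (θz : C →+* (TrivSqZeroExt T (N × N))) (w : Pt G T) (θw : C →+* T), IsChart c z θz → IsChart c w θw →
      (∀ a, π (θz a) = θw a) → spMap π ≫ z = w := by
    intro z θz w θw hz hw h
    apply Over.OverMorphism.ext
    rw [hz.res π, hw, show π.toRingHom.comp θz = θw from RingHom.ext h]
  refine ⟨π.toRingHom.comp θ, ?_, fun a => ?_⟩
  · have := hθ.res π
    rwa [MonObj.comp_mul, hπ z₁ θ₁ x θx hz₁ hx fun a => by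
        show θe a + (θx a - θe a) + ((0 : N) : T) = θx a
        rw [Submodule.coe_zero, add_zero, add_sub_cancel],
      hπ z₂ θ₂ y θy hz₂ hy fun a => by
        show θe a + ((0 : N) : T) + (θy a - θe a) = θy a
        rw [Submodule.coe_zero, add_zero, add_sub_cancel]] at this
  · have e1 := RingHom.congr_fun h1 a
    have e2 := RingHom.congr_fun h2 a
    have f0 : (θ a).fst = θe a := congrArg TrivSqZeroExt.fst e1
    have f1 : ((θ a).snd.1 : T) = θx a - θe a := congrArg (fun w : (TrivSqZeroExt T (N × N)) => (w.snd.1 : T)) e1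
    have f2 : ((θ a).snd.2 : T) = θy a - θe a := congrArg (fun w : (TrivSqZeroExt T (N × N)) => (w.snd.2 : T)) e2
    show (θ a).fst + (θ a).snd.1 + (θ a).snd.2 = _
    rw [f0, f1, f2]
    ring

end Chart

variable [GrpObj G]

theorem spMap_pt {A T T' : Type u} [CommRing A] [HopfAlgebra R A] [CommRing T] [Algebra R T] [CommRing T']
    [Algebra R T'] (g : T →ₐ[R] T') (φ : WithConv (A →ₐ[R] T)) : spMap g ≫ pt φ = pt (toConv (g.comp φ.ofConv)) := by
  apply Over.OverMorphism.ext
  show Spec.map _ ≫ Spec.map _ = Spec.map _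
  rw [← Spec.map_comp, ← CommRingCat.ofHom_comp]
  rfl

/-- Rigidity with the unit section in a chart. -/
theorem eq_one_of_chart {A : Type u} [CommRing A] [HopfAlgebra R A] (hA : SGA3b.IsMultType R A)
    (u : (specGrp R A).X ⟶ G) [IsMonHom u] {C : Type u} [CommRing C] (c : Spec (CommRingCat.of C) ⟶ G.left)
    [IsOpenImmersion c] (R' : Type u) [CommRing R'] [Algebra R R'] (I : Ideal R') (hI : I * I = ⊥) (θe : C →+* R')
    (he : IsChart c (1 : Pt G R') θe)
    (h : pt (toConv (((Algebra.TensorProduct.map (Ideal.Quotient.mkₐ R I) (AlgHom.id R A))).comp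
      (Algebra.TensorProduct.includeRight : A →ₐ[R] R' ⊗[R] A))) ≫ u = 1) :
    pt (toConv (Algebra.TensorProduct.includeRight : A →ₐ[R] R' ⊗[R] A)) ≫ u = 1 := by
  let A' := R' ⊗[R] A
  let N : Ideal A' := I.map (algebraMap R' A')
  have hN2 : N * N = ⊥ := by rw [← Ideal.map_mul, hI, Ideal.map_bot]
  let ι' : WithConv (A →ₐ[R] A') := toConv Algebra.TensorProduct.includeRight
  let x : Pt G A' := pt ι' ≫ u
  let inl : R' →ₐ[R] A' := IsScalarTower.toAlgHom R R' A'
  have he' : IsChart c (1 : Pt G A') (inl.toRingHom.comp θe) := by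
    have := he.res inl
    rwa [MonObj.comp_one] at this
  let g : A' →ₐ[R] (R' ⧸ I) ⊗[R] A := Algebra.TensorProduct.map (Ideal.Quotient.mkₐ R I) (AlgHom.id R A)
  have hgs : Function.Surjective g :=
    TensorProduct.map_surjective Ideal.Quotient.mk_surjective Function.surjective_id
  have hgk : RingHom.ker g = N := by
    have h1 := Algebra.TensorProduct.rTensor_ker (R := R) (C := A) (Ideal.Quotient.mkₐ R I) Ideal.Quotient.mk_surjective
    rw [show RingHom.ker (Ideal.Quotient.mkₐ R I) = I from Ideal.Quotient.mkₐ_ker R I] at h1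
    exact h1
  have hnil : ∀ a, g a = 0 → IsNilpotent a := fun a ha => ⟨2, by
    have haN : a ∈ N := hgk ▸ ha
    rw [pow_two, ← Ideal.mem_bot, ← hN2]
    exact Ideal.mul_mem_mul haN haN⟩
  have hx1 : spMap g ≫ x = 1 := by
    rw [← Category.assoc, spMap_pt]
    exact h
  obtain ⟨θx, hx⟩ := exists_chart_of_congr (c := c) g hgs hnil x 1 _ he' (by rw [hx1, MonObj.comp_one])
  let d : C → A' := fun a => θx a - inl (θe a)
  have hdN : ∀ a, d a ∈ N := by
    intro a
    rw [← hgk, RingHom.mem_ker, map_sub, sub_eq_zero]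
    have h1 := (hx.res g)
    rw [hx1] at h1
    have h2 := he'.res g
    rw [MonObj.comp_one] at h2
    exact RingHom.congr_fun (h1.unique h2) a
  -- primitivity
  let W := A' ⊗[R'] A'
  let i₁ : A' →ₐ[R] W := (Algebra.TensorProduct.includeLeft : A' →ₐ[R'] W).restrictScalars R
  let i₂ : A' →ₐ[R] W := (Algebra.TensorProduct.includeRight : A' →ₐ[R'] W).restrictScalars R
  let Δ : A' →ₐ[R] W := (Bialgebra.comulAlgHom R' A').restrictScalars R
  have hΔ : spMap Δ ≫ x = (spMap i₁ ≫ x) * (spMap i₂ ≫ x) := by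
    simp only [x, ← Category.assoc, spMap_pt]
    rw [← MonObj.mul_comp]
    congr 1
    refine (congrArg pt ?_).trans (map_mul Spec.mapMulEquiv _ _)
    refine WithConv.ext (AlgHom.ext fun a => ?_)
    rw [AlgHom.convMul_def]
    show (Coalgebra.comul (R := R') (A := R' ⊗[R] A) ((1 : R') ⊗ₜ[R] a) : (R' ⊗[R] A) ⊗[R'] (R' ⊗[R] A)) = _
    rw [TensorProduct.comul_tmul, CommSemiring.comul_apply]
    simp only [AlgHom.comp_apply, ofConv_toConv, Bialgebra.comulAlgHom_apply]
    induction Coalgebra.comul (R := R) a using TensorProduct.induction_on with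
    | zero => simp
    | add p q hp hq => simp only [TensorProduct.tmul_add, map_add, hp, hq]
    | tmul p q =>
      simp [i₁, i₂, ι', W]
      rfl
  let N' : Ideal W := I.map (algebraMap R' W)
  have hN' : ∀ a ∈ N', ∀ b ∈ N', a * b = 0 := by
    intro a ha b hb
    have hab := Ideal.mul_mem_mul ha hb
    rwa [← Ideal.map_mul, hI, Ideal.map_bot, Ideal.mem_bot] at hab
  have hmem : ∀ (k : A' →ₐ[R'] W) (a : C), k (d a) ∈ N' := by
    intro k a
    have h1 : N.map k.toRingHom = N' := by
      simp only [N, N', Ideal.map_map]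
      rw [AlgHom.toRingHom_eq_coe, k.comp_algebraMap]
    rw [← h1]
    exact Ideal.mem_map_of_mem _ (hdN a)
  let inW : R' →ₐ[R] W := IsScalarTower.toAlgHom R R' W
  have heW : IsChart c (1 : Pt G W) (inW.toRingHom.comp θe) := by
    have := he.res inW
    rwa [MonObj.comp_one] at this
  have hsub : ∀ (k : A' →ₐ[R'] W) (a : C), k (θx a) - inW (θe a) = k (d a) := by
    intro k a
    simp only [d, map_sub, inl, inW, IsScalarTower.coe_toAlgHom', AlgHom.commutes]
  obtain ⟨θ, hθ, hθeq⟩ := chart_mul (c := c) N' hN' (spMap i₁ ≫ x) (spMap i₂ ≫ x) _ _ _ heW (hx.res i₁) (hx.res i₂)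
    (fun a => hsub Algebra.TensorProduct.includeLeft a ▸ hmem _ a)
    (fun a => hsub Algebra.TensorProduct.includeRight a ▸ hmem _ a)
  have hprim : ∀ a, Coalgebra.comul (R := R') (d a) = d a ⊗ₜ 1 + 1 ⊗ₜ d a := by
    intro a
    have h1 := hx.res Δ
    rw [hΔ] at h1
    have h2 : Δ (θx a) = i₁ (θx a) + i₂ (θx a) - inW (θe a) :=
      (RingHom.congr_fun (h1.unique hθ) a).trans (hθeq a)
    have e1 := hsub (Bialgebra.comulAlgHom R' A') a
    have e2 := hsub Algebra.TensorProduct.includeLeft a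
    have e3 := hsub Algebra.TensorProduct.includeRight a
    show (Bialgebra.comulAlgHom R' A') (d a) = _
    rw [← e1]
    refine Eq.trans ?_ (congrArg₂ (· + ·) e2 e3)
    show Δ (θx a) - inW (θe a) = (i₁ (θx a) - inW (θe a)) + (i₂ (θx a) - inW (θe a))
    rw [h2]
    ring
  have hd0 : θx = inl.toRingHom.comp θe := RingHom.ext fun a =>
    sub_eq_zero.1 (primitive_eq_zero (Groth.Agent.MultT.isMultType_baseChange hA R') (d a) (hprim a))
  show x = 1
  apply Over.OverMorphism.ext
  rw [hx, hd0, he']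

/-- **Square-zero rigidity.** -/
theorem ker_of_sq_zero {A : Type u} [CommRing A] [HopfAlgebra R A] (hA : SGA3b.IsMultType R A)
    (u : (specGrp R A).X ⟶ G) [IsMonHom u] (J : Ideal A)
    (hJ : ∀ (T : Type u) [CommRing T] [Algebra R T] (φ : WithConv (A →ₐ[R] T)), pt φ ≫ u = 1 ↔ J ≤ RingHom.ker φ.ofConv)
    (R' : Type u) [CommRing R'] [Algebra R R'] (I : Ideal R') (hI : I * I = ⊥)
    (h : ∀ z ∈ J, (Ideal.Quotient.mk I 1) ⊗ₜ[R] z = (0 : (R' ⧸ I) ⊗[R] A)) :
    ∀ z ∈ J, (1 : R') ⊗ₜ[R] z = 0 := by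
  intro z hz
  by_contra hne
  obtain ⟨m, hm, hle⟩ := Ideal.exists_le_maximal
    (Submodule.colon (⊥ : Submodule R' (R' ⊗[R] A)) ({(1 : R') ⊗ₜ[R] z} : Set (R' ⊗[R] A)))
    (fun ht => hne (by
      have h1 : (1 : R') ∈ Submodule.colon (⊥ : Submodule R' (R' ⊗[R] A)) ({(1 : R') ⊗ₜ[R] z} : Set (R' ⊗[R] A)) :=
        ht ▸ Submodule.mem_top
      rw [Submodule.mem_colon_singleton, one_smul] at h1
      simpa using h1))
  let q : ↥(Spec (CommRingCat.of R')) := ⟨m, hm.isPrime⟩
  obtain ⟨_, ⟨V, hV, rfl⟩, hqV, -⟩ := G.left.isBasis_affineOpens.exists_subset_of_mem_open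
    (Set.mem_univ ((1 : Pt G R').left q)) isOpen_univ
  obtain ⟨_, ⟨g, rfl⟩, hqg, hgV⟩ := PrimeSpectrum.isTopologicalBasis_basic_opens.exists_subset_of_mem_open
    (show (q : PrimeSpectrum R') ∈ ((1 : Pt G R').left ⁻¹' (V : Set G.left) : Set (PrimeSpectrum R')) from hqV)
    (V.isOpen.preimage (1 : Pt G R').left.continuous)
  let Rg := Localization.Away g
  let gm : R' →ₐ[R] Rg := IsScalarTower.toAlgHom R R' Rg
  have hone : (1 : Pt G Rg) = spMap gm ≫ (1 : Pt G R') := (MonObj.comp_one _).symm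
  have hr : Set.range (1 : Pt G Rg).left ⊆ Set.range hV.fromSpec := by
    rintro _ ⟨w, rfl⟩
    rw [hV.range_fromSpec, hone, Over.comp_left, Scheme.Hom.comp_apply]
    refine hgV ?_
    show (PrimeSpectrum.comap (algebraMap R' Rg) w) ∈ (PrimeSpectrum.basicOpen g : Set (PrimeSpectrum R'))
    rw [← PrimeSpectrum.localization_away_comap_range Rg g]
    exact ⟨w, rfl⟩
  let θe : Γ(G.left, V) →+* Rg := (Spec.preimage (IsOpenImmersion.lift hV.fromSpec (1 : Pt G Rg).left hr)).hom
  have he : IsChart hV.fromSpec (1 : Pt G Rg) θe := by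
    show _ = _
    rw [CommRingCat.ofHom_hom, Spec.map_preimage, IsOpenImmersion.lift_fac]
  let I' := I.map (algebraMap R' Rg)
  have hI' : I' * I' = ⊥ := by rw [← Ideal.map_mul, hI, Ideal.map_bot]
  have h1 := eq_one_of_chart hA u hV.fromSpec Rg I' hI' θe he ((hJ _ _).2 fun y hy => by
    rw [RingHom.mem_ker]
    show Ideal.Quotient.mk I' 1 ⊗ₜ[R] y = 0
    have h2 := congrArg (Algebra.TensorProduct.map (Ideal.quotientMapₐ I' gm Ideal.le_comap_map) (AlgHom.id R A)) (h y hy)
    simpa using h2)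
  have h3 : (1 : Rg) ⊗ₜ[R] z = 0 := (hJ _ _).1 h1 hz
  have h4 : (1 : Rg) ⊗ₜ[R'] ((1 : R') ⊗ₜ[R] z) = 0 := by
    apply (TensorProduct.AlgebraTensorModule.cancelBaseChange R R' Rg Rg A).injective
    rw [TensorProduct.AlgebraTensorModule.cancelBaseChange_tmul, map_zero, one_smul]
    exact h3
  obtain ⟨qg, hqg'⟩ : (q : PrimeSpectrum R') ∈ Set.range (PrimeSpectrum.comap (algebraMap R' Rg)) := by
    rw [PrimeSpectrum.localization_away_comap_range Rg g]
    exact hqg
  obtain ⟨r, hr, hr0⟩ := Groth.Agent.MultT.exists_smul_eq_zero_of_tmul h4 qg.asIdeal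
  apply hr
  rw [show qg.asIdeal.comap (algebraMap R' Rg) = m from congrArg PrimeSpectrum.asIdeal hqg']
  exact hle (Submodule.mem_colon_singleton.2 ((Submodule.mem_bot R').2 hr0))

end Groth.Agent.MTBridge
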