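import Groth.Agent.MTBridge.Inclusion
import Mathlib

/-!
# Spreading out a factorization through a subgroup scheme
-/

set_option autoImplicit false
set_option linter.style.haveILetI false
set_option linter.unusedSectionVars false
set_option backward.isDefEq.respectTransparency false
set_option maxHeartbeats 1000000
set_option synthInstance.maxHeartbeats 400000

universe u

open CategoryTheory Limits MonoidalCategory CartesianMonoidalCategory AlgebraicGeometry TensorProduct Opposite
open TopologicalSpace WithConv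
open scoped CategoryTheory.Obj MonObj

noncomputable section

namespace Groth.Agent.MTBridge

variable {R : Type u} [CommRing R] {G X : Over (Spec (CommRingCat.of R))}

theorem spMap_comp_assoc' {T T' T'' : Type u} [CommRing T] [Algebra R T] [CommRing T'] [Algebra R T'] [CommRing T'']
    [Algebra R T''] (f : T →ₐ[R] T') (f' : T' →ₐ[R] T'') (x : Pt G T) :
    spMap f' ≫ spMap f ≫ x = spMap (f'.comp f) ≫ x := by rw [← Category.assoc, spMap_comp]

/-- The locus of a restriction. -/
theorem imLocus_res (i : X ⟶ G) [IsImmersion i.left] {S S' : Type u} [CommRing S] [Algebra R S] [CommRing S']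
    [Algebra R S'] (x : Pt G S) (g : S →ₐ[R] S') :
    imLocus i (spMap g ≫ x) = PrimeSpectrum.comap g.toRingHom ⁻¹' imLocus i x := by
  ext P
  let hP : S' →ₐ[R] P.asIdeal.ResidueField := IsScalarTower.toAlgHom R _ _
  let Q := PrimeSpectrum.comap g.toRingHom P
  have hQ : RingHom.ker (hP.comp g) = Q.asIdeal := Ideal.ext fun a => by
    rw [RingHom.mem_ker]
    exact Ideal.algebraMap_residueField_eq_zero
  constructor
  · intro h
    obtain ⟨z, hz⟩ := inIm_residueField i _ P h
    rw [spMap_comp_assoc'] at hz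
    exact mem_imLocus_of_inIm i x (hP.comp g) ⟨z, hz⟩ Q hQ
  · intro h
    let m : Q.asIdeal.ResidueField →ₐ[R] P.asIdeal.ResidueField :=
      Ideal.ResidueField.mapₐ Q.asIdeal P.asIdeal g rfl
    have hm : m.comp (IsScalarTower.toAlgHom R S Q.asIdeal.ResidueField) = hP.comp g :=
      AlgHom.ext fun t => Ideal.ResidueField.map_algebraMap _ _ g.toRingHom rfl t
    obtain ⟨z, hz⟩ := (inIm_residueField i x Q h).res m
    rw [spMap_comp_assoc', hm] at hz
    refine mem_imLocus_of_inIm i (spMap g ≫ x) hP ⟨z, by rw [spMap_comp_assoc', hz]⟩ P (Ideal.ext fun a => ?_)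
    rw [RingHom.mem_ker]
    exact Ideal.algebraMap_residueField_eq_zero

/-- **Spreading out**: a point which comes from `X` over a localization of the base comes from `X` over a basic open. -/
theorem exists_away_factor (i : X ⟶ G) [IsImmersion i.left] {A : Type u} [CommRing A] [Algebra R A] (x : Pt G A)
    (hfin : LocallyOfFinitePresentation i.left ∨ IsNoetherianRing A) (p : Ideal R) [p.IsPrime]
    (h : InIm i (spMap (Algebra.TensorProduct.includeRight : A →ₐ[R] Localization.AtPrime p ⊗[R] A) ≫ x)) :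
    ∃ g : R, g ∉ p ∧ InIm i (spMap (IsScalarTower.toAlgHom R A (Localization.Away (algebraMap R A g))) ≫ x) := by
  classical
  let M := Algebra.algebraMapSubmonoid A p.primeCompl
  let T := Localization M
  let ρ : Localization.AtPrime p →ₐ[R] T :=
    IsLocalization.liftAlgHom (M := p.primeCompl) (f := Algebra.ofId R T) fun r => by
      show IsUnit (algebraMap R T r)
      rw [IsScalarTower.algebraMap_apply R A T]
      exact IsLocalization.map_units T (⟨_, Algebra.mem_algebraMapSubmonoid_of_mem r⟩ : M)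
  let w : Localization.AtPrime p ⊗[R] A →ₐ[R] T :=
    Algebra.TensorProduct.productMap ρ (IsScalarTower.toAlgHom R A T)
  have hT : InIm i (spMap (IsScalarTower.toAlgHom R A T) ≫ x) := by
    have h1 := h.res w
    rwa [spMap_comp_assoc', show w.comp Algebra.TensorProduct.includeRight = IsScalarTower.toAlgHom R A T from
      AlgHom.ext fun a => by simp [w]] at h1
  -- the locus is closed over a basic open
  obtain ⟨U, hU, hUeq⟩ := exists_isOpen_imLocus i x
  obtain ⟨I, hI⟩ : ∃ I : Ideal A, PrimeSpectrum.zeroLocus (I : Set A) = Uᶜ := by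
    obtain ⟨I, hI⟩ := (PrimeSpectrum.isClosed_iff_zeroLocus_ideal _).1 hU.isClosed_compl
    exact ⟨I, hI.symm⟩
  have hIT : I.map (algebraMap A T) = ⊤ := by
    by_contra hne
    obtain ⟨Q, hQ, hle⟩ := Ideal.exists_le_maximal _ hne
    let hQa : T →ₐ[R] Q.ResidueField := IsScalarTower.toAlgHom R _ _
    obtain ⟨z, hz⟩ := hT.res hQa
    rw [spMap_comp_assoc'] at hz
    let Q' : PrimeSpectrum A := PrimeSpectrum.comap (algebraMap A T) ⟨Q, hQ.isPrime⟩
    have h1 : Q' ∈ imLocus i x := mem_imLocus_of_inIm i x _ ⟨z, hz⟩ Q' (Ideal.ext fun a => by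
      rw [RingHom.mem_ker]
      exact Ideal.algebraMap_residueField_eq_zero)
    have h2 : Q' ∈ Uᶜ := hI.le (show (I : Set A) ⊆ Q'.asIdeal from fun a ha => hle (Ideal.mem_map_of_mem _ ha))
    exact h2 (hUeq.le h1).1
  obtain ⟨t, ht, htI⟩ : ∃ t ∈ p.primeCompl, algebraMap R A t ∈ I := by
    have h1 : algebraMap A T 1 ∈ I.map (algebraMap A T) := hIT ▸ Submodule.mem_top
    obtain ⟨⟨⟨a, ha⟩, ⟨m, hm⟩⟩, he⟩ := (IsLocalization.mem_map_algebraMap_iff M T).1 h1
    rw [← map_mul, one_mul] at he
    obtain ⟨⟨c, hc⟩, hce⟩ := (IsLocalization.eq_iff_exists M T).1 he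
    obtain ⟨t, ht, hte⟩ := M.mul_mem hc hm
    exact ⟨t, ht, by rw [hte]; exact hce ▸ Ideal.mul_mem_left _ _ ha⟩
  let At := Localization.Away (algebraMap R A t)
  let gt : A →ₐ[R] At := IsScalarTower.toAlgHom R A At
  have hsub : ∀ P : PrimeSpectrum At, PrimeSpectrum.comap gt.toRingHom P ∈ U := by
    intro P
    by_contra hP
    have h1 : (I : Set A) ⊆ (PrimeSpectrum.comap gt.toRingHom P).asIdeal := hI.ge hP
    exact P.isPrime.ne_top (Ideal.eq_top_of_isUnit_mem _ (h1 htI)
      (IsLocalization.Away.algebraMap_isUnit (S := At) (algebraMap R A t)))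
  have hcl : IsClosed (imLocus i (spMap gt ≫ x)) := by
    rw [imLocus_res i x gt, show PrimeSpectrum.comap gt.toRingHom ⁻¹' imLocus i x =
      PrimeSpectrum.comap gt.toRingHom ⁻¹' closure (imLocus i x) from Set.ext fun P =>
        ⟨fun hP => subset_closure hP, fun hP => hUeq.ge ⟨hsub P, hP⟩⟩]
    exact isClosed_closure.preimage (PrimeSpectrum.continuous_comap _)
  obtain ⟨J, hJfg, hJ⟩ := exists_factor_ideal i (spMap gt ≫ x) hcl
  obtain ⟨F, hF⟩ := hJfg (hfin.imp id fun h => by
    haveI := h
    exact IsLocalization.isNoetherianRing (Submonoid.powers (algebraMap R A t)) At inferInstance)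
  -- a denominator killing the ideal
  have hu : IsUnit ((IsScalarTower.toAlgHom R A T) (algebraMap R A t)) :=
    IsLocalization.map_units T (⟨_, Algebra.mem_algebraMapSubmonoid_of_mem (⟨t, ht⟩ : p.primeCompl)⟩ : M)
  have hex : ∀ s ∈ J, ∃ r ∈ p.primeCompl, algebraMap R At r * s = 0 := by
    intro s hs
    let gT : At →ₐ[R] T := IsLocalization.liftAlgHom (M := Submonoid.powers (algebraMap R A t))
      (f := IsScalarTower.toAlgHom R A T) (fun y => by
        obtain ⟨_, k, rfl⟩ := y
        show IsUnit (algebraMap A T (algebraMap R A t ^ k))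
        rw [map_pow]
        exact hu.pow k)
    have hgT : ∀ a, gT (algebraMap A At a) = algebraMap A T a := fun a => by
      rw [IsLocalization.liftAlgHom_apply, IsLocalization.lift_eq]
      rfl
    have hs0 : gT s = 0 := by
      refine (hJ T gT).1 ?_ hs
      rw [spMap_comp_assoc', show gT.comp gt = IsScalarTower.toAlgHom R A T from AlgHom.ext hgT]
      exact hT
    obtain ⟨a, ⟨_, k, rfl⟩, he⟩ := IsLocalization.exists_mk'_eq (Submonoid.powers (algebraMap R A t)) s
    have ha : algebraMap A T a = 0 := by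
      have h1 : algebraMap A At a = s * algebraMap A At (algebraMap R A t ^ k) := by
        rw [← he]; exact (IsLocalization.mk'_spec _ _ _).symm
      rw [← hgT, h1, map_mul, hs0, zero_mul]
    obtain ⟨⟨c, r, hr, rfl⟩, hc⟩ := (IsLocalization.map_eq_zero_iff M T a).1 ha
    refine ⟨r, hr, ?_⟩
    have h2 : algebraMap R At r * s * algebraMap A At (algebraMap R A t ^ k) = 0 := by
      rw [mul_assoc, ← he, IsLocalization.mk'_spec, IsScalarTower.algebraMap_apply R A At, ← map_mul]
      exact (congrArg (algebraMap A At) hc).trans (map_zero _)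
    refine (IsUnit.mul_left_eq_zero ?_).1 h2
    exact IsLocalization.map_units At (⟨_, k, rfl⟩ : Submonoid.powers (algebraMap R A t))
  choose! r hr hrs using hex
  have hFJ : ∀ s ∈ F, s ∈ J := fun s hs => hF ▸ Ideal.subset_span hs
  refine ⟨t * ∏ s ∈ F, r s, fun hmem => (Ideal.IsPrime.mem_or_mem ‹_› hmem).elim ht
    fun h => (p.primeCompl.prod_mem fun s hs => hr s (hFJ s hs)) h, ?_⟩
  let g := t * ∏ s ∈ F, r s
  let Ag := Localization.Away (algebraMap R A g)
  have hug : IsUnit (algebraMap A Ag (algebraMap R A g)) := IsLocalization.Away.algebraMap_isUnit (algebraMap R A g)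
  replace hug : IsUnit (algebraMap A Ag (algebraMap R A t)) ∧ IsUnit (algebraMap A Ag (algebraMap R A (∏ s ∈ F, r s))) := by
    have e : algebraMap A Ag (algebraMap R A g) = algebraMap A Ag (algebraMap R A t) * algebraMap A Ag (algebraMap R A (∏ s ∈ F, r s)) := by
      rw [← map_mul, ← map_mul]
    exact IsUnit.mul_iff.1 (e ▸ hug)
  let m : At →ₐ[R] Ag := IsLocalization.liftAlgHom (M := Submonoid.powers (algebraMap R A t))
    (f := IsScalarTower.toAlgHom R A Ag) (fun y => by
      obtain ⟨_, k, rfl⟩ := y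
      simpa using hug.1.pow k)
  have hm : m.comp gt = IsScalarTower.toAlgHom R A Ag := AlgHom.ext fun a => by
    show m (algebraMap A At a) = _
    rw [IsLocalization.liftAlgHom_apply, IsLocalization.lift_eq]
    rfl
  show InIm i (spMap (IsScalarTower.toAlgHom R A Ag) ≫ x)
  rw [← hm, ← spMap_comp_assoc', hJ]
  rw [← hF, Ideal.span_le]
  intro s hs
  have h1 := congrArg m (hrs s (hFJ s (Finset.mem_coe.1 hs)))
  rw [map_mul, map_zero, AlgHom.commutes] at h1
  refine RingHom.mem_ker.2 ((IsUnit.mul_right_eq_zero ?_).1 h1)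
  rw [IsScalarTower.algebraMap_apply R A Ag]
  exact isUnit_of_dvd_unit (map_dvd (algebraMap A Ag) (map_dvd (algebraMap R A) (Finset.dvd_prod_of_mem r (Finset.mem_coe.1 hs)))) hug.2

end Groth.Agent.MTBridge
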