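import Groth.Agent.MTBridge.EndoId
import Mathlib

/-!
# Averaging points trivial modulo an ideal over a group of multiplicative type
-/

set_option autoImplicit false
set_option linter.style.haveILetI false
set_option backward.isDefEq.respectTransparency false
set_option maxHeartbeats 1000000
set_option synthInstance.maxHeartbeats 400000

universe u

open CategoryTheory Limits MonoidalCategory CartesianMonoidalCategory AlgebraicGeometry TensorProduct Opposite
open TopologicalSpace WithConv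
open scoped CategoryTheory.Obj MonObj

noncomputable section

namespace Groth.Agent.MTBridge

variable {R : Type u} [CommRing R] {J : Ideal R} {T A : Type u} [CommRing T] [Algebra R T] [CommRing A]

section

variable [Algebra R A]

/-- A linear retraction restricts to the ring of constants plus the ideal as a homomorphism. -/
theorem exists_sqInt' (hJ : (J.map (algebraMap R T)) ^ 2 = ⊥) (l : A →ₗ[R] R) (hl : l 1 = 1) :
    ∃ I : sqSub J T A →ₐ[R] T, ∀ z, I z = TensorProduct.rid R T (l.lTensor T (z : T ⊗[R] A)) := by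
  let L : T ⊗[R] A →ₗ[R] T := (TensorProduct.rid R T).toLinearMap ∘ₗ l.lTensor T
  have hL1 : ∀ t : T, L (t ⊗ₜ 1) = t := fun t => by simp [L, hl]
  have hLT : ∀ (t : T) (z : T ⊗[R] A), L ((t ⊗ₜ 1) * z) = t * L z := by
    intro t z
    induction z using TensorProduct.induction_on with
    | zero => simp
    | tmul a b => simp [L]
    | add x y hx hy => simp only [mul_add, map_add, hx, hy]
  have hLJ : ∀ z ∈ J.map (algebraMap R (T ⊗[R] A)), L z ∈ J.map (algebraMap R T) := by
    intro z hz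
    have h1 : z ∈ (J • ⊤ : Submodule R (T ⊗[R] A)) := by
      rw [Ideal.smul_top_eq_map, Submodule.restrictScalars_mem]; exact hz
    have h2 : L z ∈ (J • ⊤ : Submodule R T) := by
      refine Submodule.smul_induction_on h1 (fun r hr x _ => ?_) (fun x y hx hy => ?_)
      · rw [map_smul]; exact Submodule.smul_mem_smul hr trivial
      · rw [map_add]; exact add_mem hx hy
    rwa [Ideal.smul_top_eq_map, Submodule.restrictScalars_mem] at h2
  have hzero : ∀ {a b : T}, a ∈ J.map (algebraMap R T) → b ∈ J.map (algebraMap R T) → a * b = 0 := by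
    intro a b ha hb
    have := Ideal.mul_mem_mul ha hb
    rwa [← pow_two, hJ, Ideal.mem_bot] at this
  have hzero' : ∀ {a b : T ⊗[R] A}, a ∈ J.map (algebraMap R (T ⊗[R] A)) → b ∈ J.map (algebraMap R (T ⊗[R] A)) →
      a * b = 0 := by
    intro a b ha hb
    have h2 := Ideal.mul_mem_mul ha hb
    rwa [← Ideal.map_mul, IsScalarTower.algebraMap_eq R T (T ⊗[R] A), ← Ideal.map_map, Ideal.map_mul, ← pow_two, hJ,
      Ideal.map_bot, Ideal.mem_bot] at h2
  have hmul : ∀ z w : sqSub J T A, L ((z : T ⊗[R] A) * w) = L z * L w := by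
    rintro ⟨z, hz⟩ ⟨w, hw⟩
    obtain ⟨t, ht⟩ := mem_sqSub.1 hz
    obtain ⟨s, hs⟩ := mem_sqSub.1 hw
    obtain ⟨x, hx⟩ : ∃ x, x = z - t ⊗ₜ[R] (1 : A) := ⟨_, rfl⟩
    obtain ⟨y, hy⟩ : ∃ y, y = w - s ⊗ₜ[R] (1 : A) := ⟨_, rfl⟩
    rw [← hx] at ht
    rw [← hy] at hs
    obtain rfl : z = t ⊗ₜ 1 + x := by rw [hx]; ring
    obtain rfl : w = s ⊗ₜ 1 + y := by rw [hy]; ring
    show L ((t ⊗ₜ 1 + x) * (s ⊗ₜ 1 + y)) = L (t ⊗ₜ 1 + x) * L (s ⊗ₜ 1 + y)
    simp only [add_mul, mul_add, map_add, hLT, hL1, mul_comm x (s ⊗ₜ[R] (1 : A)), hzero' ht hs,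
      hzero (hLJ x ht) (hLJ y hs), map_zero]
    ring
  exact ⟨AlgHom.ofLinearMap (L ∘ₗ (sqSub J T A).val.toLinearMap) (hL1 1) hmul, fun z => rfl⟩

end

variable [HopfAlgebra R A] {G : Over (Spec (CommRingCat.of R))} [GrpObj G] {l : A →ₗ[R] R}

/-- `b` is the average of the point `d` trivial modulo the ideal. -/
def IsAvg (J : Ideal R) (l : A →ₗ[R] R) (d : Pt G (T ⊗[R] A)) (b : Pt G T) : Prop :=
  ∃ (d' : Pt G (sqSub J T A)) (I : sqSub J T A →ₐ[R] T),
    (∀ z, I z = TensorProduct.rid R T (l.lTensor T (z : T ⊗[R] A))) ∧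
    spMap (sqSub J T A).val ≫ d' = d ∧ spMap I ≫ d' = b

theorem epi_spMap_sqSub (hJ : IsNilpotent J) (T : Type u) [CommRing T] [Algebra R T] :
    Epi (spMap (sqSub J T A).val) := by
  obtain ⟨hs, hd⟩ := epi_sqSub (J := J) (T := T) hJ (Bialgebra.counitAlgHom R A)
  haveI := hs
  haveI := hd
  haveI : Epi (spMap (sqSub J T A).val).left := by
    show Epi (Spec.map (CommRingCat.ofHom (algebraMap (sqSub J T A) (T ⊗[R] A))))
    exact QuotScheme.epi_of_surjective_of_injective _ (Scheme.Hom.surjective _)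
      fun U => Scheme.Hom.app_injective _ U
  exact Over.epi_of_epi_left _

theorem IsAvg.unique (hJ : IsNilpotent J) {d : Pt G (T ⊗[R] A)} {b b' : Pt G T}
    (h : IsAvg J l d b) (h' : IsAvg J l d b') : b = b' := by
  obtain ⟨d₁, I₁, hI₁, hd₁, rfl⟩ := h
  obtain ⟨d₂, I₂, hI₂, hd₂, rfl⟩ := h'
  haveI := epi_spMap_sqSub (A := A) hJ T
  rw [(cancel_epi (spMap (sqSub J T A).val)).1 (hd₁.trans hd₂.symm),
    show I₁ = I₂ from AlgHom.ext fun z => (hI₁ z).trans (hI₂ z).symm]

theorem exists_isAvg (hJ : IsNilpotent J) (hT : (J.map (algebraMap R T)) ^ 2 = ⊥) (hl : l 1 = 1)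
    (d : Pt G (T ⊗[R] A))
    (h0 : ∀ (Q : Type u) [CommRing Q] [Algebra R Q] (f : T ⊗[R] A →ₐ[R] Q),
      (∀ x ∈ J, algebraMap R Q x = 0) → spMap f ≫ d = 1) :
    ∃ b, IsAvg J l d b := by
  obtain ⟨hs, hd⟩ := epi_sqSub (J := J) (T := T) hJ (Bialgebra.counitAlgHom R A)
  obtain ⟨d', hd'⟩ := exists_factor_of_smul_mem (hs := hs) (hd := hd) hJ Subtype.val_injective
    (fun c hc a => ⟨⟨c • a, smul_mem_sqSub hc a⟩, rfl⟩) d h0
  obtain ⟨I, hI⟩ := exists_sqInt' (T := T) (J := J) hT l hl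
  exact ⟨spMap I ≫ d', d', I, hI, hd', rfl⟩

theorem IsAvg.mul {d e : Pt G (T ⊗[R] A)} {b c : Pt G T}
    (h : IsAvg J l d b) (h' : IsAvg J l e c) : IsAvg J l (d * e) (b * c) := by
  obtain ⟨d', I, hI, hd, rfl⟩ := h
  obtain ⟨e', I', hI', he, rfl⟩ := h'
  refine ⟨d' * e', I, hI, by rw [MonObj.comp_mul, hd, he], ?_⟩
  rw [MonObj.comp_mul, show I' = I from AlgHom.ext fun z => (hI' z).trans (hI z).symm]

theorem IsAvg.inv {d : Pt G (T ⊗[R] A)} {b : Pt G T} (h : IsAvg J l d b) : IsAvg J l d⁻¹ b⁻¹ := by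
  obtain ⟨d', I, hI, hd, rfl⟩ := h
  exact ⟨d'⁻¹, I, hI, by rw [GrpObj.comp_inv, hd], by rw [GrpObj.comp_inv]⟩

theorem isAvg_const (hT : (J.map (algebraMap R T)) ^ 2 = ⊥) (hl : l 1 = 1) (x : Pt G T) :
    IsAvg J l (spMap (Algebra.TensorProduct.includeLeft : T →ₐ[R] T ⊗[R] A) ≫ x) x := by
  obtain ⟨I, hI⟩ := exists_sqInt' (T := T) (J := J) hT l hl
  let i : T →ₐ[R] sqSub J T A :=
    (Algebra.TensorProduct.includeLeft : T →ₐ[R] T ⊗[R] A).codRestrict _ fun t => tmul_one_mem t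
  refine ⟨spMap i ≫ x, I, hI, by rw [spMap_assoc]; rfl, ?_⟩
  rw [spMap_assoc, show I.comp i = AlgHom.id R T from AlgHom.ext fun t => ?_, spMap_id, Category.id_comp]
  show I (i t) = t
  rw [hI]
  show TensorProduct.rid R T (l.lTensor T (t ⊗ₜ[R] (1 : A))) = t
  simp [hl]

theorem IsAvg.map (hl : l 1 = 1) {U : Type u} [CommRing U] [Algebra R U] (hU : (J.map (algebraMap R U)) ^ 2 = ⊥)
    (F : T ⊗[R] A →ₐ[R] U ⊗[R] A) (f : T →ₐ[R] U) (hF : ∀ t, F (t ⊗ₜ 1) = f t ⊗ₜ 1)
    (hFl : ∀ z, TensorProduct.rid R U (l.lTensor U (F z)) = f (TensorProduct.rid R T (l.lTensor T z)))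
    {d : Pt G (T ⊗[R] A)} {b : Pt G T} (h : IsAvg J l d b) : IsAvg J l (spMap F ≫ d) (spMap f ≫ b) := by
  obtain ⟨d', I, hI, hd, rfl⟩ := h
  obtain ⟨F', hF'⟩ := exists_sq_restrict (J := J) F f hF
  obtain ⟨I', hI'⟩ := exists_sqInt' (T := U) (J := J) hU l hl
  refine ⟨spMap F' ≫ d', I', hI', by rw [spMap_assoc, hF', ← spMap_assoc, hd], ?_⟩
  rw [spMap_assoc, spMap_assoc, show I'.comp F' = f.comp I from AlgHom.ext fun z => ?_]
  show I' (F' z) = f (I z)
  rw [hI', hI, show ((F' z : sqSub J U A) : U ⊗[R] A) = F (z : T ⊗[R] A) from AlgHom.congr_fun hF' z, hFl]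

/-- Base change of the averaged variable. -/
def avgBC {U : Type u} [CommRing U] [Algebra R U] (f : T →ₐ[R] U) : T ⊗[R] A →ₐ[R] U ⊗[R] A :=
  Algebra.TensorProduct.map f (AlgHom.id R A)

theorem IsAvg.baseChange (hl : l 1 = 1) {U : Type u} [CommRing U] [Algebra R U]
    (hU : (J.map (algebraMap R U)) ^ 2 = ⊥) (f : T →ₐ[R] U)
    {d : Pt G (T ⊗[R] A)} {b : Pt G T} (h : IsAvg J l d b) : IsAvg J l (spMap (avgBC f) ≫ d) (spMap f ≫ b) := by
  refine h.map hl hU _ f (fun t => by simp [avgBC]) fun z => ?_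
  induction z using TensorProduct.induction_on with
  | zero => simp
  | add x y hx hy => simp only [map_add, hx, hy]
  | tmul t a => simp [avgBC]

/-- Translation of the averaged variable. -/
def avgTr (y : A →ₐ[R] T) : T ⊗[R] A →ₐ[R] T ⊗[R] A :=
  Algebra.TensorProduct.productMap Algebra.TensorProduct.includeLeft
    ((Algebra.TensorProduct.map y (AlgHom.id R A)).comp (Bialgebra.comulAlgHom R A))

theorem IsAvg.translate [Coalgebra.IsCocomm R A] (hl : l 1 = 1)
    (hinv : ∀ a, l.rTensor A (Coalgebra.comul a) = l a ⊗ₜ[R] (1 : A))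
    (hT : (J.map (algebraMap R T)) ^ 2 = ⊥) (y : A →ₐ[R] T)
    {d : Pt G (T ⊗[R] A)} {b : Pt G T} (h : IsAvg J l d b) : IsAvg J l (spMap (avgTr y) ≫ d) b := by
  have key := h.map hl hT (avgTr y) (AlgHom.id R T) (fun t => by simp [avgTr]) fun z => by
    induction z using TensorProduct.induction_on with
    | zero => simp
    | add x y hx hy => simp only [map_add, hx, hy]
    | tmul t a =>
      have h2 : ∀ (w : A ⊗[R] A) (s : T),
          TensorProduct.rid R T (l.lTensor T ((s ⊗ₜ[R] (1 : A)) * Algebra.TensorProduct.map y (AlgHom.id R A) w)) =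
            s * y (TensorProduct.rid R A (l.lTensor A w)) := by
        intro w s
        induction w using TensorProduct.induction_on with
        | zero => simp
        | add x y hx hy => simp only [map_add, mul_add, hx, hy]
        | tmul p q => simp [Algebra.mul_smul_comm]
      have h4 : ∀ w : A ⊗[R] A, TensorProduct.rid R A (l.lTensor A w) =
          TensorProduct.lid R A (l.rTensor A (TensorProduct.comm R A A w)) := fun w => by
        induction w using TensorProduct.induction_on with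
        | zero => simp
        | add x y hx hy => simp only [map_add, hx, hy]
        | tmul p q => simp
      show TensorProduct.rid R T (l.lTensor T (avgTr y (t ⊗ₜ a))) = _
      rw [show avgTr y (t ⊗ₜ a) = (t ⊗ₜ[R] (1 : A)) *
        Algebra.TensorProduct.map y (AlgHom.id R A) (Coalgebra.comul a) by simp [avgTr], h2, h4,
        Coalgebra.comm_comul, hinv]
      simp [Algebra.smul_def, mul_comm]
  rwa [spMap_id, Category.id_comp] at key

end Groth.Agent.MTBridge
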