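import Groth.Agent.MTBridge.Cocycle
import Groth.Agent.QuotScheme.Basic
import Groth.Agent.MultT.Integral
import Mathlib

/-!
# Points trivial modulo a square-zero ideal factor through the ring of constants plus the ideal
-/

set_option autoImplicit false
set_option linter.style.haveILetI false
set_option backward.isDefEq.respectTransparency false
set_option maxHeartbeats 1000000
set_option synthInstance.maxHeartbeats 400000

universe u

open CategoryTheory Limits MonoidalCategory CartesianMonoidalCategory AlgebraicGeometry TensorProduct Opposite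
open TopologicalSpace WithConv
open scoped CategoryTheory.Obj MonObj

noncomputable section

namespace Groth.Agent.MTBridge

/-- Morphisms descend along surjective schematically dominant morphisms if they do so locally. -/
theorem exists_desc_of_cover {X' Y Z : Scheme.{u}} (π : X' ⟶ Y) [QuasiCompact π] [Surjective π]
    [IsSchemeTheoreticallyDominant π] (δ : X' ⟶ Z) (𝒰 : Y.OpenCover) (a : ∀ i, 𝒰.X i ⟶ Z)
    (ha : ∀ i, pullback.snd π (𝒰.f i) ≫ a i = pullback.fst π (𝒰.f i) ≫ δ) : ∃ δ' : Y ⟶ Z, π ≫ δ' = δ := by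
  have hcompat : ∀ i j, pullback.fst (𝒰.f i) (𝒰.f j) ≫ a i = pullback.snd _ _ ≫ a j := by
    intro i j
    let k := pullback.fst (𝒰.f i) (𝒰.f j) ≫ 𝒰.f i
    haveI : IsOpenImmersion k := inferInstance
    let q := pullback.snd π k
    haveI : Surjective q := MorphismProperty.pullback_snd π k ‹_›
    haveI : IsSchemeTheoreticallyDominant q := inferInstance
    haveI : Epi q := QuotScheme.epi_of_surjective_of_injective q q.surjective fun U => q.app_injective U
    refine (cancel_epi q).1 ?_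
    have hi := congrArg (fun t => pullback.lift (pullback.fst π k) (q ≫ pullback.fst (𝒰.f i) (𝒰.f j))
      (by rw [pullback.condition, Category.assoc]) ≫ t) (ha i)
    have hj := congrArg (fun t => pullback.lift (pullback.fst π k) (q ≫ pullback.snd (𝒰.f i) (𝒰.f j))
      (by rw [pullback.condition, Category.assoc, ← pullback.condition (f := 𝒰.f i) (g := 𝒰.f j)]) ≫ t) (ha j)
    simp only [pullback.lift_snd_assoc, pullback.lift_fst_assoc, Category.assoc] at hi hj
    exact hi.trans hj.symm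
  refine ⟨𝒰.glueMorphisms a hcompat, Scheme.Cover.hom_ext (𝒰.pullback₁ π) _ _ fun i => ?_⟩
  show pullback.fst π (𝒰.f i) ≫ π ≫ _ = pullback.fst π (𝒰.f i) ≫ δ
  rw [pullback.condition_assoc, Scheme.Cover.ι_glueMorphisms, ha]

variable {R : Type u} [CommRing R] (J : Ideal R) (T A : Type u) [CommRing T] [Algebra R T] [CommRing A] [Algebra R A]

/-- Constants plus the ideal, in `T ⊗ A`. -/
def sqSub : Subalgebra R (T ⊗[R] A) :=
  ((Ideal.Quotient.mkₐ R (J.map (algebraMap R (T ⊗[R] A)))).comp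
    (Algebra.TensorProduct.includeLeft : T →ₐ[R] T ⊗[R] A)).range.comap
      (Ideal.Quotient.mkₐ R (J.map (algebraMap R (T ⊗[R] A))))

variable {J T A}

theorem mem_sqSub {z : T ⊗[R] A} :
    z ∈ sqSub J T A ↔ ∃ t : T, z - t ⊗ₜ[R] (1 : A) ∈ J.map (algebraMap R (T ⊗[R] A)) := by
  simp only [sqSub, Subalgebra.mem_comap, AlgHom.mem_range, AlgHom.comp_apply,
    Ideal.Quotient.mkₐ_eq_mk, Algebra.TensorProduct.includeLeft_apply]
  refine exists_congr fun t => ?_
  rw [Ideal.Quotient.eq, ← neg_mem_iff, neg_sub]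

theorem tmul_one_mem (t : T) : t ⊗ₜ[R] (1 : A) ∈ sqSub J T A :=
  mem_sqSub.2 ⟨t, by simp⟩

theorem map_mem_sqSub {z : T ⊗[R] A} (hz : z ∈ J.map (algebraMap R (T ⊗[R] A))) : z ∈ sqSub J T A :=
  mem_sqSub.2 ⟨0, by simpa using hz⟩

theorem smul_mem_sqSub {c : R} (hc : c ∈ J) (a : T ⊗[R] A) : c • a ∈ sqSub J T A := by
  refine map_mem_sqSub ?_
  have h : c • a ∈ (J • ⊤ : Submodule R (T ⊗[R] A)) := Submodule.smul_mem_smul hc Submodule.mem_top
  rw [Ideal.smul_top_eq_map, Submodule.restrictScalars_mem] at h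
  exact h

/-- A linear retraction restricts to the ring of constants plus the ideal as a homomorphism. -/
theorem exists_sqInt (hJ : J ^ 2 = ⊥) (l : A →ₗ[R] R) (hl : l 1 = 1) :
    ∃ I : sqSub J T A →ₐ[R] T, ∀ z, I z = TensorProduct.rid R T (l.lTensor T (z : T ⊗[R] A)) := by
  let L : T ⊗[R] A →ₗ[R] T := (TensorProduct.rid R T).toLinearMap ∘ₗ l.lTensor T
  have hL1 : ∀ t : T, L (t ⊗ₜ 1) = t := fun t => by simp [L, hl]
  have hLT : ∀ (t : T) (z : T ⊗[R] A), L ((t ⊗ₜ 1) * z) = t * L z := by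
    intro t z
    induction z using TensorProduct.induction_on with
    | zero => simp
    | tmul a b => simp [L]
    | add x y hx hy => simp only [mul_add, map_add, hx, hy]
  have hLJ : ∀ z ∈ J.map (algebraMap R (T ⊗[R] A)), L z ∈ J.map (algebraMap R T) := by
    intro z hz
    have h1 : z ∈ (J • ⊤ : Submodule R (T ⊗[R] A)) := by
      rw [Ideal.smul_top_eq_map, Submodule.restrictScalars_mem]; exact hz
    have h2 : L z ∈ (J • ⊤ : Submodule R T) := by
      refine Submodule.smul_induction_on h1 (fun r hr x _ => ?_) (fun x y hx hy => ?_)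
      · rw [map_smul]; exact Submodule.smul_mem_smul hr trivial
      · rw [map_add]; exact add_mem hx hy
    rwa [Ideal.smul_top_eq_map, Submodule.restrictScalars_mem] at h2
  have hzero : ∀ {Q : Type u} [CommRing Q] [Algebra R Q] {a b : Q}, a ∈ J.map (algebraMap R Q) →
      b ∈ J.map (algebraMap R Q) → a * b = 0 := by
    intro Q _ _ a b ha hb
    have := Ideal.mul_mem_mul ha hb
    rwa [← Ideal.map_mul, ← pow_two, hJ, Ideal.map_bot, Ideal.mem_bot] at this
  have hmul : ∀ z w : sqSub J T A, L ((z : T ⊗[R] A) * w) = L z * L w := by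
    rintro ⟨z, hz⟩ ⟨w, hw⟩
    obtain ⟨t, ht⟩ := mem_sqSub.1 hz
    obtain ⟨s, hs⟩ := mem_sqSub.1 hw
    obtain ⟨x, hx⟩ : ∃ x, x = z - t ⊗ₜ[R] (1 : A) := ⟨_, rfl⟩
    obtain ⟨y, hy⟩ : ∃ y, y = w - s ⊗ₜ[R] (1 : A) := ⟨_, rfl⟩
    rw [← hx] at ht
    rw [← hy] at hs
    obtain rfl : z = t ⊗ₜ 1 + x := by rw [hx]; ring
    obtain rfl : w = s ⊗ₜ 1 + y := by rw [hy]; ring
    show L ((t ⊗ₜ 1 + x) * (s ⊗ₜ 1 + y)) = L (t ⊗ₜ 1 + x) * L (s ⊗ₜ 1 + y)
    simp only [add_mul, mul_add, map_add, hLT, hL1, mul_comm x (s ⊗ₜ[R] (1 : A)), hzero ht hs,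
      hzero (hLJ x ht) (hLJ y hs), map_zero]
    ring
  exact ⟨AlgHom.ofLinearMap (L ∘ₗ (sqSub J T A).val.toLinearMap) (hL1 1) hmul, fun z => rfl⟩

/-- The ring `T ⊗ A` covers the constants plus the ideal. -/
theorem epi_sqSub (hJ : IsNilpotent J) (r : A →ₐ[R] R) :
    Surjective (Spec.map (CommRingCat.ofHom (algebraMap (sqSub J T A) (T ⊗[R] A)))) ∧
    IsSchemeTheoreticallyDominant (Spec.map (CommRingCat.ofHom (algebraMap (sqSub J T A) (T ⊗[R] A)))) := by
  refine ⟨⟨fun p => ?_⟩, ⟨?_⟩⟩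
  · let p' : PrimeSpectrum (sqSub J T A) := p
    let rT : T ⊗[R] A →ₐ[R] T := (Algebra.TensorProduct.rid R R T).toAlgHom.comp
      (Algebra.TensorProduct.map (AlgHom.id R T) r)
    let iT : T →ₐ[R] sqSub J T A :=
      (Algebra.TensorProduct.includeLeft : T →ₐ[R] T ⊗[R] A).codRestrict _ fun t => tmul_one_mem t
    have hnil : ∀ z : sqSub J T A, IsNilpotent (z - iT (rT z)) := by
      rintro ⟨z, hz⟩
      obtain ⟨t, ht⟩ := mem_sqSub.1 hz
      have h1 : rT (z - t ⊗ₜ 1) ∈ J.map (algebraMap R T) := by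
        have := Ideal.mem_map_of_mem (rT : T ⊗[R] A →+* T) ht
        rwa [Ideal.map_map, AlgHom.comp_algebraMap] at this
      have h2 : z - rT z ⊗ₜ 1 ∈ J.map (algebraMap R (T ⊗[R] A)) := by
        have h3 := Ideal.mem_map_of_mem
          ((Algebra.TensorProduct.includeLeft : T →ₐ[R] T ⊗[R] A) : T →+* T ⊗[R] A) h1
        rw [Ideal.map_map, AlgHom.comp_algebraMap] at h3
        rw [show z - rT z ⊗ₜ 1 = (z - t ⊗ₜ 1) -
          (Algebra.TensorProduct.includeLeft : T →ₐ[R] T ⊗[R] A) (rT (z - t ⊗ₜ 1)) by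
            rw [map_sub rT]; simp [rT, TensorProduct.sub_tmul]]
        exact sub_mem ht h3
      refine (IsNilpotent.map_iff (f := (sqSub J T A).val) Subtype.val_injective).1 ?_
      obtain ⟨n, hn⟩ := hJ
      exact ⟨n, by
        have := Ideal.pow_mem_pow h2 n
        rwa [← Ideal.map_pow, hn, Ideal.zero_eq_bot, Ideal.map_bot, Ideal.mem_bot] at this⟩
    refine ⟨PrimeSpectrum.comap (rT : T ⊗[R] A →+* T) (PrimeSpectrum.comap (iT : T →+* sqSub J T A) p'),
      PrimeSpectrum.ext (Ideal.ext fun z => ?_)⟩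
    show iT (rT z) ∈ p'.asIdeal ↔ z ∈ p'.asIdeal
    have h : z - iT (rT z) ∈ p'.asIdeal := nilradical_le_prime p'.asIdeal (mem_nilradical.2 (hnil z))
    exact ⟨fun h1 => by simpa using add_mem h h1, fun h1 => by simpa using sub_mem h1 h⟩
  · refine Scheme.IdealSheafData.ext_of_isAffine ?_
    rw [Scheme.Hom.ker_apply, Scheme.IdealSheafData.ideal_bot, Pi.bot_apply, ← RingHom.injective_iff_ker_eq_bot]
    intro x y hxy
    let σ := (Scheme.ΓSpecIso (CommRingCat.of (sqSub J T A))).commRingCatIsoToRingEquiv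
    apply σ.injective
    apply Subtype.ext
    have h2 := fun w => congr($(Scheme.ΓSpecIso_naturality
      (CommRingCat.ofHom (algebraMap (sqSub J T A) (T ⊗[R] A)))) w)
    exact (h2 x).symm.trans ((congrArg _ hxy).trans (h2 y))

/-- Points trivial modulo a nilpotent ideal of the base lie in a chart around the unit section. -/
theorem range_subset_of_trivial {R : Type u} [CommRing R] {J : Ideal R} (hJ : IsNilpotent J)
    {G : Over (Spec (CommRingCat.of R))} [GrpObj G] {P : Type u} [CommRing P] [Algebra R P] (δ : Pt G P)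
    (h0 : ∀ (Q : Type u) [CommRing Q] [Algebra R Q] (f : P →ₐ[R] Q),
      (∀ x ∈ J, algebraMap R Q x = 0) → spMap f ≫ δ = 1)
    (f : R) (hf : IsUnit (algebraMap R P f)) (W : Set G.left)
    (hfW : (PrimeSpectrum.basicOpen f : Set (PrimeSpectrum R)) ⊆ (1 : Pt G R).left.base ⁻¹' W) :
    Set.range δ.left ⊆ W := by
  rintro _ ⟨z, rfl⟩
  let zP : PrimeSpectrum P := z
  let K := zP.asIdeal.ResidueField
  let k : P →ₐ[R] K := IsScalarTower.toAlgHom R P K
  have hk : ∀ x ∈ J, algebraMap R K x = 0 := fun x hx => by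
    obtain ⟨n, hn⟩ := hJ
    refine IsNilpotent.eq_zero ⟨n, ?_⟩
    rw [← map_pow, show x ^ n = 0 from ?_, map_zero]
    have := Ideal.pow_mem_pow hx n
    rwa [hn, Ideal.zero_eq_bot, Ideal.mem_bot] at this
  have h1 := congrArg (fun t : Pt G K => t.left (IsLocalRing.closedPoint K)) (h0 K k hk)
  have hone : (1 : Pt G K).left = Spec.map (CommRingCat.ofHom (algebraMap R K)) ≫ (1 : Pt G R).left :=
    congrArg (fun t : Pt G K => t.left) (MonObj.comp_one (spMap (Algebra.ofId R K))).symm
  simp only [Over.comp_left, Scheme.Hom.comp_apply, hone] at h1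
  have hz : (spMap k).left (IsLocalRing.closedPoint K) = z := by
    apply PrimeSpectrum.ext
    show Ideal.comap (algebraMap P K) (IsLocalRing.maximalIdeal K) = _
    rw [IsLocalRing.maximalIdeal_eq_bot, ← RingHom.ker_eq_comap_bot, Ideal.ker_algebraMap_residueField]
  rw [hz] at h1
  rw [h1]
  refine hfW (fun hm => ?_)
  exact (IsLocalRing.maximalIdeal K).ne_top_iff_one.1 (IsLocalRing.maximalIdeal.isMaximal K).ne_top
    ((Ideal.eq_top_iff_one _).1 (Ideal.eq_top_of_isUnit_mem _ hm
      (show IsUnit (algebraMap R K f) by rw [← k.commutes]; exact hf.map k)))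

/-- The local form of the factorisation. -/
theorem exists_local_factor {R : Type u} [CommRing R] {J : Ideal R} (hJ : IsNilpotent J)
    {G : Over (Spec (CommRingCat.of R))} [GrpObj G] {Bf P : Type u} [CommRing Bf] [Algebra R Bf] [CommRing P]
    [Algebra R P] (κ : Bf →ₐ[R] P) (hκ : Function.Injective κ)
    (hJP : ∀ x ∈ J.map (algebraMap R P), x ∈ κ.range) (δ : Pt G P)
    (h0 : ∀ (Q : Type u) [CommRing Q] [Algebra R Q] (f : P →ₐ[R] Q),
      (∀ x ∈ J, algebraMap R Q x = 0) → spMap f ≫ δ = 1)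
    (f : R) (hu : IsUnit (algebraMap R Bf f)) (W : G.left.Opens) (hW : IsAffineOpen W)
    (hfW : (PrimeSpectrum.basicOpen f : Set (PrimeSpectrum R)) ⊆ (1 : Pt G R).left.base ⁻¹' (W : Set G.left)) :
    ∃ a : Spec (CommRingCat.of Bf) ⟶ G.left, Spec.map (CommRingCat.ofHom κ.toRingHom) ≫ a = δ.left := by
  let JP : Ideal P := J.map (algebraMap R P)
  let q : P →ₐ[R] P ⧸ JP := Ideal.Quotient.mkₐ R JP
  have hq : ∀ x ∈ J, algebraMap R (P ⧸ JP) x = 0 := fun x hx =>
    (q.commutes x).symm.trans (Ideal.Quotient.eq_zero_iff_mem.2 (Ideal.mem_map_of_mem _ hx))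
  have hrw : Set.range δ.left ⊆ Set.range hW.fromSpec := by
    rw [hW.range_fromSpec]
    exact range_subset_of_trivial hJ δ h0 f (by rw [← κ.commutes]; exact hu.map κ) _ hfW
  -- the unit section over `Bf`
  have hre : Set.range ((1 : Pt G Bf).left) ⊆ Set.range hW.fromSpec := by
    rw [hW.range_fromSpec]
    exact range_subset_of_trivial hJ 1 (fun Q _ _ k _ => MonObj.comp_one _) f hu _ hfW
  obtain ⟨g, hg⟩ : ∃ g : Γ(G.left, W) →+* P, Spec.map (CommRingCat.ofHom g) ≫ hW.fromSpec = δ.left :=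
    ⟨(Spec.preimage (IsOpenImmersion.lift hW.fromSpec _ hrw)).hom, by
      rw [CommRingCat.ofHom_hom, Spec.map_preimage, IsOpenImmersion.lift_fac]⟩
  obtain ⟨g₀, hg₀⟩ : ∃ g₀ : Γ(G.left, W) →+* Bf,
      Spec.map (CommRingCat.ofHom g₀) ≫ hW.fromSpec = (1 : Pt G Bf).left :=
    ⟨(Spec.preimage (IsOpenImmersion.lift hW.fromSpec _ hre)).hom, by
      rw [CommRingCat.ofHom_hom, Spec.map_preimage, IsOpenImmersion.lift_fac]⟩
  have h1 : spMap q ≫ δ = spMap (q.comp κ) ≫ 1 := by rw [MonObj.comp_one]; exact h0 _ q hq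
  have hgq : q.toRingHom.comp g = (q.comp κ).toRingHom.comp g₀ := by
    have h2 := congrArg (fun t : Pt G (P ⧸ JP) => t.left) h1
    simp only [Over.comp_left, spMap_left, ← hg, ← hg₀] at h2
    rw [← Category.assoc, ← Category.assoc, cancel_mono, ← Spec.map_comp, ← Spec.map_comp,
      ← CommRingCat.ofHom_comp, ← CommRingCat.ofHom_comp] at h2
    exact congrArg CommRingCat.Hom.hom (Spec.map_injective h2)
  have hgr : ∀ z, g z ∈ κ.range := fun z => by
    have h2 : g z - κ (g₀ z) ∈ κ.range := hJP _ (Ideal.Quotient.eq.1 (RingHom.congr_fun hgq z))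
    simpa using add_mem h2 ⟨g₀ z, rfl⟩
  choose ga hga using hgr
  let gB : Γ(G.left, W) →+* Bf :=
    { toFun := ga
      map_one' := hκ (by rw [show κ (ga 1) = g 1 from hga 1, map_one, map_one])
      map_mul' := fun a b => hκ (by
        rw [show κ (ga (a * b)) = g (a * b) from hga _, map_mul κ, show κ (ga a) = g a from hga a,
          show κ (ga b) = g b from hga b, map_mul])
      map_zero' := hκ (by rw [show κ (ga 0) = g 0 from hga 0, map_zero, map_zero])
      map_add' := fun a b => hκ (by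
        rw [show κ (ga (a + b)) = g (a + b) from hga _, map_add κ, show κ (ga a) = g a from hga a,
          show κ (ga b) = g b from hga b, map_add]) }
  refine ⟨Spec.map (CommRingCat.ofHom gB) ≫ hW.fromSpec, ?_⟩
  rw [← Category.assoc, ← Spec.map_comp, ← CommRingCat.ofHom_comp, ← hg]
  exact congrArg (fun k => Spec.map (CommRingCat.ofHom k) ≫ hW.fromSpec) (RingHom.ext hga)

/-- The part of `A' ⊗ Bf` killed modulo `J` comes from `Bf`. -/
theorem mem_range_includeRight {R B A' Bf : Type u} [CommRing R] [CommRing B] [CommRing A'] [CommRing Bf]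
    [Algebra R B] [Algebra B A'] [Algebra R A'] [IsScalarTower R B A'] [Algebra B Bf] [Algebra R Bf]
    [IsScalarTower R B Bf] {J : Ideal R} (hJA : ∀ c ∈ J, ∀ a : A', ∃ b : B, algebraMap B A' b = c • a) :
    ∀ x ∈ J.map (algebraMap R (A' ⊗[B] Bf)),
      x ∈ ((Algebra.TensorProduct.includeRight : Bf →ₐ[B] A' ⊗[B] Bf).restrictScalars R).range := by
  intro x hx
  have h1 : x ∈ (J • ⊤ : Submodule R (A' ⊗[B] Bf)) := by
    rw [Ideal.smul_top_eq_map, Submodule.restrictScalars_mem]; exact hx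
  refine Submodule.smul_induction_on h1 (fun c hc p hp₀ => ?_) (fun x y hx hy => add_mem hx hy)
  clear hp₀
  induction p using TensorProduct.induction_on with
  | zero => simp
  | add p p' hp hp' => rw [smul_add]; exact add_mem hp hp'
  | tmul a b =>
    obtain ⟨ca, hca⟩ := hJA c hc a
    refine ⟨ca • b, ?_⟩
    show (1 : A') ⊗ₜ[B] (ca • b) = c • (a ⊗ₜ[B] b)
    rw [← TensorProduct.smul_tmul, TensorProduct.smul_tmul']
    congr 1
    rw [Algebra.smul_def, mul_one, hca]

/-- Factorisation through a subring containing the ideal, over a general base ring. -/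
theorem exists_factor_of_smul_mem {G : Over (Spec (CommRingCat.of R))} [GrpObj G] (hJ : IsNilpotent J)
    {B A' : Type u} [CommRing B] [CommRing A'] [Algebra R B] [Algebra B A'] [Algebra R A'] [IsScalarTower R B A']
    (hinj : Function.Injective (algebraMap B A'))
    (hJA : ∀ c ∈ J, ∀ a : A', ∃ b : B, algebraMap B A' b = c • a)
    [hs : Surjective (Spec.map (CommRingCat.ofHom (algebraMap B A')))]
    [hd : IsSchemeTheoreticallyDominant (Spec.map (CommRingCat.ofHom (algebraMap B A')))] (δ : Pt G A')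
    (h0 : ∀ (Q : Type u) [CommRing Q] [Algebra R Q] (f : A' →ₐ[R] Q),
      (∀ x ∈ J, algebraMap R Q x = 0) → spMap f ≫ δ = 1) :
    ∃ δ' : Pt G B, spMap (IsScalarTower.toAlgHom R B A') ≫ δ' = δ := by
  classical
  let π := Spec.map (CommRingCat.ofHom (algebraMap B A'))
  let e : Spec (CommRingCat.of R) ⟶ G.left := (1 : Pt G R).left
  let Good : R → Prop := fun f => ∃ W : G.left.Opens, IsAffineOpen W ∧
    (PrimeSpectrum.basicOpen f : Set (PrimeSpectrum R)) ⊆ e.base ⁻¹' (W : Set G.left)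
  have hspan : Ideal.span (Set.range fun f : {f // Good f} => algebraMap R B f.1) = ⊤ := by
    have h1 : Ideal.span (Set.range fun f : {f // Good f} => f.1) = ⊤ := by
      rw [← PrimeSpectrum.zeroLocus_empty_iff_eq_top, Set.eq_empty_iff_forall_notMem]
      intro p hp
      obtain ⟨W, hW, hpW, -⟩ := exists_isAffineOpen_mem_and_subset (x := e p) (U := ⊤) trivial
      obtain ⟨_, ⟨_, ⟨f, rfl⟩, rfl⟩, hpf, hfW⟩ :=
        (PrimeSpectrum.isBasis_basic_opens (R := R)).exists_subset_of_mem_open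
          (show (p : PrimeSpectrum R) ∈ (fun q : PrimeSpectrum R => e q) ⁻¹' (W : Set G.left) from hpW)
          (W.2.preimage e.continuous)
      exact hpf (hp (Ideal.subset_span ⟨⟨f, W, hW, hfW⟩, rfl⟩))
    rw [show (Set.range fun f : {f // Good f} => algebraMap R B f.1) =
      algebraMap R B '' Set.range (fun f : {f // Good f} => f.1) from (Set.range_comp _ _), ← Ideal.map_span, h1,
      Ideal.map_top]
  let 𝒰 := (Scheme.affineOpenCoverOfSpanRangeEqTop (R := CommRingCat.of B)
    (fun f : {f // Good f} => algebraMap R B f.1) hspan).openCover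
  have hloc : ∀ i : {f // Good f}, ∃ a : Spec (CommRingCat.of (Localization.Away (algebraMap R B i.1))) ⟶ G.left,
      pullback.snd π (Spec.map (CommRingCat.ofHom (algebraMap B (Localization.Away (algebraMap R B i.1))))) ≫ a =
        pullback.fst π _ ≫ δ.left := by
    rintro ⟨f, W, hW, hfW⟩
    let Bf := Localization.Away (algebraMap R B f)
    have hu : IsUnit (algebraMap R Bf f) := by
      rw [IsScalarTower.algebraMap_apply R B Bf]
      exact IsLocalization.Away.algebraMap_isUnit _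
    obtain ⟨a, ha⟩ := exists_local_factor hJ
      ((Algebra.TensorProduct.includeRight : Bf →ₐ[B] A' ⊗[B] Bf).restrictScalars R)
      (Algebra.TensorProduct.includeRight_injective hinj)
      (mem_range_includeRight hJA)
      (spMap ((Algebra.TensorProduct.includeLeft : A' →ₐ[B] A' ⊗[B] Bf).restrictScalars R) ≫ δ)
      (fun Q _ _ k hk => by rw [spMap_assoc]; exact h0 Q _ hk) f hu W hW hfW
    refine ⟨a, ?_⟩
    rw [← cancel_epi (pullbackSpecIso B A' Bf).inv, pullbackSpecIso_inv_fst_assoc, pullbackSpecIso_inv_snd_assoc]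
    exact ha
  choose a ha using hloc
  haveI : Surjective π := hs
  haveI : IsSchemeTheoreticallyDominant π := hd
  obtain ⟨d, hd'⟩ := exists_desc_of_cover π δ.left 𝒰 a ha
  haveI : Epi π := QuotScheme.epi_of_surjective_of_injective π π.surjective fun U => π.app_injective U
  refine ⟨Over.homMk d ((cancel_epi π).1 ?_), Over.OverMorphism.ext hd'⟩
  rw [reassoc_of% hd', Over.w δ]
  show Spec.map (CommRingCat.ofHom (algebraMap R A')) = π ≫ Spec.map (CommRingCat.ofHom (algebraMap R B))
  rw [← Spec.map_comp, ← CommRingCat.ofHom_comp, ← IsScalarTower.algebraMap_eq]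

/-- Points trivial modulo the ideal factor through constants plus the ideal. -/
theorem exists_sq_factor {G : Over (Spec (CommRingCat.of R))} [GrpObj G] (hJ : IsNilpotent J) (r : A →ₐ[R] R)
    (δ : Pt G (R ⊗[R] A))
    (h0 : ∀ (Q : Type u) [CommRing Q] [Algebra R Q] (f : R ⊗[R] A →ₐ[R] Q),
      (∀ x ∈ J, algebraMap R Q x = 0) → spMap f ≫ δ = 1) :
    ∃ δ' : Pt G (sqSub J R A), spMap (sqSub J R A).val ≫ δ' = δ := by
  obtain ⟨hs, hd⟩ := epi_sqSub (T := R) hJ r
  exact exists_factor_of_smul_mem (hs := hs) (hd := hd) hJ Subtype.val_injective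
    (fun c hc a => ⟨⟨c • a, smul_mem_sqSub hc a⟩, rfl⟩) δ h0

end Groth.Agent.MTBridge
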