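import Groth.Agent.MTBridge.SqFactor
import Mathlib

/-!
# Points congruent to a section modulo a square-zero ideal factor through constants plus the ideal
-/

set_option autoImplicit false
set_option linter.style.haveILetI false
set_option backward.isDefEq.respectTransparency false
set_option maxHeartbeats 1000000
set_option synthInstance.maxHeartbeats 400000

universe u

open CategoryTheory Limits MonoidalCategory CartesianMonoidalCategory AlgebraicGeometry TensorProduct Opposite
open TopologicalSpace WithConv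
open scoped CategoryTheory.Obj MonObj

noncomputable section

namespace Groth.Agent.MTBridge

variable {R : Type u} [CommRing R] {J : Ideal R}

theorem spMap_assoc' {G : Over (Spec (CommRingCat.of R))} {T T' T'' : Type u} [CommRing T] [Algebra R T]
    [CommRing T'] [Algebra R T'] [CommRing T''] [Algebra R T''] (f : T →ₐ[R] T') (f' : T' →ₐ[R] T'') (x : Pt G T) :
    spMap f' ≫ spMap f ≫ x = spMap (f'.comp f) ≫ x := by rw [← Category.assoc, spMap_comp]

/-- Points congruent to a section lie in a chart around it. -/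
theorem range_subset_of_congr {R : Type u} [CommRing R] {J : Ideal R} (hJ : IsNilpotent J)
    {G : Over (Spec (CommRingCat.of R))} (e₀ : Pt G R) {P : Type u} [CommRing P] [Algebra R P] (δ : Pt G P)
    (h0 : ∀ (Q : Type u) [CommRing Q] [Algebra R Q] (f : P →ₐ[R] Q),
      (∀ x ∈ J, algebraMap R Q x = 0) → spMap f ≫ δ = spMap (Algebra.ofId R Q) ≫ e₀)
    (f : R) (hf : IsUnit (algebraMap R P f)) (W : Set G.left)
    (hfW : (PrimeSpectrum.basicOpen f : Set (PrimeSpectrum R)) ⊆ e₀.left.base ⁻¹' W) :
    Set.range δ.left ⊆ W := by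
  rintro _ ⟨z, rfl⟩
  let zP : PrimeSpectrum P := z
  let K := zP.asIdeal.ResidueField
  let k : P →ₐ[R] K := IsScalarTower.toAlgHom R P K
  have hk : ∀ x ∈ J, algebraMap R K x = 0 := fun x hx => by
    obtain ⟨n, hn⟩ := hJ
    refine IsNilpotent.eq_zero ⟨n, ?_⟩
    rw [← map_pow, show x ^ n = 0 from ?_, map_zero]
    have := Ideal.pow_mem_pow hx n
    rwa [hn, Ideal.zero_eq_bot, Ideal.mem_bot] at this
  have h1 := congrArg (fun t : Pt G K => t.left (IsLocalRing.closedPoint K)) (h0 K k hk)
  have hone : (spMap (Algebra.ofId R K) ≫ e₀).left = Spec.map (CommRingCat.ofHom (algebraMap R K)) ≫ e₀.left :=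
    rfl
  rw [hone] at h1
  simp only [Over.comp_left, Scheme.Hom.comp_apply] at h1
  have hz : (spMap k).left (IsLocalRing.closedPoint K) = z := by
    apply PrimeSpectrum.ext
    show Ideal.comap (algebraMap P K) (IsLocalRing.maximalIdeal K) = _
    rw [IsLocalRing.maximalIdeal_eq_bot, ← RingHom.ker_eq_comap_bot, Ideal.ker_algebraMap_residueField]
  rw [hz] at h1
  rw [h1]
  refine hfW (fun hm => ?_)
  exact (IsLocalRing.maximalIdeal K).ne_top_iff_one.1 (IsLocalRing.maximalIdeal.isMaximal K).ne_top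
    ((Ideal.eq_top_iff_one _).1 (Ideal.eq_top_of_isUnit_mem _ hm
      (show IsUnit (algebraMap R K f) by rw [← k.commutes]; exact hf.map k)))

/-- The local form of the factorisation. -/
theorem exists_local_factor_sec {R : Type u} [CommRing R] {J : Ideal R} (hJ : IsNilpotent J)
    {G : Over (Spec (CommRingCat.of R))} (e₀ : Pt G R) {Bf P : Type u} [CommRing Bf] [Algebra R Bf] [CommRing P]
    [Algebra R P] (κ : Bf →ₐ[R] P) (hκ : Function.Injective κ)
    (hJP : ∀ x ∈ J.map (algebraMap R P), x ∈ κ.range) (δ : Pt G P)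
    (h0 : ∀ (Q : Type u) [CommRing Q] [Algebra R Q] (f : P →ₐ[R] Q),
      (∀ x ∈ J, algebraMap R Q x = 0) → spMap f ≫ δ = spMap (Algebra.ofId R Q) ≫ e₀)
    (f : R) (hu : IsUnit (algebraMap R Bf f)) (W : G.left.Opens) (hW : IsAffineOpen W)
    (hfW : (PrimeSpectrum.basicOpen f : Set (PrimeSpectrum R)) ⊆ e₀.left.base ⁻¹' (W : Set G.left)) :
    ∃ a : Spec (CommRingCat.of Bf) ⟶ G.left, Spec.map (CommRingCat.ofHom κ.toRingHom) ≫ a = δ.left := by
  let JP : Ideal P := J.map (algebraMap R P)
  let q : P →ₐ[R] P ⧸ JP := Ideal.Quotient.mkₐ R JP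
  have hq : ∀ x ∈ J, algebraMap R (P ⧸ JP) x = 0 := fun x hx =>
    (q.commutes x).symm.trans (Ideal.Quotient.eq_zero_iff_mem.2 (Ideal.mem_map_of_mem _ hx))
  have hrw : Set.range δ.left ⊆ Set.range hW.fromSpec := by
    rw [hW.range_fromSpec]
    exact range_subset_of_congr hJ e₀ δ h0 f (by rw [← κ.commutes]; exact hu.map κ) _ hfW
  -- the unit section over `Bf`
  have hre : Set.range ((spMap (Algebra.ofId R Bf) ≫ e₀).left) ⊆ Set.range hW.fromSpec := by
    rw [hW.range_fromSpec]
    exact range_subset_of_congr hJ e₀ _ (fun Q _ _ k _ => by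
      rw [spMap_assoc', Subsingleton.elim (k.comp (Algebra.ofId R Bf)) (Algebra.ofId R Q)]) f hu _ hfW
  obtain ⟨g, hg⟩ : ∃ g : Γ(G.left, W) →+* P, Spec.map (CommRingCat.ofHom g) ≫ hW.fromSpec = δ.left :=
    ⟨(Spec.preimage (IsOpenImmersion.lift hW.fromSpec _ hrw)).hom, by
      rw [CommRingCat.ofHom_hom, Spec.map_preimage, IsOpenImmersion.lift_fac]⟩
  obtain ⟨g₀, hg₀⟩ : ∃ g₀ : Γ(G.left, W) →+* Bf,
      Spec.map (CommRingCat.ofHom g₀) ≫ hW.fromSpec = (spMap (Algebra.ofId R Bf) ≫ e₀).left :=
    ⟨(Spec.preimage (IsOpenImmersion.lift hW.fromSpec _ hre)).hom, by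
      rw [CommRingCat.ofHom_hom, Spec.map_preimage, IsOpenImmersion.lift_fac]⟩
  have h1 : spMap q ≫ δ = spMap (q.comp κ) ≫ spMap (Algebra.ofId R Bf) ≫ e₀ := by
    rw [spMap_assoc', Subsingleton.elim ((q.comp κ).comp (Algebra.ofId R Bf)) (Algebra.ofId R (P ⧸ JP))]
    exact h0 _ q hq
  have hgq : q.toRingHom.comp g = (q.comp κ).toRingHom.comp g₀ := by
    have h2 := congrArg (fun t : Pt G (P ⧸ JP) => t.left) h1
    simp only [Over.comp_left, spMap_left, ← hg, ← hg₀] at h2
    rw [← Category.assoc, ← Category.assoc, cancel_mono, ← Spec.map_comp, ← Spec.map_comp,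
      ← CommRingCat.ofHom_comp, ← CommRingCat.ofHom_comp] at h2
    exact congrArg CommRingCat.Hom.hom (Spec.map_injective h2)
  have hgr : ∀ z, g z ∈ κ.range := fun z => by
    have h2 : g z - κ (g₀ z) ∈ κ.range := hJP _ (Ideal.Quotient.eq.1 (RingHom.congr_fun hgq z))
    simpa using add_mem h2 ⟨g₀ z, rfl⟩
  choose ga hga using hgr
  let gB : Γ(G.left, W) →+* Bf :=
    { toFun := ga
      map_one' := hκ (by rw [show κ (ga 1) = g 1 from hga 1, map_one, map_one])
      map_mul' := fun a b => hκ (by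
        rw [show κ (ga (a * b)) = g (a * b) from hga _, map_mul κ, show κ (ga a) = g a from hga a,
          show κ (ga b) = g b from hga b, map_mul])
      map_zero' := hκ (by rw [show κ (ga 0) = g 0 from hga 0, map_zero, map_zero])
      map_add' := fun a b => hκ (by
        rw [show κ (ga (a + b)) = g (a + b) from hga _, map_add κ, show κ (ga a) = g a from hga a,
          show κ (ga b) = g b from hga b, map_add]) }
  refine ⟨Spec.map (CommRingCat.ofHom gB) ≫ hW.fromSpec, ?_⟩
  rw [← Category.assoc, ← Spec.map_comp, ← CommRingCat.ofHom_comp, ← hg]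
  exact congrArg (fun k => Spec.map (CommRingCat.ofHom k) ≫ hW.fromSpec) (RingHom.ext hga)

/-- Factorisation through a subring containing the ideal, over a general base ring. -/
theorem exists_factor_sec {G : Over (Spec (CommRingCat.of R))} (e₀ : Pt G R) (hJ : IsNilpotent J)
    {B A' : Type u} [CommRing B] [CommRing A'] [Algebra R B] [Algebra B A'] [Algebra R A'] [IsScalarTower R B A']
    (hinj : Function.Injective (algebraMap B A'))
    (hJA : ∀ c ∈ J, ∀ a : A', ∃ b : B, algebraMap B A' b = c • a)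
    [hs : Surjective (Spec.map (CommRingCat.ofHom (algebraMap B A')))]
    [hd : IsSchemeTheoreticallyDominant (Spec.map (CommRingCat.ofHom (algebraMap B A')))] (δ : Pt G A')
    (h0 : ∀ (Q : Type u) [CommRing Q] [Algebra R Q] (f : A' →ₐ[R] Q),
      (∀ x ∈ J, algebraMap R Q x = 0) → spMap f ≫ δ = spMap (Algebra.ofId R Q) ≫ e₀) :
    ∃ δ' : Pt G B, spMap (IsScalarTower.toAlgHom R B A') ≫ δ' = δ := by
  classical
  let π := Spec.map (CommRingCat.ofHom (algebraMap B A'))
  let e : Spec (CommRingCat.of R) ⟶ G.left := e₀.left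
  let Good : R → Prop := fun f => ∃ W : G.left.Opens, IsAffineOpen W ∧
    (PrimeSpectrum.basicOpen f : Set (PrimeSpectrum R)) ⊆ e.base ⁻¹' (W : Set G.left)
  have hspan : Ideal.span (Set.range fun f : {f // Good f} => algebraMap R B f.1) = ⊤ := by
    have h1 : Ideal.span (Set.range fun f : {f // Good f} => f.1) = ⊤ := by
      rw [← PrimeSpectrum.zeroLocus_empty_iff_eq_top, Set.eq_empty_iff_forall_notMem]
      intro p hp
      obtain ⟨W, hW, hpW, -⟩ := exists_isAffineOpen_mem_and_subset (x := e p) (U := ⊤) trivial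
      obtain ⟨_, ⟨_, ⟨f, rfl⟩, rfl⟩, hpf, hfW⟩ :=
        (PrimeSpectrum.isBasis_basic_opens (R := R)).exists_subset_of_mem_open
          (show (p : PrimeSpectrum R) ∈ (fun q : PrimeSpectrum R => e q) ⁻¹' (W : Set G.left) from hpW)
          (W.2.preimage e.continuous)
      exact hpf (hp (Ideal.subset_span ⟨⟨f, W, hW, hfW⟩, rfl⟩))
    rw [show (Set.range fun f : {f // Good f} => algebraMap R B f.1) =
      algebraMap R B '' Set.range (fun f : {f // Good f} => f.1) from (Set.range_comp _ _), ← Ideal.map_span, h1,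
      Ideal.map_top]
  let 𝒰 := (Scheme.affineOpenCoverOfSpanRangeEqTop (R := CommRingCat.of B)
    (fun f : {f // Good f} => algebraMap R B f.1) hspan).openCover
  have hloc : ∀ i : {f // Good f}, ∃ a : Spec (CommRingCat.of (Localization.Away (algebraMap R B i.1))) ⟶ G.left,
      pullback.snd π (Spec.map (CommRingCat.ofHom (algebraMap B (Localization.Away (algebraMap R B i.1))))) ≫ a =
        pullback.fst π _ ≫ δ.left := by
    rintro ⟨f, W, hW, hfW⟩
    let Bf := Localization.Away (algebraMap R B f)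
    have hu : IsUnit (algebraMap R Bf f) := by
      rw [IsScalarTower.algebraMap_apply R B Bf]
      exact IsLocalization.Away.algebraMap_isUnit _
    obtain ⟨a, ha⟩ := exists_local_factor_sec hJ e₀
      ((Algebra.TensorProduct.includeRight : Bf →ₐ[B] A' ⊗[B] Bf).restrictScalars R)
      (Algebra.TensorProduct.includeRight_injective hinj)
      (mem_range_includeRight hJA)
      (spMap ((Algebra.TensorProduct.includeLeft : A' →ₐ[B] A' ⊗[B] Bf).restrictScalars R) ≫ δ)
      (fun Q _ _ k hk => by rw [spMap_assoc']; exact h0 Q _ hk) f hu W hW hfW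
    refine ⟨a, ?_⟩
    rw [← cancel_epi (pullbackSpecIso B A' Bf).inv, pullbackSpecIso_inv_fst_assoc, pullbackSpecIso_inv_snd_assoc]
    exact ha
  choose a ha using hloc
  haveI : Surjective π := hs
  haveI : IsSchemeTheoreticallyDominant π := hd
  obtain ⟨d, hd'⟩ := exists_desc_of_cover π δ.left 𝒰 a ha
  haveI : Epi π := QuotScheme.epi_of_surjective_of_injective π π.surjective fun U => π.app_injective U
  refine ⟨Over.homMk d ((cancel_epi π).1 ?_), Over.OverMorphism.ext hd'⟩
  rw [reassoc_of% hd', Over.w δ]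
  show Spec.map (CommRingCat.ofHom (algebraMap R A')) = π ≫ Spec.map (CommRingCat.ofHom (algebraMap R B))
  rw [← Spec.map_comp, ← CommRingCat.ofHom_comp, ← IsScalarTower.algebraMap_eq]


end Groth.Agent.MTBridge
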