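import Groth.Agent.MTBridge.TransporterSub
import Groth.Agent.MTBridge.EndoId
import Groth.Agent.ClosedRep.Preimage
import Mathlib

/-!
# Strict transporters of subgroups of multiplicative type
-/

set_option autoImplicit false
set_option linter.style.haveILetI false
set_option backward.isDefEq.respectTransparency false
set_option maxHeartbeats 800000
set_option synthInstance.maxHeartbeats 400000

universe u

open CategoryTheory Limits MonoidalCategory CartesianMonoidalCategory AlgebraicGeometry Opposite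
open scoped CategoryTheory.Obj MonObj

noncomputable section

namespace Groth.Agent.MTBridge

/-- Strict transporters lift, affine base. -/
theorem exists_eq_lift_spec {R : Type u} [CommRing R] {H H' G : Over (Spec (CommRingCat.of R))} [GrpObj H]
    [GrpObj H'] [GrpObj G] {J : Ideal R} (hJ : J ^ 2 = ⊥)
    (hH : TwC.Locally (Spec (CommRingCat.of R)) TwC.Topology.fpqc (fun S' f => ∃ (M : Type) (_ : AddCommGroup M), Nonempty (Grp.mk (Red.bc f H) ≅ Grp.mk (Red.DS S' M))))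
    (hH' : TwC.Locally (Spec (CommRingCat.of R)) TwC.Topology.fpqc (fun S' f => ∃ (M : Type) (_ : AddCommGroup M), Nonempty (Grp.mk (Red.bc f H') ≅ Grp.mk (Red.DS S' M))))
    (hG : Smooth G.hom) (i : H ⟶ G) [IsMonHom i] [Mono i] (i' : H' ⟶ G) [IsMonHom i'] [Mono i']
    (g₀ : Over.mk (qJ J) ⟶ G)
    (h1 : ∀ (X : Over (Spec (CommRingCat.of R))) (p : X ⟶ Over.mk (qJ J)) (h : X ⟶ H),
      ∃ h' : X ⟶ H', (p ≫ g₀) * (h ≫ i) * (p ≫ g₀)⁻¹ = h' ≫ i')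
    (h2 : ∀ (X : Over (Spec (CommRingCat.of R))) (p : X ⟶ Over.mk (qJ J)) (h : X ⟶ H'),
      ∃ h' : X ⟶ H, (p ≫ g₀)⁻¹ * (h ≫ i') * (p ≫ g₀) = h' ≫ i) :
    ∃ g : 𝟙_ (Over (Spec (CommRingCat.of R))) ⟶ G, toUnit (Over.mk (qJ J)) ≫ g = g₀ ∧
      (∀ (X : Over (Spec (CommRingCat.of R))) (h : X ⟶ H),
        ∃ h' : X ⟶ H', (toUnit X ≫ g) * (h ≫ i) * (toUnit X ≫ g)⁻¹ = h' ≫ i') ∧
      ∀ (X : Over (Spec (CommRingCat.of R))) (h : X ⟶ H'),
        ∃ h' : X ⟶ H, (toUnit X ≫ g)⁻¹ * (h ≫ i') * (toUnit X ≫ g) = h' ≫ i := by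
  obtain ⟨g, hg, hgc⟩ := exists_incl_lift_spec hJ hH hH' hG i i' g₀ h1
  obtain ⟨g', hg', hgc'⟩ := exists_incl_lift_spec hJ hH' hH hG i' i g₀⁻¹ (fun X p h => by
    rw [GrpObj.comp_inv, _root_.inv_inv]
    exact h2 X p h)
  refine ⟨g, hg, hgc, fun X h => ?_⟩
  obtain ⟨a, ha⟩ := hgc' H' (𝟙 H')
  obtain ⟨k, hk⟩ := hgc H' a
  rw [← ha, Category.id_comp] at hk
  haveI := isMonHom_conj i' (g * g')
  have hki : k ≫ i' = (toUnit H' ≫ (g * g')) * i' * (toUnit H' ≫ (g * g'))⁻¹ := by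
    rw [← hk, MonObj.comp_mul]; group
  haveI : IsMonHom k := by
    haveI : IsMonHom (k ≫ i') := by rw [hki]; infer_instance
    exact ⟨(cancel_mono i').1 (by rw [Category.assoc, IsMonHom.one_hom (f := k ≫ i'), IsMonHom.one_hom (f := i')]),
      (cancel_mono i').1 (by
        rw [Category.assoc, IsMonHom.mul_hom (f := k ≫ i'), Category.assoc, IsMonHom.mul_hom (f := i'),
          ← tensorHom_comp_tensorHom, Category.assoc])⟩
  have hk1 : k = 𝟙 H' := endo_eq_id J ⟨2, hJ⟩ H' hH' k fun Y p y => by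
    refine (cancel_mono i').1 ?_
    rw [Category.assoc, hki]
    simp only [MonObj.comp_mul, GrpObj.comp_inv, ← Category.assoc, comp_toUnit]
    rw [show toUnit Y ≫ g = p ≫ g₀ by rw [← hg, ← Category.assoc, comp_toUnit],
      show toUnit Y ≫ g' = (p ≫ g₀)⁻¹ by rw [← GrpObj.comp_inv, ← hg', ← Category.assoc, comp_toUnit]]
    group
  obtain ⟨h', hh'⟩ := hgc' X h
  refine ⟨h', ?_⟩
  rw [hk1, Category.id_comp] at hki
  have h3 := congrArg (fun w => h ≫ w) hki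
  simp only [MonObj.comp_mul, GrpObj.comp_inv, ← Category.assoc, comp_toUnit] at h3
  rw [← hh']
  nth_rewrite 1 [h3]
  group

variable {S : Scheme.{u}}

/-- Strict transporters lift along square-zero extensions. -/
theorem exists_transporterEq_lift {H H' G : Over S} [GrpObj H] [GrpObj H'] [GrpObj G]
    (hH : TwC.Locally S TwC.Topology.fpqc (fun S' f => ∃ (M : Type) (_ : AddCommGroup M), Nonempty (Grp.mk (Red.bc f H) ≅ Grp.mk (Red.DS S' M))))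
    (hH' : TwC.Locally S TwC.Topology.fpqc (fun S' f => ∃ (M : Type) (_ : AddCommGroup M), Nonempty (Grp.mk (Red.bc f H') ≅ Grp.mk (Red.DS S' M))))
    (hG : Smooth G.hom) (i : H ⟶ G) [IsMonHom i] [Mono i] (i' : H' ⟶ G) [IsMonHom i'] [Mono i']
    (A : Type u) [CommRing A] (I : Ideal A) (hI : I ^ 2 = ⊥) (b : Spec (CommRingCat.of A) ⟶ S)
    (g₀ : (Over.map b).obj (Over.mk (qJ I)) ⟶ G)
    (h01 : ∀ (X' : Over S) (x : X' ⟶ (Over.map b).obj (Over.mk (qJ I))) (h : X' ⟶ H),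
      ∃ h' : X' ⟶ H', (x ≫ g₀) * (h ≫ i) * (x ≫ g₀)⁻¹ = h' ≫ i')
    (h02 : ∀ (X' : Over S) (x : X' ⟶ (Over.map b).obj (Over.mk (qJ I))) (h : X' ⟶ H'),
      ∃ h' : X' ⟶ H, (x ≫ g₀)⁻¹ * (h ≫ i') * (x ≫ g₀) = h' ≫ i) :
    ∃ g : (Over.map b).obj (𝟙_ (Over (Spec (CommRingCat.of A)))) ⟶ G,
      (Over.map b).map (toUnit _) ≫ g = g₀ ∧
      (∀ (X' : Over S) (x : X' ⟶ (Over.map b).obj (𝟙_ (Over (Spec (CommRingCat.of A))))) (h : X' ⟶ H),
        ∃ h' : X' ⟶ H', (x ≫ g) * (h ≫ i) * (x ≫ g)⁻¹ = h' ≫ i') ∧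
      ∀ (X' : Over S) (x : X' ⟶ (Over.map b).obj (𝟙_ (Over (Spec (CommRingCat.of A))))) (h : X' ⟶ H'),
        ∃ h' : X' ⟶ H, (x ≫ g)⁻¹ * (h ≫ i') * (x ≫ g) = h' ≫ i := by
  obtain ⟨k, hk, hconj, hconj'⟩ := exists_eq_lift_spec hI (locally_bc H b hH) (locally_bc H' b hH')
    (MorphismProperty.pullback_snd _ _ hG) ((Over.pullback b).map i) ((Over.pullback b).map i')
    (toBC b g₀) (fun X p h => by
      obtain ⟨h', hh'⟩ := h01 _ ((Over.map b).map p) (fromBC b h)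
      refine ⟨toBC b h', ?_⟩
      apply ((Over.mapPullbackAdj b).homEquiv X G).symm.injective
      show fromBC b _ = fromBC b _
      rw [fromBC_comp_map, fromBC_toBC, fromBC_mul, fromBC_mul, fromBC_inv, fromBC_comp_map, fromBC_comp, fromBC_toBC]
      exact hh') (fun X p h => by
      obtain ⟨h', hh'⟩ := h02 _ ((Over.map b).map p) (fromBC b h)
      refine ⟨toBC b h', ?_⟩
      apply ((Over.mapPullbackAdj b).homEquiv X G).symm.injective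
      show fromBC b _ = fromBC b _
      rw [fromBC_comp_map, fromBC_toBC, fromBC_mul, fromBC_mul, fromBC_inv, fromBC_comp_map, fromBC_comp, fromBC_toBC]
      exact hh')
  refine ⟨fromBC b k, ?_, fun X' x h => ?_, fun X' x h => ?_⟩
  · rw [← fromBC_comp, hk, fromBC_toBC]
  all_goals
    let ε : (Over.map b).obj (Over.mk x.left) ≅ X' := Over.isoMk (Iso.refl _) (by simpa using (Over.w x).symm)
    have h2 : (Over.map b).map (toUnit (Over.mk x.left)) = ε.hom ≫ x := by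
      apply Over.OverMorphism.ext
      simp [ε]
  · obtain ⟨h', hh'⟩ := hconj (Over.mk x.left) (toBC b (ε.hom ≫ h))
    have h1 := congrArg (fromBC b) hh'
    rw [fromBC_comp_map, fromBC_mul, fromBC_mul, fromBC_inv, fromBC_comp_map, fromBC_toBC, fromBC_comp, h2] at h1
    refine ⟨ε.inv ≫ fromBC b h', (cancel_epi ε.hom).1 ?_⟩
    simp only [MonObj.comp_mul, GrpObj.comp_inv, Category.assoc, Iso.hom_inv_id_assoc] at h1 ⊢
    exact h1
  · obtain ⟨h', hh'⟩ := hconj' (Over.mk x.left) (toBC b (ε.hom ≫ h))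
    have h1 := congrArg (fromBC b) hh'
    rw [fromBC_comp_map, fromBC_mul, fromBC_mul, fromBC_inv, fromBC_comp_map, fromBC_toBC, fromBC_comp, h2] at h1
    refine ⟨ε.inv ≫ fromBC b h', (cancel_epi ε.hom).1 ?_⟩
    simp only [MonObj.comp_mul, GrpObj.comp_inv, Category.assoc, Iso.hom_inv_id_assoc] at h1 ⊢
    exact h1

/-- The strict transporter is closed and smooth. -/
theorem exists_transporterEq (H₁ H₂ G : Over S) [GrpObj H₁] [GrpObj H₂] [GrpObj G]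
    (hH₁ : SGA3x.IsMultTypeFT H₁) (hH₂ : SGA3x.IsMultTypeFT H₂) (hG : Smooth G.hom) (hGa : IsAffineHom G.hom)
    (i₁ : H₁ ⟶ G) [IsMonHom i₁] [Mono i₁] (i₂ : H₂ ⟶ G) [IsMonHom i₂] [Mono i₂] :
    ∃ (T : Over S) (j : T ⟶ G), IsClosedImmersion j.left ∧ Smooth T.hom ∧ ∀ (X : Over S) (g : X ⟶ G),
      (∃ t : X ⟶ T, t ≫ j = g) ↔ ∀ (X' : Over S) (x : X' ⟶ X),
        (∀ h₁ : X' ⟶ H₁, ∃ h₂ : X' ⟶ H₂, (x ≫ g) * (h₁ ≫ i₁) * (x ≫ g)⁻¹ = h₂ ≫ i₂) ∧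
        (∀ h₂ : X' ⟶ H₂, ∃ h₁ : X' ⟶ H₁, (x ≫ g)⁻¹ * (h₂ ≫ i₂) * (x ≫ g) = h₁ ≫ i₁) := by
  haveI := hG
  obtain ⟨C₁, c₁, hc₁, hf₁, -, hC₁⟩ := exists_transporterLE H₁ H₂ G hH₁ hH₂ hG hGa i₁ i₂
  obtain ⟨C₂, c₂, hc₂, hf₂, -, hC₂⟩ := exists_transporterLE H₂ H₁ G hH₂ hH₁ hG hGa i₂ i₁
  haveI := hc₁
  haveI := hf₁
  let c₂' : C₂ ⟶ G := c₂ ≫ GrpObj.inv (X := G)
  haveI : IsIso (GrpObj.inv (X := G)) := inferInstance
  haveI : IsIso (GrpObj.inv (X := G)).left := inferInstanceAs (IsIso ((Over.forget _).map (GrpObj.inv (X := G))))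
  haveI : IsClosedImmersion c₂'.left := by
    haveI := hc₂
    exact inferInstanceAs (IsClosedImmersion (c₂.left ≫ (GrpObj.inv (X := G)).left))
  haveI : LocallyOfFinitePresentation c₂'.left := by
    haveI := hf₂
    exact inferInstanceAs (LocallyOfFinitePresentation (c₂.left ≫ (GrpObj.inv (X := G)).left))
  have hC₂' : ∀ (X : Over S) (g : X ⟶ G), (∃ z, z ≫ c₂' = g) ↔ ∃ z, z ≫ c₂ = g⁻¹ := by
    intro X g
    refine ⟨fun ⟨z, hz⟩ => ⟨z, ?_⟩, fun ⟨z, hz⟩ => ⟨z, ?_⟩⟩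
    · rw [← hz, ← Category.assoc, ← Hom.inv_def, _root_.inv_inv]
    · rw [← Category.assoc, ← Hom.inv_def, hz, _root_.inv_inv]
  obtain ⟨T, j, hj, hjf, hT⟩ := ClosedRep.exists_closed_inter_lfp c₁ c₂'
  haveI := hj
  haveI := hjf
  have hT' : ∀ (X : Over S) (g : X ⟶ G), (∃ t : X ⟶ T, t ≫ j = g) ↔ ∀ (X' : Over S) (x : X' ⟶ X),
        (∀ h₁ : X' ⟶ H₁, ∃ h₂ : X' ⟶ H₂, (x ≫ g) * (h₁ ≫ i₁) * (x ≫ g)⁻¹ = h₂ ≫ i₂) ∧
        (∀ h₂ : X' ⟶ H₂, ∃ h₁ : X' ⟶ H₁, (x ≫ g)⁻¹ * (h₂ ≫ i₂) * (x ≫ g) = h₁ ≫ i₁) := by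
    intro X g
    rw [hT, hC₂', hC₁, hC₂]
    simp only [GrpObj.comp_inv, _root_.inv_inv]
    exact ⟨fun h X' x => ⟨h.1 X' x, h.2 X' x⟩, fun h => ⟨fun X' x => (h X' x).1, fun X' x => (h X' x).2⟩⟩
  refine ⟨T, j, hj, smooth_of_lift j fun A _ I hI b g₀ h0 => ?_, hT'⟩
  obtain ⟨g, hg, hg1, hg2⟩ := exists_transporterEq_lift (locally_of_isMultTypeFT' H₁ hH₁)
    (locally_of_isMultTypeFT' H₂ hH₂) hG i₁ i₂ A I hI b g₀ (fun X' x => (((hT' _ _).1 h0) X' x).1)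
    (fun X' x => (((hT' _ _).1 h0) X' x).2)
  exact ⟨g, hg, (hT' _ _).2 fun X' x => ⟨hg1 X' x, hg2 X' x⟩⟩

end Groth.Agent.MTBridge
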